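import Cfsg.Agent.H55.SLThree.Scalar

/-!
An abelian subgroup normalised by the norm-one torus lies in the cubic field.
-/

set_option autoImplicit false
set_option linter.style.haveILetI false

namespace Cfsg.Agent.H55.SLThree

open Module Matrix Cfsg.Agent.H95

open scoped MatrixGroups

variable {F : Type*} [Field F] {E : Type*} [Field E] [Algebra F E]

variable [Fintype F] [Fintype E] (ι : E →ₐ[F] Matrix (Fin 3) (Fin 3) F)

/-- Subspaces invariant under a non-scalar element of the field are trivial. -/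
theorem invariant_top (hE : finrank F E = 3) {x : E} (hx : x ∉ Set.range (algebraMap F E))
    (W : Submodule F (Fin 3 → F)) (hW : ∀ v ∈ W, ι x *ᵥ v ∈ W) (hne : W ≠ ⊥) : W = ⊤ := by
  let S : Subalgebra F E :=
    { carrier := {e | ∀ v ∈ W, ι e *ᵥ v ∈ W}
      mul_mem' := fun {e e'} he he' v hv => by
        rw [map_mul, ← mulVec_mulVec]; exact he _ (he' v hv)
      one_mem' := fun v hv => by rw [map_one, one_mulVec]; exact hv
      add_mem' := fun {e e'} he he' v hv => by rw [map_add, add_mulVec]; exact W.add_mem (he v hv) (he' v hv)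
      zero_mem' := fun v _ => by rw [map_zero, zero_mulVec]; exact W.zero_mem
      algebraMap_mem' := fun r v hv => by
        rw [AlgHom.commutes, Algebra.algebraMap_eq_smul_one, smul_mulVec, one_mulVec]
        exact W.smul_mem r hv }
  have hS : ∀ e, e ∈ S := fun e => (eq_top_of_mem hE hx S hW).symm ▸ Algebra.mem_top
  obtain ⟨w, hw, hw0⟩ := W.exists_mem_ne_zero_of_ne_bot hne
  obtain ⟨y, rfl⟩ := ev_surjective ι hE w
  refine eq_top_iff.2 fun v _ => ?_
  obtain ⟨u, rfl⟩ := ev_surjective ι hE v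
  have hy : y ≠ 0 := fun h => hw0 (by rw [h, map_zero])
  have := hS (u * y⁻¹) _ hw
  rwa [ev_mul, inv_mul_cancel_right₀ hy] at this

theorem eq_zero_of_nilpotent (hE : finrank F E = 3) {x : E} (hx : x ∉ Set.range (algebraMap F E))
    (A : Subalgebra F (Matrix (Fin 3) (Fin 3) F)) (hc : ∀ a ∈ A, ∀ b ∈ A, Commute a b)
    (X : GL (Fin 3) F) (hX : (X : Matrix (Fin 3) (Fin 3) F) = ι x)
    (hst : ∀ m ∈ A, ((X⁻¹ : GL (Fin 3) F) : Matrix (Fin 3) (Fin 3) F) * m * (X : Matrix (Fin 3) (Fin 3) F) ∈ A)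
    {n : Matrix (Fin 3) (Fin 3) F} (hnA : n ∈ A) (hn : IsNilpotent n) : n = 0 := by
  classical
  let W : Submodule F (Fin 3 → F) :=
    ⨅ m ∈ {m : Matrix (Fin 3) (Fin 3) F | m ∈ A ∧ IsNilpotent m}, LinearMap.ker (toLin' m)
  have hmem : ∀ v, v ∈ W ↔ ∀ m, m ∈ A → IsNilpotent m → m *ᵥ v = 0 := fun v => by simp [W]
  have hWX : ∀ v ∈ W, ι x *ᵥ v ∈ W := by
    intro v hv
    rw [hmem]
    intro m hmA hm
    have hm' : IsNilpotent (((X⁻¹ : GL (Fin 3) F) : Matrix (Fin 3) (Fin 3) F) * m * X) := by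
      obtain ⟨k, hk⟩ := hm
      exact ⟨k, by rw [Units.conj_pow', hk, mul_zero, zero_mul]⟩
    have h0 := (hmem v).1 hv _ (hst m hmA) hm'
    have h1 := congrArg ((X : Matrix (Fin 3) (Fin 3) F) *ᵥ ·) h0
    simp only [mulVec_zero, mulVec_mulVec] at h1
    rw [← mul_assoc, ← mul_assoc, Units.mul_inv, one_mul, hX, ← mulVec_mulVec] at h1
    exact h1
  have hWne : W ≠ ⊥ := by
    let T := Finset.univ.filter fun m : Matrix (Fin 3) (Fin 3) F => m ∈ A ∧ IsNilpotent m
    let J : (Fin 3 → F) → Finset (Fin 3 → F) := fun v => T.image fun m => m *ᵥ v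
    obtain ⟨v, hv, hmin⟩ := Finset.exists_min_image (Finset.univ.filter fun v : Fin 3 → F => v ≠ 0)
      (fun v => (J v).card) ⟨Pi.single 0 1, by simp⟩
    rw [Finset.mem_filter] at hv
    rw [Ne, Submodule.eq_bot_iff]
    push Not
    refine ⟨v, (hmem v).2 fun m hmA hm => ?_, hv.2⟩
    by_contra hne
    refine absurd (hmin _ (Finset.mem_filter.2 ⟨Finset.mem_univ _, hne⟩)) (not_le.2 (Finset.card_lt_card ?_))
    rw [Finset.ssubset_iff_of_subset]
    · refine ⟨m *ᵥ v, Finset.mem_image.2 ⟨m, Finset.mem_filter.2 ⟨Finset.mem_univ _, hmA, hm⟩, rfl⟩,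
        fun hin => ?_⟩
      obtain ⟨j, hj, hje⟩ := Finset.mem_image.1 hin
      obtain ⟨u, hu⟩ := (Finset.mem_filter.1 hj).2.2.isUnit_one_sub
      apply hne
      have h0 : (1 - j) *ᵥ (m *ᵥ v) = 0 := by rw [sub_mulVec, one_mulVec, hje, sub_self]
      have h1 := congrArg (((u⁻¹ : _ˣ) : Matrix (Fin 3) (Fin 3) F) *ᵥ ·) h0
      simp only [mulVec_zero] at h1
      rwa [mulVec_mulVec, ← hu, Units.inv_mul, one_mulVec] at h1
    · intro w hw
      obtain ⟨j, hj, rfl⟩ := Finset.mem_image.1 hw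
      obtain ⟨hjA, hj⟩ := (Finset.mem_filter.1 hj).2
      exact Finset.mem_image.2 ⟨j * m, Finset.mem_filter.2 ⟨Finset.mem_univ _, A.mul_mem hjA hmA,
        (hc j hjA m hmA).isNilpotent_mul_right hj⟩, (mulVec_mulVec _ _ _).symm⟩
  have htop := invariant_top ι hE hx W hWX hWne
  exact mat_ext fun v => by rw [(hmem v).1 (htop ▸ Submodule.mem_top) n hnA hn, zero_mulVec]

omit [Fintype E] in
theorem finrank_le_three (A : Subalgebra F (Matrix (Fin 3) (Fin 3) F)) (hc : ∀ a ∈ A, ∀ b ∈ A, Commute a b)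
    (hred : ∀ a ∈ A, IsNilpotent a → a = 0) : finrank F A ≤ 3 := by
  classical
  let ann : (Fin 3 → F) → Finset (Matrix (Fin 3) (Fin 3) F) := fun v =>
    Finset.univ.filter fun m => m ∈ A ∧ m *ᵥ v = 0
  obtain ⟨v, -, hmin⟩ := Finset.exists_min_image (Finset.univ : Finset (Fin 3 → F)) (fun v => (ann v).card)
    Finset.univ_nonempty
  have hinj : ∀ a ∈ A, a *ᵥ v = 0 → a = 0 := by
    intro a haA ha
    by_contra hne
    obtain ⟨i, j, hij, he⟩ := Finite.exists_ne_map_eq_of_infinite (fun n : ℕ => a ^ (n + 1))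
    wlog hlt : i < j generalizing i j
    · exact this j i hij.symm he.symm (lt_of_le_of_ne (not_lt.1 hlt) hij.symm)
    obtain ⟨k, rfl⟩ : ∃ k, j = i + (k + 1) := ⟨j - i - 1, by omega⟩
    have hak : a ^ (k + 2) = a := by
      have hcm : Commute a (1 - a ^ (k + 1)) := (Commute.one_right a).sub_right (Commute.self_pow a _)
      have hnil : IsNilpotent (a * (1 - a ^ (k + 1))) := by
        refine ⟨i + 1, ?_⟩
        have h0 : a ^ (i + 1) * (1 - a ^ (k + 1)) = 0 := by
          rw [mul_sub, mul_one, ← pow_add, sub_eq_zero, he]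
          congr 1
          omega
        rw [hcm.mul_pow, pow_succ' (1 - a ^ (k + 1)), ← mul_assoc, h0, zero_mul]
      have h0 := hred _ (A.mul_mem haA (A.sub_mem A.one_mem (A.pow_mem haA _))) hnil
      rw [mul_sub, mul_one, sub_eq_zero, ← pow_succ'] at h0
      exact h0.symm
    set e := a ^ (k + 1) with he'
    have heA : e ∈ A := A.pow_mem haA _
    have hea : e * a = a := by rw [he', ← pow_succ]; exact hak
    have hee : e * e = e := by
      conv_lhs => arg 2; rw [he', pow_succ']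
      rw [← mul_assoc, hea, he', pow_succ']
    have hev : e *ᵥ v = 0 := by rw [he', pow_succ, ← mulVec_mulVec, ha, mulVec_zero]
    obtain ⟨u, hu⟩ : ∃ u, a *ᵥ u ≠ 0 := by
      by_contra hc'
      push Not at hc'
      exact hne (mat_ext fun w => by rw [hc' w, zero_mulVec])
    refine absurd (hmin (v + e *ᵥ u) (Finset.mem_univ _)) (not_le.2 (Finset.card_lt_card ?_))
    rw [Finset.ssubset_iff_of_subset]
    · refine ⟨a, Finset.mem_filter.2 ⟨Finset.mem_univ _, haA, ha⟩, fun hin => hu ?_⟩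
      have h := (Finset.mem_filter.1 hin).2.2
      rw [mulVec_add, ha, zero_add, mulVec_mulVec, (hc a haA e heA).eq, hea] at h
      exact h
    · intro b hb
      obtain ⟨hbA, hb⟩ := (Finset.mem_filter.1 hb).2
      have h1 := congrArg (e *ᵥ ·) hb
      simp only [mulVec_add, mulVec_zero, mulVec_mulVec] at h1
      rw [← mul_assoc, (hc e heA b hbA).eq, mul_assoc b e e, hee, ← mulVec_mulVec v b e, hev, mulVec_zero,
        zero_add] at h1
      rw [mulVec_add, mulVec_mulVec, h1, add_zero] at hb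
      exact Finset.mem_filter.2 ⟨Finset.mem_univ _, hbA, hb⟩
  let f : A →ₗ[F] (Fin 3 → F) :=
    (LinearMap.applyₗ v) ∘ₗ Matrix.toLin'.toLinearMap ∘ₗ A.val.toLinearMap
  have hfin := LinearMap.finrank_le_finrank_of_injective (f := f)
    ((injective_iff_map_eq_zero f).2 fun a ha => Subtype.ext (hinj a a.2 ha))
  rwa [finrank_fin_fun] at hfin

variable {M : Subgroup (GL (Fin 3) F)}

/-- An abelian normal subgroup of `M` lies in the field. -/
theorem range_of_commutative (hE : finrank F E = 3) (hT : ∀ x : Eˣ, Algebra.norm F (x : E) = 1 → tor ι x ∈ M)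
    {L : Subgroup (GL (Fin 3) F)} (hLn : ∀ g ∈ M, ∀ l ∈ L, g * l * g⁻¹ ∈ L)
    (hab : ∀ a ∈ L, ∀ b ∈ L, a * b = b * a) {l : GL (Fin 3) F} (hl : l ∈ L) :
    ∃ e : E, ι e = l := by
  classical
  obtain ⟨x, hN, hpow⟩ := exists_torus_gen (F := F) (E := E) hE
  have hq1 : 1 < Fintype.card F := Fintype.one_lt_card
  have hsz : ∀ k : ℕ, 0 < k → k ≤ 6 → ¬ Fintype.card F ^ 2 + Fintype.card F + 1 ∣ 3 * k := by
    intro k hk hk6 hd
    have hle := Nat.le_of_dvd (by omega) hd
    have hq : Fintype.card F ≤ 3 := by nlinarith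
    interval_cases (Fintype.card F) <;> omega
  have hx1 : (x : E) ∉ Set.range (algebraMap F E) := by simpa using hpow 1 (hsz 1 one_pos (by norm_num))
  let S : Set (Matrix (Fin 3) (Fin 3) F) := (fun g : GL (Fin 3) F => (g : Matrix (Fin 3) (Fin 3) F)) '' L
  let A : Subalgebra F (Matrix (Fin 3) (Fin 3) F) := Algebra.adjoin F S
  have hA1 : A ≤ Subalgebra.centralizer F S := Algebra.adjoin_le (by
    rintro _ ⟨a, ha, rfl⟩
    rw [SetLike.mem_coe, Subalgebra.mem_centralizer_iff]
    rintro _ ⟨b, hb, rfl⟩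
    simpa using congrArg (fun g : GL (Fin 3) F => (g : Matrix (Fin 3) (Fin 3) F)) (hab b hb a ha))
  have hA2 : A ≤ Subalgebra.centralizer F (A : Set (Matrix (Fin 3) (Fin 3) F)) := Algebra.adjoin_le (by
    intro s hs
    rw [SetLike.mem_coe, Subalgebra.mem_centralizer_iff]
    intro m hm
    exact ((Subalgebra.mem_centralizer_iff F).1 (hA1 hm) s hs).symm)
  letI : CommRing A :=
    { (inferInstance : Ring A) with
      mul_comm := fun a b => Subtype.ext ((Subalgebra.mem_centralizer_iff F).1 (hA2 b.2) _ a.2) }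
  have hstab : ∀ g ∈ M, ∀ m ∈ A, (g : Matrix (Fin 3) (Fin 3) F) * m *
      ((g⁻¹ : GL (Fin 3) F) : Matrix (Fin 3) (Fin 3) F) ∈ A := by
    intro g hg m hm
    induction hm using Algebra.adjoin_induction with
    | mem s hs =>
      obtain ⟨a, ha, rfl⟩ := hs
      exact Algebra.subset_adjoin ⟨g * a * g⁻¹, hLn g hg a ha, by simp⟩
    | algebraMap r =>
      rw [(Algebra.commutes r _).symm, mul_assoc, Units.mul_inv, mul_one]
      exact A.algebraMap_mem r
    | add a b _ _ h h' => rw [mul_add, add_mul]; exact A.add_mem h h'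
    | mul a b _ _ h h' =>
      have e : (g : Matrix (Fin 3) (Fin 3) F) * (a * b) * ((g⁻¹ : GL (Fin 3) F) : Matrix (Fin 3) (Fin 3) F) =
          ((g : Matrix (Fin 3) (Fin 3) F) * a * ((g⁻¹ : GL (Fin 3) F) : Matrix (Fin 3) (Fin 3) F)) *
          ((g : Matrix (Fin 3) (Fin 3) F) * b * ((g⁻¹ : GL (Fin 3) F) : Matrix (Fin 3) (Fin 3) F)) := by
        simp only [mul_assoc]
        rw [← mul_assoc ((g⁻¹ : GL (Fin 3) F) : Matrix (Fin 3) (Fin 3) F), Units.inv_mul, one_mul]
      rw [e]
      exact A.mul_mem h h'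
  set X := tor ι x with hX
  have hXM : X ∈ M := hT x hN
  have hcomm : ∀ a ∈ A, ∀ b ∈ A, Commute a b := fun a ha b hb =>
    (Subalgebra.mem_centralizer_iff F).1 (hA2 hb) a ha
  have hnil : ∀ n ∈ A, IsNilpotent n → n = 0 := fun n hnA hn =>
    eq_zero_of_nilpotent ι hE hx1 A hcomm X rfl (fun m hm => by
      have h := hstab _ (M.inv_mem hXM) m hm
      rwa [inv_inv] at h) hnA hn
  have hred : IsReduced A := by
    refine ⟨fun n hn => Subtype.ext (hnil _ n.2 ?_)⟩
    exact hn.map A.val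
  have hdim : finrank F A ≤ 3 := finrank_le_three A hcomm hnil
  -- conjugation by `x ^ 6` fixes `A`
  let τ0 : A →ₐ[F] A :=
    { toFun := fun m => ⟨_, hstab X hXM m m.2⟩
      map_one' := Subtype.ext (by simp)
      map_mul' := fun a b => Subtype.ext (by simp [mul_assoc])
      map_zero' := Subtype.ext (by simp)
      map_add' := fun a b => Subtype.ext (by simp [mul_add, add_mul])
      commutes' := fun r => Subtype.ext (by
        simp only [Subalgebra.coe_algebraMap]
        rw [(Algebra.commutes r _).symm, mul_assoc, Units.mul_inv, mul_one]) }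
  have hτ0 : ∀ m : A, (τ0 m : Matrix (Fin 3) (Fin 3) F) =
      (X : Matrix (Fin 3) (Fin 3) F) * m * ((X⁻¹ : GL (Fin 3) F) : Matrix (Fin 3) (Fin 3) F) := fun m => rfl
  have hτinj : Function.Injective τ0 := fun m m' h => Subtype.ext (by
    have h1 := congrArg (fun y : A => (y : Matrix (Fin 3) (Fin 3) F)) h
    simp only [hτ0] at h1
    exact (Units.mul_right_inj X).1 ((Units.mul_left_inj X⁻¹).1 h1))
  have hτsurj : Function.Surjective τ0 := Finite.injective_iff_surjective.1 hτinj
  let H := A →ₐ[F] AlgebraicClosure F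
  haveI : Fintype H := Fintype.ofFinite _
  let π : H → H := fun χ => χ.comp τ0
  have hπ : Function.Bijective π := Finite.injective_iff_bijective.1 fun χ χ' h => AlgHom.ext fun m => by
    obtain ⟨m', rfl⟩ := hτsurj m
    exact DFunLike.congr_fun h m'
  have hsix : (Equiv.ofBijective π hπ) ^ 6 = 1 := by
    refine orderOf_dvd_iff_pow_eq_one.1 ((orderOf_dvd_card).trans ?_)
    rw [Fintype.card_perm]
    have : Fintype.card H ≤ 3 := by
      rw [← Nat.card_eq_fintype_card]
      exact (card_algHom_le_finrank F A (AlgebraicClosure F)).trans hdim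
    exact Nat.factorial_dvd_factorial this
  have hiter : ∀ (k : ℕ) (χ : H) (m : A), ((Equiv.ofBijective π hπ) ^ k) χ m = χ (τ0^[k] m) := by
    intro k
    induction k with
    | zero => intro χ m; rfl
    | succ k ih =>
      intro χ m
      rw [pow_succ, Equiv.Perm.mul_apply, ih, Function.iterate_succ_apply']
      rfl
  have hfix : ∀ m : A, τ0^[6] m = m := by
    intro m
    rw [← sub_eq_zero]
    refine IsReduced.eq_zero _ (nilpotent_iff_mem_prime.2 fun P hP => ?_)
    rw [← Ideal.Quotient.eq_zero_iff_mem, map_sub (Ideal.Quotient.mk P), sub_eq_zero]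
    haveI : IsDomain (A ⧸ P) := Ideal.Quotient.isDomain P
    letI : Field (A ⧸ P) := (Finite.isField_of_domain (A ⧸ P)).toField
    haveI : Module.Finite F (A ⧸ P) := Module.Finite.of_finite
    let j : (A ⧸ P) →ₐ[F] AlgebraicClosure F := IsAlgClosed.lift
    apply j.injective
    have h1 := hiter 6 (j.comp (Ideal.Quotient.mkₐ F P)) m
    rw [hsix, Equiv.Perm.one_apply] at h1
    exact h1.symm
  have hτpow : ∀ (k : ℕ) (m : A), ((τ0^[k] m : A) : Matrix (Fin 3) (Fin 3) F) =
      ((X ^ k : GL (Fin 3) F) : Matrix (Fin 3) (Fin 3) F) * m *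
        (((X ^ k)⁻¹ : GL (Fin 3) F) : Matrix (Fin 3) (Fin 3) F) := by
    intro k
    induction k with
    | zero => intro m; simp
    | succ k ih =>
      intro m
      rw [Function.iterate_succ_apply', hτ0, ih, pow_succ', _root_.mul_inv_rev, Units.val_mul, Units.val_mul]
      simp only [mul_assoc]
  have h6 := hpow 6 (hsz 6 (by norm_num) le_rfl)
  refine mem_range_of_commute ι hE h6 ?_
  have hlA : (l : Matrix (Fin 3) (Fin 3) F) ∈ A := Algebra.subset_adjoin ⟨l, hl, rfl⟩
  have h := congrArg (fun y : A => (y : Matrix (Fin 3) (Fin 3) F)) (hfix ⟨_, hlA⟩)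
  simp only [hτpow] at h
  have hX6 : ((X ^ 6 : GL (Fin 3) F) : Matrix (Fin 3) (Fin 3) F) = ι ((x : E) ^ 6) := by
    rw [hX, map_pow]; simp
  rw [← hX6]
  conv_lhs => rw [← h]
  rw [mul_assoc, Units.inv_mul, mul_one]

end Cfsg.Agent.H55.SLThree
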