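import Mathlib

/-!
Points and lines of the projective plane of a cubic extension `E/F`: lines are kernels of `z ↦ τ (a z)`
for a fixed functional `τ`.
-/

set_option autoImplicit false
set_option linter.style.haveILetI false

namespace Cfsg.Agent.H55.SLThree

open Module

variable {F : Type*} [Field F] {E : Type*} [Field E] [Algebra F E]

theorem eq_top_of_mem (hE : finrank F E = 3) {x : E} (hx : x ∉ Set.range (algebraMap F E))
    (A : Subalgebra F E) (hA : x ∈ A) : A = ⊤ := by
  haveI := Subalgebra.isSimpleOrder_of_finrank_prime F E (hE ▸ Nat.prime_three)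
  rcases eq_bot_or_eq_top A with h | h
  · rw [h, Algebra.mem_bot] at hA
    exact absurd hA hx
  · exact h

theorem coeff_eq_zero (hE : finrank F E = 3) {x : E} (hx : x ∉ Set.range (algebraMap F E)) {a b c : F}
    (h : a • x ^ 2 + b • x + c • (1 : E) = 0) : a = 0 ∧ b = 0 ∧ c = 0 := by
  haveI : FiniteDimensional F E := Module.finite_of_finrank_pos (by omega)
  have hint : IsIntegral F x := Algebra.IsIntegral.isIntegral x
  have hdeg : (minpoly F x).natDegree = 3 := by
    rcases Nat.prime_three.eq_one_or_self_of_dvd _ (hE ▸ minpoly.degree_dvd hint) with h1 | h1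
    · exact absurd (minpoly.natDegree_eq_one_iff.1 h1) hx
    · exact h1
  open Polynomial in
  let p : F[X] := C a * X ^ 2 + C b * X + C c
  have hp : Polynomial.aeval x p = 0 := by
    simpa [p, Algebra.smul_def] using h
  have hp0 : p = 0 := by
    by_contra hne
    have h1 := Polynomial.natDegree_le_natDegree (minpoly.degree_le_of_ne_zero F x hne hp)
    have h2 : p.natDegree ≤ 2 := by
      simp only [p]
      compute_degree
    omega
  have e2 := congrArg (fun P => Polynomial.coeff P 2) hp0
  have e1 := congrArg (fun P => Polynomial.coeff P 1) hp0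
  have e0 := congrArg (fun P => Polynomial.coeff P 0) hp0
  simp [p, Polynomial.coeff_X, Polynomial.coeff_C] at e0 e1 e2
  exact ⟨e2, e1, e0⟩

theorem mem_range_of_sq (hE : finrank F E = 3) {x : E} {c : F} (h : x ^ 2 = algebraMap F E c) :
    x ∈ Set.range (algebraMap F E) := by
  by_contra hx
  have := (coeff_eq_zero hE hx (a := 1) (b := 0) (c := -c) (by
    rw [h, Algebra.algebraMap_eq_smul_one]; module)).1
  exact one_ne_zero this

/-- Inversion maps no three collinear points to collinear points. -/
theorem no_three_inverse (hE : finrank F E = 3) {u v : E} (hu : u ≠ 0) (hv : v ≠ 0)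
    (huv : u / v ∉ Set.range (algebraMap F E)) (c d : F) :
    (u + v)⁻¹ ≠ c • u⁻¹ + d • v⁻¹ := by
  intro h
  have hs : u + v ≠ 0 := by
    intro h0
    apply huv
    exact ⟨-1, by rw [eq_div_iff hv, map_neg, map_one, neg_one_mul, ← eq_neg_of_add_eq_zero_left h0]⟩
  have key : d • (u / v) ^ 2 + (c + d - 1) • (u / v) + c • (1 : E) = 0 := by
    simp only [Algebra.smul_def, map_sub, map_add, map_one] at h ⊢
    field_simp at h ⊢
    linear_combination -h
  obtain ⟨hd, -, hc⟩ := coeff_eq_zero hE huv key
  subst hd hc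
  rw [zero_smul, zero_smul, add_zero, inv_eq_zero] at h
  exact hs h

variable (τ : E →ₗ[F] F)

/-- The line `{z | τ (a z) = 0}`. -/
def line (a : E) : Submodule F E := LinearMap.ker (τ ∘ₗ LinearMap.mulLeft F a)

@[simp] theorem mem_line {a z : E} : z ∈ line τ a ↔ τ (a * z) = 0 := by simp [line]

theorem finrank_line (hE : finrank F E = 3) (hτ : τ ≠ 0) {a : E} (ha : a ≠ 0) :
    finrank F (line τ a) = 2 := by
  haveI : FiniteDimensional F E := Module.finite_of_finrank_pos (by omega)
  have hne : τ ∘ₗ LinearMap.mulLeft F a ≠ 0 := fun h => hτ <| LinearMap.ext fun z => by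
    simpa [mul_inv_cancel_left₀ ha] using LinearMap.congr_fun h (a⁻¹ * z)
  have h1 := Module.Dual.finrank_ker_add_one_of_ne_zero hne
  show finrank F (LinearMap.ker (τ ∘ₗ LinearMap.mulLeft F a)) = 2
  omega

/-- The functionals `z ↦ τ (a z)`, `τ (b z)` are independent, so their common kernel is a line of `E`. -/
theorem finrank_inf (hE : finrank F E = 3) (hτ : τ ≠ 0) {a b : E} (ha : a ≠ 0)
    (hab : ∀ u : F, b ≠ u • a) : finrank F (line τ a ⊓ line τ b : Submodule F E) = 1 := by
  haveI : FiniteDimensional F E := Module.finite_of_finrank_pos (by omega)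
  have hb : b ≠ 0 := fun h => hab 0 (by rw [h, zero_smul])
  have hne : line τ a ≠ line τ b := by
    intro heq
    obtain ⟨z, hz⟩ : ∃ z, τ (a * z) ≠ 0 := by
      by_contra h
      push Not at h
      exact hτ <| LinearMap.ext fun z => by simpa [mul_inv_cancel_left₀ ha] using h (a⁻¹ * z)
    set u := τ (b * z) / τ (a * z)
    refine hab u (sub_eq_zero.1 ?_)
    by_contra hc
    obtain ⟨w, hw⟩ : ∃ w, τ ((b - u • a) * w) ≠ 0 := by
      by_contra h
      push Not at h
      exact hτ <| LinearMap.ext fun z => by simpa [mul_inv_cancel_left₀ hc] using h ((b - u • a)⁻¹ * z)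
    apply hw
    have hlin : ∀ y, τ ((b - u • a) * y) = τ (b * y) - u * τ (a * y) := fun y => by
      rw [sub_mul, smul_mul_assoc, map_sub, map_smul, smul_eq_mul]
    set t := τ (a * w) / τ (a * z)
    have hw' : w - t • z ∈ line τ a := by
      rw [mem_line, mul_sub, mul_smul_comm, map_sub, map_smul, smul_eq_mul, div_mul_cancel₀ _ hz, sub_self]
    rw [heq, mem_line, mul_sub, mul_smul_comm, map_sub, map_smul, smul_eq_mul, sub_eq_zero] at hw'
    rw [hlin, hw']
    simp only [u, t]
    field_simp
    ring
  have h1 := Submodule.finrank_sup_add_finrank_inf_eq (line τ a) (line τ b)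
  have h2 := finrank_line τ hE hτ ha
  have h3 := finrank_line τ hE hτ hb
  have h4 : finrank F (line τ a ⊔ line τ b : Submodule F E) ≤ 3 := hE ▸ Submodule.finrank_le _
  have h5 : finrank F (line τ a) < finrank F (line τ a ⊔ line τ b : Submodule F E) := by
    refine Submodule.finrank_lt_finrank_of_lt (lt_of_le_of_ne le_sup_left fun h => hne ?_)
    exact (Submodule.eq_of_le_of_finrank_eq (h ▸ le_sup_right) (h3.trans h2.symm)).symm
  omega

theorem exists_smul_of_two (hE : finrank F E = 3) (hτ : τ ≠ 0) {a b x y : E} (ha : a ≠ 0)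
    (hab : ∀ u : F, b ≠ u • a) (hx : x ≠ 0) (h1 : τ (a * x) = 0) (h2 : τ (b * x) = 0)
    (h3 : τ (a * y) = 0) (h4 : τ (b * y) = 0) : ∃ u : F, y = u • x := by
  have h := finrank_inf τ hE hτ ha hab
  obtain ⟨u, hu⟩ := (finrank_eq_one_iff_of_nonzero' (⟨x, by simp [h1, h2]⟩ : (line τ a ⊓ line τ b : Submodule F E))
    (fun hh => hx (congrArg Subtype.val hh))).1 h ⟨y, by simp [h3, h4]⟩
  exact ⟨u, (congrArg Subtype.val hu).symm⟩

/-- The points of the line through `u` and `v`. -/
def pt (u v : E) : Option F → E
  | none => u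
  | some t => v + t • u

/-- `u, v` is a basis of the line of `a`. -/
structure IsBase (a u v : E) : Prop where
  left_mem : τ (a * u) = 0
  right_mem : τ (a * v) = 0
  left_ne : u ≠ 0
  indep : ∀ t : F, v ≠ t • u

variable {τ} {a u v : E}

theorem IsBase.coeff_zero (h : IsBase τ a u v) {α β : F} (he : α • u + β • v = 0) : α = 0 ∧ β = 0 := by
  rcases eq_or_ne β 0 with rfl | hβ
  · rw [zero_smul, add_zero] at he
    exact ⟨(smul_eq_zero.1 he).resolve_right h.left_ne, rfl⟩
  · refine absurd ?_ (h.indep (-(α / β)))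
    rw [← inv_smul_smul₀ hβ v, eq_neg_of_add_eq_zero_right he, smul_neg, smul_smul, neg_smul]
    congr 2
    field_simp

theorem IsBase.pt_mem (h : IsBase τ a u v) (o : Option F) : τ (a * pt u v o) = 0 := by
  cases o <;> simp [pt, mul_add, mul_smul_comm, h.left_mem, h.right_mem]

theorem IsBase.pt_ne_zero (h : IsBase τ a u v) (o : Option F) : pt u v o ≠ 0 := by
  cases o with
  | none => exact h.left_ne
  | some t =>
    intro h0
    exact one_ne_zero (h.coeff_zero (α := t) (β := 1) (by rw [one_smul, add_comm]; exact h0)).2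

theorem IsBase.smul_pt_inj (h : IsBase τ a u v) {r r' : F} (hr : r ≠ 0) {o o' : Option F}
    (he : r • pt u v o = r' • pt u v o') : r = r' ∧ o = o' := by
  cases o with
  | none =>
    cases o' with
    | none => exact ⟨smul_left_injective F h.left_ne he, rfl⟩
    | some t' =>
      have h1 := h.coeff_zero (α := r - r' * t') (β := -r') (by
        simp only [pt] at he
        rw [sub_smul, he]; module)
      obtain ⟨h1, h2⟩ := h1
      rw [neg_eq_zero] at h2
      subst h2
      simp at h1
      exact absurd h1 hr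
  | some t =>
    cases o' with
    | none =>
      exact absurd (h.coeff_zero (α := r * t - r') (β := r) (by
        simp only [pt] at he
        rw [sub_smul, ← he]; module)).2 hr
    | some t' =>
      obtain ⟨h1, h2⟩ := h.coeff_zero (α := r * t - r' * t') (β := r - r') (by
        simp only [pt] at he
        linear_combination (norm := module) he)
      rw [sub_eq_zero] at h2
      subst h2
      rw [← mul_sub, mul_eq_zero, sub_eq_zero] at h1
      exact ⟨rfl, by rw [h1.resolve_left hr]⟩

theorem IsBase.exists_smul_pt (hE : finrank F E = 3) (hτ : τ ≠ 0) (ha : a ≠ 0) (h : IsBase τ a u v)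
    {z : E} (hz : τ (a * z) = 0) (hz0 : z ≠ 0) : ∃ r : F, r ≠ 0 ∧ ∃ o : Option F, z = r • pt u v o := by
  haveI : FiniteDimensional F E := Module.finite_of_finrank_pos (by omega)
  have hli : LinearIndependent F ![u, v] :=
    LinearIndependent.pair_iff.2 fun s t hst => h.coeff_zero hst
  have hle : Submodule.span F (Set.range ![u, v]) ≤ line τ a := Submodule.span_le.2 (by
    rintro _ ⟨i, rfl⟩
    fin_cases i <;> simp [h.left_mem, h.right_mem])
  have heq := Submodule.eq_of_le_of_finrank_eq hle (by
    rw [finrank_span_eq_card hli, finrank_line τ hE hτ ha]; rfl)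
  have hmem : z ∈ Submodule.span F (Set.range ![u, v]) := heq ▸ (mem_line τ).2 hz
  obtain ⟨c, hc⟩ := Submodule.mem_span_range_iff_exists_fun F |>.1 hmem
  rw [Fin.sum_univ_two] at hc
  simp only [Matrix.cons_val_zero, Matrix.cons_val_one] at hc
  rcases eq_or_ne (c 1) 0 with h1 | h1
  · refine ⟨c 0, fun h0 => hz0 ?_, none, ?_⟩
    · rw [← hc, h0, h1, zero_smul, zero_smul, add_zero]
    · rw [← hc, h1, zero_smul, add_zero]; rfl
  · refine ⟨c 1, h1, some (c 0 / c 1), ?_⟩
    rw [← hc, pt, smul_add, smul_smul, mul_div_cancel₀ _ h1, add_comm]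

theorem exists_isBase (hE : finrank F E = 3) (hτ : τ ≠ 0) {a u : E} (ha : a ≠ 0) (hu : u ≠ 0)
    (hau : τ (a * u) = 0) : ∃ v, IsBase τ a u v := by
  by_contra h
  push Not at h
  have hle : line τ a ≤ F ∙ u := fun z hz => by
    rw [Submodule.mem_span_singleton]
    by_contra hc
    push Not at hc
    exact h z ⟨hau, (mem_line τ).1 hz, hu, fun t => (hc t).symm⟩
  haveI : FiniteDimensional F E := Module.finite_of_finrank_pos (by omega)
  have h1 := Submodule.finrank_mono hle
  rw [finrank_span_singleton hu, finrank_line τ hE hτ ha] at h1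
  omega

theorem exists_line_pair (hE : finrank F E = 3) (hτ : τ ≠ 0) {a : E} (ha : a ≠ 0) :
    ∃ u v, IsBase τ a u v := by
  haveI : FiniteDimensional F E := Module.finite_of_finrank_pos (by omega)
  have h1 := finrank_line τ hE hτ ha
  obtain ⟨u, hu, hu0⟩ := (line τ a).exists_mem_ne_zero_of_ne_bot (fun h => by
    rw [h, finrank_bot] at h1; omega)
  exact ⟨u, exists_isBase hE hτ ha hu0 ((mem_line τ).1 hu)⟩

end Cfsg.Agent.H55.SLThree
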