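import Mathlib
import Cfsg.Agent.H55.SLThree.Line

/-!
Norm classes of points of a cubic extension plane and the intersection numbers of lines with them.
-/

set_option autoImplicit false
set_option linter.style.haveILetI false

namespace Cfsg.Agent.H55.SLThree

open Module Finset

variable {F : Type*} [Field F] [Fintype F] {E : Type*} [Field E] [Algebra F E]

/-- Cubic classes of `Fˣ`. -/
abbrev Cls (F : Type*) [Field F] : Type _ := Fˣ ⧸ (powMonoidHom 3 : Fˣ →* Fˣ).range

noncomputable instance : Fintype (Cls F) := Fintype.ofFinite _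

theorem card_cls : Fintype.card (Cls F) = Nat.gcd 3 (Fintype.card F - 1) := by
  classical
  rw [← Nat.card_eq_fintype_card, ← Subgroup.index_eq_card, IsCyclic.index_powMonoidHom_range,
    Nat.card_eq_fintype_card, Fintype.card_units, Nat.gcd_comm]

theorem card_cls_cases : Fintype.card (Cls F) = 1 ∨
    (Fintype.card (Cls F) = 3 ∧ Fintype.card F % 3 = 1) := by
  rw [card_cls]
  have h := Fintype.one_lt_card (α := F)
  rcases Nat.prime_three.eq_one_or_self_of_dvd _ (Nat.gcd_dvd_left 3 (Fintype.card F - 1)) with h1 | h1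
  · exact Or.inl h1
  · refine Or.inr ⟨h1, ?_⟩
    have : 3 ∣ Fintype.card F - 1 := h1 ▸ Nat.gcd_dvd_right _ _
    omega

open Classical in
/-- The cubic class of the norm. -/
noncomputable def cls (F : Type*) [Field F] {E : Type*} [Field E] [Algebra F E] (x : E) : Cls F :=
  if h : Algebra.norm F x = 0 then 1 else QuotientGroup.mk (Units.mk0 _ h)

theorem norm_ne [Finite E] {x : E} (hx : x ≠ 0) : Algebra.norm F x ≠ 0 := by
  haveI : Module.Finite F E := Module.Finite.of_finite
  exact Algebra.norm_ne_zero_iff.2 hx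

theorem cls_apply [Finite E] {x : E} (hx : x ≠ 0) :
    cls F x = QuotientGroup.mk (Units.mk0 _ (norm_ne (F := F) hx)) := dif_neg (norm_ne hx)

theorem cls_mul [Finite E] {x y : E} (hx : x ≠ 0) (hy : y ≠ 0) : cls F (x * y) = cls F x * cls F y := by
  rw [cls_apply (mul_ne_zero hx hy), cls_apply hx, cls_apply hy, ← QuotientGroup.mk_mul]
  congr 1
  exact Units.ext (map_mul _ _ _)

theorem norm_algebraMap' (hE : finrank F E = 3) (r : F) : Algebra.norm F (algebraMap F E r) = r ^ 3 := by
  rw [Algebra.norm_algebraMap, hE]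

theorem cls_algebraMap [Finite E] (hE : finrank F E = 3) {r : F} (hr : r ≠ 0) :
    cls F (algebraMap F E r) = 1 := by
  rw [cls_apply (by simpa using hr), QuotientGroup.eq_one_iff]
  exact ⟨Units.mk0 r hr, Units.ext (by simp [norm_algebraMap' hE])⟩

theorem cls_smul [Finite E] (hE : finrank F E = 3) {r : F} (hr : r ≠ 0) {x : E} (hx : x ≠ 0) :
    cls F (r • x) = cls F x := by
  rw [Algebra.smul_def, cls_mul (by simpa using hr) hx, cls_algebraMap hE hr, one_mul]

theorem cls_surjective [Finite E] (g : Cls F) : ∃ x : E, x ≠ 0 ∧ cls F x = g := by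
  obtain ⟨u, rfl⟩ := QuotientGroup.mk_surjective g
  obtain ⟨x, hx⟩ := FiniteField.norm_surjective F E (u : F)
  have hx0 : x ≠ 0 := fun h => u.ne_zero (by rw [← hx, h, Algebra.norm_zero])
  refine ⟨x, hx0, ?_⟩
  rw [cls_apply hx0]
  congr 1
  exact Units.ext hx

/-- Two points of the same class differ by an element of norm one. -/
theorem exists_norm_one [Finite E] (hE : finrank F E = 3) {x y : E} (hx : x ≠ 0) (hy : y ≠ 0)
    (h : cls F x = cls F y) : ∃ k : E, ∃ r : F, r ≠ 0 ∧ Algebra.norm F k = 1 ∧ y = r • (k * x) := by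
  rw [cls_apply hx, cls_apply hy, QuotientGroup.eq] at h
  obtain ⟨u, hu⟩ := h
  have hu' : (u : F) ^ 3 = (Algebra.norm F x)⁻¹ * Algebra.norm F y := by
    simpa [Units.ext_iff] using hu
  refine ⟨algebraMap F E (u : F)⁻¹ * (y / x), u, u.ne_zero, ?_, ?_⟩
  · have hx' := norm_ne (F := F) hx
    have hy' := norm_ne (F := F) hy
    have hm : Algebra.norm F (y / x) * Algebra.norm F x = Algebra.norm F y := by
      rw [← map_mul, div_mul_cancel₀ _ hx]
    rw [map_mul, norm_algebraMap' hE, inv_pow, hu', mul_inv, inv_inv]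
    field_simp
    linear_combination hm
  · rw [Algebra.smul_def, map_inv₀]
    have : algebraMap F E (u : F) ≠ 0 := by simp
    field_simp

variable [Fintype E] (τ : E →ₗ[F] F)

open Classical in
/-- The number of points of class `g` on the line of `1`. -/
noncomputable def nu (g : Cls F) : ℕ :=
  #(univ.filter fun z : E => z ≠ 0 ∧ τ z = 0 ∧ cls F z = g) / (Fintype.card F - 1)

variable {τ}

open Classical in
theorem card_line_filter (hE : finrank F E = 3) (hτ : τ ≠ 0) {a u v : E} (ha : a ≠ 0)
    (h : IsBase τ a u v) (P : E → Prop) [DecidablePred P] (hP : ∀ r : F, r ≠ 0 → ∀ z, z ≠ 0 → (P (r • z) ↔ P z)) :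
    #(univ.filter fun z : E => z ≠ 0 ∧ τ (a * z) = 0 ∧ P z) =
      (Fintype.card F - 1) * #(univ.filter fun o : Option F => P (pt u v o)) := by
  have hc : #(univ.filter fun r : F => r ≠ 0) = Fintype.card F - 1 := by
    rw [filter_ne', card_erase_of_mem (mem_univ _), card_univ]
  rw [← hc, ← card_product]
  symm
  refine card_bij (fun p _ => p.1 • pt u v p.2) ?_ ?_ ?_
  · intro p hp
    simp only [mem_product, mem_filter, mem_univ, true_and] at hp ⊢
    exact ⟨smul_ne_zero hp.1 (h.pt_ne_zero _), by rw [mul_smul_comm, map_smul, h.pt_mem, smul_zero],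
      (hP _ hp.1 _ (h.pt_ne_zero _)).2 hp.2⟩
  · intro p hp p' _ he
    simp only [mem_product, mem_filter, mem_univ, true_and] at hp
    obtain ⟨h1, h2⟩ := h.smul_pt_inj hp.1 he
    exact Prod.ext h1 h2
  · intro z hz
    simp only [mem_filter, mem_univ, true_and] at hz
    obtain ⟨r, hr, o, rfl⟩ := h.exists_smul_pt hE hτ ha hz.2.1 hz.1
    refine ⟨(r, o), ?_, rfl⟩
    simp only [mem_product, mem_filter, mem_univ, true_and]
    exact ⟨hr, (hP r hr _ (h.pt_ne_zero _)).1 hz.2.2⟩

open Classical in
theorem card_pt_eq (hE : finrank F E = 3) (hτ : τ ≠ 0) {a u v : E} (ha : a ≠ 0)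
    (h : IsBase τ a u v) (g : Cls F) :
    #(univ.filter fun o : Option F => cls F (pt u v o) = g) = nu τ (cls F a * g) := by
  have hq : 0 < Fintype.card F - 1 := by have := Fintype.one_lt_card (α := F); omega
  have h1 := card_line_filter hE hτ ha h (fun z => cls F z = g) (fun r hr z hz => by rw [cls_smul hE hr hz])
  have h2 : #(univ.filter fun z : E => z ≠ 0 ∧ τ z = 0 ∧ cls F z = cls F a * g) =
      #(univ.filter fun z : E => z ≠ 0 ∧ τ (a * z) = 0 ∧ cls F z = g) := by
    symm
    refine card_bij (fun z _ => a * z) ?_ (fun z _ z' _ he => mul_left_cancel₀ ha he) ?_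
    · intro z hz
      simp only [mem_filter, mem_univ, true_and] at hz ⊢
      exact ⟨mul_ne_zero ha hz.1, hz.2.1, by rw [cls_mul ha hz.1, hz.2.2]⟩
    · intro z hz
      simp only [mem_filter, mem_univ, true_and] at hz
      refine ⟨a⁻¹ * z, ?_, mul_inv_cancel_left₀ ha z⟩
      have hz' : a⁻¹ * z ≠ 0 := mul_ne_zero (inv_ne_zero ha) hz.1
      simp only [mem_filter, mem_univ, true_and]
      refine ⟨hz', by rw [mul_inv_cancel_left₀ ha]; exact hz.2.1, ?_⟩
      have := hz.2.2
      rw [show z = a * (a⁻¹ * z) from (mul_inv_cancel_left₀ ha z).symm, cls_mul ha hz'] at this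
      exact mul_left_cancel this
  rw [nu, h2]
  refine (Nat.div_eq_of_eq_mul_right hq ?_).symm
  convert h1 using 2
  all_goals (try (ext z; simp))

open Classical in
theorem card_pt_mem (hE : finrank F E = 3) (hτ : τ ≠ 0) {a u v : E} (ha : a ≠ 0)
    (h : IsBase τ a u v) (T : Finset (Cls F)) :
    #(univ.filter fun o : Option F => cls F (pt u v o) ∈ T) = ∑ g ∈ T, nu τ (cls F a * g) := by
  refine (card_eq_sum_card_fiberwise (f := fun o : Option F => cls F (pt u v o)) (t := T)
    (fun o ho => (mem_filter.1 ho).2)).trans ?_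
  refine sum_congr rfl fun g hg => ?_
  rw [← card_pt_eq hE hτ ha h g, filter_filter]
  congr 1
  exact filter_congr fun o _ => ⟨fun h => h.2, fun h => ⟨(congrArg (· ∈ T) h).mpr hg, h⟩⟩

theorem nu_sum (hE : finrank F E = 3) (hτ : τ ≠ 0) :
    ∑ g : Cls F, nu τ g = Fintype.card F + 1 := by
  classical
  obtain ⟨u, v, h⟩ := exists_line_pair (τ := τ) hE hτ (one_ne_zero (α := E))
  have h1 := card_pt_mem hE hτ one_ne_zero h univ
  have hc : cls F (1 : E) = 1 := by rw [← map_one (algebraMap F E)]; exact cls_algebraMap hE one_ne_zero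
  simp only [hc, one_mul, mem_univ, filter_true, card_univ, Fintype.card_option] at h1
  exact h1.symm

open Classical in
theorem card_nonzero (W : Submodule F E) :
    #(univ.filter fun z : E => z ≠ 0 ∧ z ∈ W) = Fintype.card F ^ finrank F W - 1 := by
  have h1 : Fintype.card F ^ finrank F W = Fintype.card W := (Module.card_eq_pow_finrank).symm
  rw [h1, Fintype.card_subtype, show (univ.filter fun z : E => z ≠ 0 ∧ z ∈ W) =
    (univ.filter fun z : E => z ∈ W).erase 0 from ?_, card_erase_of_mem (by simp)]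
  ext z
  simp

theorem nu_sq (hE : finrank F E = 3) (hτ : τ ≠ 0) (h3 : Fintype.card (Cls F) = 3) :
    3 * ∑ g : Cls F, nu τ g ^ 2 = Fintype.card F ^ 2 + 4 * Fintype.card F + 1 := by
  classical
  set q := Fintype.card F with hq
  have hq1 : 1 < q := Fintype.one_lt_card
  set A := univ.filter fun z : E => z ≠ 0 ∧ τ z = 0 with hA
  set K := univ.filter fun k : E => k ≠ 0 ∧ cls F k = 1 with hK
  obtain ⟨u, v, hb⟩ := exists_line_pair (τ := τ) hE hτ (one_ne_zero (α := E))
  have hc1 : cls F (1 : E) = 1 := by rw [← map_one (algebraMap F E)]; exact cls_algebraMap hE one_ne_zero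
  have hm : ∀ g, #(A.filter fun z => cls F z = g) = (q - 1) * nu τ g := fun g => by
    have h1 := card_line_filter hE hτ one_ne_zero hb (fun z => cls F z = g)
      (fun r hr z hz => by rw [cls_smul hE hr hz])
    have h2 := card_pt_eq hE hτ one_ne_zero hb g
    rw [hc1, one_mul] at h2
    rw [← h2]
    convert h1 using 2
    all_goals (try (ext z; simp [hA, and_assoc]))
  -- the kernel of the class map
  have hKcard : 3 * #K = q ^ 3 - 1 := by
    let f : Eˣ →* Cls F := (QuotientGroup.mk' _).comp (Units.map (Algebra.norm F (S := E)))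
    have hf : ∀ x : Eˣ, f x = cls F (x : E) := fun x => by
      rw [cls_apply x.ne_zero]
      exact congrArg QuotientGroup.mk (Units.ext rfl)
    have hsurj : Function.Surjective f := fun g => by
      obtain ⟨x, hx, hg⟩ := cls_surjective (E := E) g
      exact ⟨Units.mk0 x hx, by rw [hf]; exact hg⟩
    have h1 := Subgroup.card_mul_index f.ker
    rw [Subgroup.index_ker, MonoidHom.range_eq_top.2 hsurj, Subgroup.card_top,
      Nat.card_eq_fintype_card (α := Cls F), h3, Nat.card_eq_fintype_card (α := Eˣ), Fintype.card_units,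
      Module.card_eq_pow_finrank (K := F), hE] at h1
    have e : Nat.card f.ker = #K := by
      rw [← Nat.card_eq_finsetCard K]
      refine Nat.card_congr
        { toFun := fun x => ⟨((x : Eˣ) : E), by simp [hK, ← hf, MonoidHom.mem_ker.1 x.2]⟩
          invFun := fun k => ⟨Units.mk0 (k : E) ((mem_filter.1 k.2).2.1),
            MonoidHom.mem_ker.2 (by rw [hf]; exact (mem_filter.1 k.2).2.2)⟩
          left_inv := fun x => Subtype.ext (Units.ext rfl)
          right_inv := fun k => Subtype.ext rfl }
    rw [e, mul_comm] at h1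
    exact h1
  -- pairs of points of the line in the same class, counted twice
  have hpairs : ∑ g : Cls F, ((q - 1) * nu τ g) ^ 2 = ∑ k ∈ K, #(A.filter fun z => τ (k * z) = 0) := by
    have e1 : ∑ g : Cls F, ((q - 1) * nu τ g) ^ 2 =
        ∑ z ∈ A, #(A.filter fun w => cls F w = cls F z) := by
      rw [← sum_fiberwise A (fun z => cls F z) (fun z => #(A.filter fun w => cls F w = cls F z))]
      refine sum_congr rfl fun g _ => ?_
      rw [sum_congr rfl (fun z hz => by rw [(mem_filter.1 hz).2]), sum_const, hm, smul_eq_mul, sq]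
    have e2 : ∀ z ∈ A, #(A.filter fun w => cls F w = cls F z) = #(K.filter fun k => τ (k * z) = 0) := by
      intro z hz
      simp only [hA, mem_filter, mem_univ, true_and] at hz
      symm
      refine card_bij (fun k _ => k * z) ?_ (fun k _ k' _ h => mul_right_cancel₀ hz.1 h) ?_
      · intro k hk
        simp only [hA, hK, mem_filter, mem_univ, true_and] at hk ⊢
        exact ⟨⟨mul_ne_zero hk.1.1 hz.1, hk.2⟩, by rw [cls_mul hk.1.1 hz.1, hk.1.2, one_mul]⟩
      · intro w hw
        simp only [hA, mem_filter, mem_univ, true_and] at hw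
        have hk0 : w * z⁻¹ ≠ 0 := mul_ne_zero hw.1.1 (inv_ne_zero hz.1)
        refine ⟨w * z⁻¹, ?_, inv_mul_cancel_right₀ hz.1 w⟩
        simp only [hK, mem_filter, mem_univ, true_and, inv_mul_cancel_right₀ hz.1]
        refine ⟨⟨hk0, ?_⟩, hw.1.2⟩
        have := hw.2
        rw [← inv_mul_cancel_right₀ hz.1 w, cls_mul hk0 hz.1] at this
        exact mul_eq_right.1 this
    rw [e1, sum_congr rfl e2]
    simp only [card_filter]
    exact sum_comm
  -- the inner count
  set R := K.filter fun k => k ∈ Set.range (algebraMap F E) with hR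
  have hline : #A = q ^ 2 - 1 := by
    have h1 := card_nonzero (line τ (1 : E))
    rw [finrank_line τ hE hτ one_ne_zero] at h1
    rw [← h1, hA]
    congr 1
    exact filter_congr fun z _ => by simp
  have hin : ∀ k ∈ K, #(A.filter fun z => τ (k * z) = 0) = if k ∈ R then q ^ 2 - 1 else q - 1 := by
    intro k hk
    by_cases hr : k ∈ R
    · rw [if_pos hr, ← hline]
      obtain ⟨r, rfl⟩ := (mem_filter.1 hr).2
      congr 1
      refine filter_true_of_mem fun z hz => ?_
      rw [← Algebra.smul_def, map_smul, (mem_filter.1 hz).2.2, smul_zero]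
    · rw [if_neg hr]
      have hk' : ∀ u : F, k ≠ u • (1 : E) := fun u h =>
        hr (mem_filter.2 ⟨hk, u, by rw [h, Algebra.algebraMap_eq_smul_one]⟩)
      have h1 := card_nonzero (line τ (1 : E) ⊓ line τ k)
      rw [finrank_inf τ hE hτ one_ne_zero hk', pow_one] at h1
      rw [← h1, hA, filter_filter]
      congr 1
      exact filter_congr fun z _ => by simp [and_assoc]
  have hRcard : #R = q - 1 := by
    rw [show q - 1 = #(univ.filter fun r : F => r ≠ 0) by
      rw [filter_ne', card_erase_of_mem (mem_univ _), card_univ]]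
    symm
    refine card_bij (fun r _ => algebraMap F E r) ?_ (fun r _ r' _ h => (algebraMap F E).injective h) ?_
    · intro r hr
      have hr' := (mem_filter.1 hr).2
      exact mem_filter.2 ⟨mem_filter.2 ⟨mem_univ _, by simpa using hr', cls_algebraMap hE hr'⟩, r, rfl⟩
    · intro k hk
      obtain ⟨r, rfl⟩ := (mem_filter.1 hk).2
      exact ⟨r, mem_filter.2 ⟨mem_univ _, by simpa using (mem_filter.1 (mem_filter.1 hk).1).2.1⟩, rfl⟩
  rw [sum_congr rfl hin, sum_ite, filter_mem_eq_inter, inter_eq_right.2 (filter_subset _ _), sum_const,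
    sum_const, smul_eq_mul, smul_eq_mul, hRcard,
    show K.filter (fun k => k ∉ R) = K \ R from (sdiff_eq_filter K R).symm,
    card_sdiff_of_subset (filter_subset _ _), hRcard] at hpairs
  have hle : q - 1 ≤ #K := hRcard ▸ card_le_card (filter_subset _ _)
  simp only [mul_pow, ← mul_sum] at hpairs
  set N := ∑ g : Cls F, nu τ g ^ 2
  have h3 : q ^ 3 ≥ 1 := Nat.one_le_pow _ _ (by omega)
  have h2 : q ^ 2 ≥ 1 := Nat.one_le_pow _ _ (by omega)
  zify [hle, h3, h2, hq1.le] at hpairs hKcard ⊢
  have hne : ((q : ℤ) - 1) ^ 2 ≠ 0 := pow_ne_zero _ (by omega)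
  apply mul_left_cancel₀ hne
  linear_combination 3 * hpairs + ((q : ℤ) - 1) * hKcard

/-- The numerical consequences used in the classification. -/
theorem nu_facts (hE : finrank F E = 3) (hτ : τ ≠ 0) (hq4 : Fintype.card F ≠ 4) (g : Cls F) :
    nu τ g ≠ 0 ∧ nu τ g ≠ 2 ∧
      (3 ≤ nu τ g ∨ (Fintype.card F = 7 ∧ Fintype.card (Cls F) = 3 ∧ nu τ g = 1)) := by
  classical
  have hs := nu_sum (F := F) hE hτ
  have hq1 : 1 < Fintype.card F := Fintype.one_lt_card
  rcases card_cls_cases (F := F) with h1 | ⟨h3, hm⟩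
  · obtain ⟨g₀, hg₀⟩ := Fintype.card_eq_one_iff.1 h1
    rw [sum_eq_single g (fun b _ hb => absurd ((hg₀ b).trans (hg₀ g).symm) hb) (by simp)] at hs
    refine ⟨by omega, by omega, Or.inl (by omega)⟩
  · have hsq := nu_sq hE hτ h3
    have hc : #((univ : Finset (Cls F)).erase g) = 2 := by
      rw [card_erase_of_mem (mem_univ _), card_univ, h3]
    obtain ⟨b, c, hbc, he⟩ := card_eq_two.1 hc
    rw [← add_sum_erase _ _ (mem_univ g), he, sum_pair hbc] at hs hsq
    have hq : Fintype.card F ≠ 10 := by
      intro h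
      obtain ⟨p, -, n, hp, hpn⟩ := FiniteField.card' F
      have h10 : p ∣ 10 := by rw [← h, hpn]; exact dvd_pow_self _ n.ne_zero
      have := Nat.le_of_dvd (by norm_num) h10
      have h2 : (5 : ℕ) ∣ p ^ (n : ℕ) := by rw [← hpn, h]; norm_num
      have h5 := (Nat.prime_dvd_prime_iff_eq Nat.prime_five hp).1 (Nat.prime_five.dvd_of_dvd_pow h2)
      have h3 : (2 : ℕ) ∣ p ^ (n : ℕ) := by rw [← hpn, h]; norm_num
      have := (Nat.prime_dvd_prime_iff_eq Nat.prime_two hp).1 (Nat.prime_two.dvd_of_dvd_pow h3)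
      omega
    generalize Fintype.card F = q at *
    generalize nu τ g = x at *
    generalize nu τ b = y at *
    generalize nu τ c = z at *
    by_cases hx : 3 ≤ x
    · exact ⟨by omega, by omega, Or.inl hx⟩
    have hq13 : q ≤ 13 := by nlinarith [sq_nonneg ((y : ℤ) - z)]
    have hy : y ≤ 14 := by omega
    rw [show z = q + 1 - x - y by omega] at hsq hs
    interval_cases q <;> first | omega | (interval_cases x <;> interval_cases y <;> simp_all)

theorem nu_seven (hE : finrank F E = 3) (hτ : τ ≠ 0) (hq : Fintype.card F = 7) (g : Cls F) :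
    nu τ g = 1 ∨ nu τ g = 3 ∨ nu τ g = 4 := by
  classical
  have hs := nu_sum (F := F) hE hτ
  have h3 : Fintype.card (Cls F) = 3 := by rw [card_cls, hq]; rfl
  have hsq := nu_sq hE hτ h3
  have hc : #((univ : Finset (Cls F)).erase g) = 2 := by
    rw [card_erase_of_mem (mem_univ _), card_univ, h3]
  obtain ⟨b, c, hbc, he⟩ := card_eq_two.1 hc
  rw [← add_sum_erase _ _ (mem_univ g), he, sum_pair hbc, hq] at hs hsq
  generalize nu τ g = x at *
  generalize nu τ b = y at *
  generalize nu τ c = z at *
  rw [show z = 8 - x - y by omega] at hsq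
  have : x ≤ 8 := by omega
  have : y ≤ 8 := by omega
  interval_cases x <;> interval_cases y <;> simp_all

theorem nu_sixteen (hE : finrank F E = 3) (hτ : τ ≠ 0) (hm : Fintype.card F % 4 = 0)
    (hq4 : Fintype.card F ≠ 4) (h3 : Fintype.card (Cls F) = 3) {g : Cls F} (hg : nu τ g = 3) :
    ∃ h, h ≠ g ∧ nu τ h % 4 ≠ 1 := by
  classical
  have hs := nu_sum (F := F) hE hτ
  have hsq := nu_sq hE hτ h3
  have hc : #((univ : Finset (Cls F)).erase g) = 2 := by
    rw [card_erase_of_mem (mem_univ _), card_univ, h3]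
  obtain ⟨b, c, hbc, he⟩ := card_eq_two.1 hc
  have hb : b ≠ g := ne_of_mem_erase (he ▸ mem_insert_self b {c})
  have hc' : c ≠ g := ne_of_mem_erase (he ▸ mem_insert_of_mem (mem_singleton_self c))
  rw [← add_sum_erase _ _ (mem_univ g), he, sum_pair hbc, hg] at hs hsq
  by_contra hcon
  push Not at hcon
  have hb' := hcon b hb
  have hc'' := hcon c hc'
  have hq3 : Fintype.card F % 3 = 1 := by
    rcases card_cls_cases (F := F) with h | h
    · omega
    · exact h.2
  generalize Fintype.card F = q at *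
  generalize nu τ b = y at *
  generalize nu τ c = z at *
  have hq16 : q ≤ 16 := by nlinarith [sq_nonneg ((y : ℤ) - z)]
  have : y ≤ 15 := by omega
  rw [show z = q + 1 - 3 - y by omega] at hsq hc''
  interval_cases q <;> first | omega | (interval_cases y <;> simp_all)

end Cfsg.Agent.H55.SLThree
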