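import Mathlib
import Cfsg.Agent.H55.SLThree.Count

/-!
Configurations of elations invariant under the norm-one torus of a cubic extension are complete for
`|F| ≠ 4`. An elation is a pair (centre, axis), the axis given by `a ↦ ker (z ↦ τ (a z))`.
-/

set_option autoImplicit false
set_option linter.style.haveILetI false

namespace Cfsg.Agent.H55.SLThree

open Module Finset

variable {F : Type*} [Field F] [Fintype F] {E : Type*} [Field E] [Algebra F E] [Fintype E]

/-- The relation "the elation `y ↦ y + τ (a y) x` lies in the group". -/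
structure Cfg (τ : E →ₗ[F] F) where
  D : E → E → Prop
  incid : ∀ {x a}, D x a → τ (a * x) = 0
  zero_left : ∀ a, D 0 a
  zero_right : ∀ x, D x 0
  add_left : ∀ {x y a}, D x a → D y a → D (x + y) a
  add_right : ∀ {x a b}, D x a → D x b → D x (a + b)
  scal : ∀ {x a} (t : F), τ (a * x) = 0 → (D (t • x) a ↔ D x (t • a))
  smul_norm : ∀ {x a k}, Algebra.norm F k = 1 → D x a → D (k * x) (k⁻¹ * a)
  comm : ∀ {x a y b}, D x a → D y b → τ (b * x) = 0 → D x (τ (a * y) • b)
  conj : ∀ {x a y b}, D x a → D y b → D (x + τ (b * x) • y) (a - τ (a * y) • b)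

theorem addSubgroup_card_dvd {α : Type*} [AddCommGroup α] [Fintype α] [DecidableEq α] (H : AddSubgroup α)
    (T : Finset α) (hT : ∀ t ∈ T, ∀ h ∈ H, t + h ∈ T) : Nat.card H ∣ #T := by
  classical
  rw [card_eq_sum_card_image (fun t : α => (t : α ⧸ H)) T]
  refine dvd_sum fun g hg => ?_
  obtain ⟨t, ht, rfl⟩ := mem_image.1 hg
  refine dvd_of_eq ?_
  rw [← Nat.card_eq_finsetCard]
  refine Nat.card_congr
    { toFun := fun h => ⟨t + h, mem_filter.2 ⟨hT t ht h h.2, by simp [QuotientAddGroup.eq, H.neg_mem h.2]⟩⟩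
      invFun := fun s => ⟨(s : α) - t, by
        have h := QuotientAddGroup.eq.1 (mem_filter.1 s.2).2.symm
        rwa [← sub_eq_neg_add] at h⟩
      left_inv := fun h => Subtype.ext (add_sub_cancel_left t (h : α))
      right_inv := fun s => Subtype.ext (add_sub_cancel t (s : α)) }

namespace Cfg

variable {τ : E →ₗ[F] F} (C : Cfg τ)

theorem neg_left {x a : E} (h : C.D x a) : C.D (-x) a := by
  have hn : ∀ n : ℕ, C.D (n • x) a := fun n => by
    induction n with
    | zero => rw [zero_nsmul]; exact C.zero_left a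
    | succ n ih => rw [succ_nsmul]; exact C.add_left ih h
  have hx : -x = (addOrderOf x - 1) • x := by
    refine neg_eq_of_add_eq_zero_right ?_
    rw [← succ_nsmul', Nat.sub_add_cancel (addOrderOf_pos x), addOrderOf_nsmul_eq_zero]
  exact hx ▸ hn _

theorem neg_right {x a : E} (h : C.D x a) : C.D x (-a) := by
  have hn : ∀ n : ℕ, C.D x (n • a) := fun n => by
    induction n with
    | zero => rw [zero_nsmul]; exact C.zero_right x
    | succ n ih => rw [succ_nsmul]; exact C.add_right ih h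
  have hx : -a = (addOrderOf a - 1) • a := by
    refine neg_eq_of_add_eq_zero_right ?_
    rw [← succ_nsmul', Nat.sub_add_cancel (addOrderOf_pos a), addOrderOf_nsmul_eq_zero]
  exact hx ▸ hn _

/-- Exchange of centres and axes. -/
def symm : Cfg τ where
  D := fun x a => C.D a x
  incid := fun h => by rw [mul_comm]; exact C.incid h
  zero_left := C.zero_right
  zero_right := C.zero_left
  add_left := fun h h' => C.add_right h h'
  add_right := fun h h' => C.add_left h h'
  scal := fun t h => (C.scal t (by rw [mul_comm]; exact h)).symm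
  smul_norm := fun {x a k} hk h => by
    have hk' : Algebra.norm F (k⁻¹) = 1 := by
      have hk0 : k ≠ 0 := fun h0 => by rw [h0, Algebra.norm_zero] at hk; exact zero_ne_one hk
      have h1 := map_mul (Algebra.norm F) k⁻¹ k
      rw [inv_mul_cancel₀ hk0, map_one, hk, mul_one] at h1
      exact h1.symm
    simpa using C.smul_norm hk' h
  comm := fun {x a y b} h h' hb => by
    have h1 := C.comm h' h (by rw [mul_comm]; exact hb)
    rw [mul_comm y a] at h1
    exact (C.scal _ (by rw [mul_comm]; exact hb)).2 h1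
  conj := fun {x a y b} h h' => by
    have h1 := C.conj h (C.neg_left h')
    simpa [mul_comm, sub_eq_add_neg] using h1

@[simp] theorem symm_D (x a : E) : C.symm.D x a ↔ C.D a x := Iff.rfl

/-- The axes of elations with centre `x`. -/
def axes (x : E) : AddSubgroup E where
  carrier := {a | C.D x a}
  add_mem' := fun h h' => C.add_right h h'
  zero_mem' := C.zero_right x
  neg_mem' := fun h => C.neg_right h

/-- `x` is a centre. -/
def IsC (x : E) : Prop := x ≠ 0 ∧ ∃ a ≠ 0, C.D x a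

/-- `a` is an axis. -/
def IsA (a : E) : Prop := C.symm.IsC a

theorem isC_of_D {x a : E} (h : C.D x a) (hx : x ≠ 0) (ha : a ≠ 0) : C.IsC x := ⟨hx, a, ha, h⟩

theorem isA_of_D {x a : E} (h : C.D x a) (hx : x ≠ 0) (ha : a ≠ 0) : C.IsA a := ⟨ha, x, hx, h⟩

theorem isC_smul {x : E} (h : C.IsC x) {r : F} (hr : r ≠ 0) : C.IsC (r • x) := by
  obtain ⟨hx, a, ha, hD⟩ := h
  refine ⟨smul_ne_zero hr hx, r⁻¹ • a, smul_ne_zero (inv_ne_zero hr) ha, ?_⟩
  rw [C.scal r (by rw [smul_mul_assoc, map_smul, C.incid hD, smul_zero]), smul_smul, mul_inv_cancel₀ hr,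
    one_smul]
  exact hD

theorem isC_of_cls (hE : finrank F E = 3) {x y : E} (h : C.IsC x) (hy : y ≠ 0)
    (he : cls F x = cls F y) : C.IsC y := by
  obtain ⟨k, r, hr, hk, rfl⟩ := exists_norm_one hE h.1 hy he
  refine C.isC_smul ?_ hr
  obtain ⟨hx, a, ha, hD⟩ := h
  have hk0 : k ≠ 0 := fun h0 => by rw [h0, Algebra.norm_zero] at hk; exact zero_ne_one hk
  exact C.isC_of_D (C.smul_norm hk hD) (mul_ne_zero hk0 hx) (mul_ne_zero (inv_ne_zero hk0) ha)

open Classical in
/-- The classes of the centres. -/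
noncomputable def cset : Finset (Cls F) := univ.filter fun g => ∃ x, C.IsC x ∧ cls F x = g

theorem mem_cset {g : Cls F} : g ∈ C.cset ↔ ∃ x, C.IsC x ∧ cls F x = g := by simp [cset]

theorem isC_iff (hE : finrank F E = 3) {x : E} (hx : x ≠ 0) : C.IsC x ↔ cls F x ∈ C.cset := by
  rw [mem_cset]
  refine ⟨fun h => ⟨x, h, rfl⟩, ?_⟩
  rintro ⟨y, hy, he⟩
  exact C.isC_of_cls hE hy hx he

/-- A centre on an axis gives an elation. -/
theorem exists_D (hE : finrank F E = 3) (hτ : τ ≠ 0) {c a : E} (hc : C.IsC c) (ha : C.IsA a)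
    (hi : τ (a * c) = 0) : ∃ u : F, u ≠ 0 ∧ C.D c (u • a) := by
  obtain ⟨hc0, b, hb0, hD⟩ := hc
  obtain ⟨ha0, y, hy0, hD'⟩ := ha
  rw [symm_D] at hD'
  by_cases h0 : τ (b * y) = 0
  · by_cases hab : ∃ u : F, b = u • a
    · obtain ⟨u, rfl⟩ := hab
      exact ⟨u, fun h => hb0 (by rw [h, zero_smul]), hD⟩
    · push Not at hab
      obtain ⟨u, rfl⟩ := exists_smul_of_two τ hE hτ ha0 hab hc0 hi (C.incid hD) (C.incid hD') h0
      exact ⟨u, fun h => hy0 (by rw [h, zero_smul]), (C.scal u hi).1 hD'⟩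
  · exact ⟨_, h0, C.comm hD hD' hi⟩

/-- Elations with centre `c` permute the other centres on a line through `c`. -/
theorem card_dvd (hE : finrank F E = 3) (hτ : τ ≠ 0) {b c v : E} (hb : b ≠ 0)
    (hbase : IsBase τ b c v) (hc : C.IsC c) (H : AddSubgroup F)
    (hH : ∀ h ∈ H, ∃ a, C.D c a ∧ τ (a * v) = h) :
    ∃ m, ∑ g ∈ C.cset, nu τ (cls F b * g) = Nat.card H * m + 1 := by
  classical
  set Ts := univ.filter fun t : F => cls F (v + t • c) ∈ C.cset with hTs
  have hne : ∀ t : F, v + t • c ≠ 0 := fun t => hbase.pt_ne_zero (some t)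
  obtain ⟨m, hm⟩ := addSubgroup_card_dvd H Ts (by
    intro t ht h hh
    simp only [hTs, mem_filter, mem_univ, true_and] at ht ⊢
    obtain ⟨-, e, he, hD⟩ := (C.isC_iff hE (hne t)).2 ht
    obtain ⟨a, hDa, rfl⟩ := hH h hh
    rw [← C.isC_iff hE (hne _)]
    have h1 := C.conj hD hDa
    have hz : τ (a * (v + t • c)) = τ (a * v) := by
      rw [mul_add, mul_smul_comm, map_add, map_smul, C.incid hDa, smul_zero, add_zero]
    rw [hz, add_assoc, ← add_smul] at h1
    refine C.isC_of_D h1 (hne _) ?_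
    intro h0
    rw [sub_eq_zero] at h0
    apply he
    have h2 : τ (e * c) • τ (a * c) = τ (e * c) := by
      conv_rhs => rw [h0, smul_mul_assoc, map_smul]
    rw [C.incid hDa, smul_zero] at h2
    rw [h0, ← h2, zero_smul])
  refine ⟨m, ?_⟩
  rw [← card_pt_mem hE hτ hb hbase C.cset, ← hm]
  have e : (univ.filter fun o : Option F => cls F (pt c v o) ∈ C.cset) =
      insert none (Ts.map Function.Embedding.some) := by
    ext o
    rw [mem_filter, mem_insert]
    cases o with
    | none => simp [pt, (C.isC_iff hE hc.1).1 hc]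
    | some t => simp [pt, hTs]
  rw [e, card_insert_of_notMem (by simp), card_map]

theorem card_dvd_prime (hE : finrank F E = 3) (hτ : τ ≠ 0) {p : ℕ} [CharP F p] (hp : p.Prime)
    {a b c : E} (ha : a ≠ 0) (hb : b ≠ 0) (hc : c ≠ 0) (hD : C.D c a) (hbc : τ (b * c) = 0)
    (hab : ∀ u : F, b ≠ u • a) :
    ∃ m, ∑ g ∈ C.cset, nu τ (cls F b * g) = p * m + 1 := by
  obtain ⟨v, hbase⟩ := exists_isBase hE hτ hb hc hbc
  have hv : τ (a * v) ≠ 0 := fun h => by
    obtain ⟨u, hu⟩ := exists_smul_of_two τ hE hτ ha hab hc (C.incid hD) hbc h hbase.right_mem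
    exact hbase.indep u hu
  let f : E →+ F := (τ.toAddMonoidHom).comp (AddMonoidHom.mulRight v)
  obtain ⟨m, hm⟩ := C.card_dvd hE hτ hb hbase (C.isC_of_D hD hc ha) ((C.axes c).map f) (by
    rintro h ⟨e, he, rfl⟩
    exact ⟨e, he, rfl⟩)
  have hdvd : p ∣ Nat.card ((C.axes c).map f) := by
    haveI := Fact.mk hp
    have ho : addOrderOf (τ (a * v)) = p :=
      addOrderOf_eq_prime (by rw [nsmul_eq_mul, CharP.cast_eq_zero, zero_mul]) hv
    rw [← ho]
    exact AddSubgroup.addOrderOf_dvd_natCard _ ⟨a, hD, rfl⟩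
  obtain ⟨k, hk⟩ := hdvd
  exact ⟨k * m, by rw [hm, hk, mul_assoc]⟩

/-- A second line of a given class through a point. -/
theorem exists_other (hE : finrank F E = 3) (hτ : τ ≠ 0) {c a : E} (hc : c ≠ 0) (j : Cls F)
    (hj : 2 ≤ nu τ (j * cls F c)) :
    ∃ b, b ≠ 0 ∧ τ (b * c) = 0 ∧ cls F b = j ∧ ∀ u : F, b ≠ u • a := by
  classical
  obtain ⟨u₀, v₀, hb⟩ := exists_line_pair (τ := τ) hE hτ (one_ne_zero (α := E))
  have hc1 : cls F (1 : E) = 1 := by rw [← map_one (algebraMap F E)]; exact cls_algebraMap hE one_ne_zero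
  have h1 := card_pt_eq hE hτ one_ne_zero hb (j * cls F c)
  rw [hc1, one_mul] at h1
  rw [← h1] at hj
  obtain ⟨o, ho, o', ho', hne⟩ := one_lt_card.1 hj
  simp only [mem_filter, mem_univ, true_and] at ho ho'
  have key : ∀ o : Option F, cls F (pt u₀ v₀ o) = j * cls F c →
      pt u₀ v₀ o * c⁻¹ ≠ 0 ∧ τ (pt u₀ v₀ o * c⁻¹ * c) = 0 ∧ cls F (pt u₀ v₀ o * c⁻¹) = j := by
    intro o ho
    have h0 := mul_ne_zero (hb.pt_ne_zero o) (inv_ne_zero hc)
    refine ⟨h0, by rw [inv_mul_cancel_right₀ hc]; simpa using hb.pt_mem o, ?_⟩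
    rw [← inv_mul_cancel_right₀ hc (pt u₀ v₀ o), cls_mul h0 hc] at ho
    exact mul_right_cancel ho
  by_contra hcon
  push Not at hcon
  obtain ⟨h2, h3, h4⟩ := key o ho
  obtain ⟨h2', h3', h4'⟩ := key o' ho'
  obtain ⟨u, hu⟩ := hcon _ h2 h3 h4
  obtain ⟨u', hu'⟩ := hcon _ h2' h3' h4'
  have hu0 : u ≠ 0 := fun h => h2 (by rw [hu, h, zero_smul])
  refine hne (hb.smul_pt_inj (r := u⁻¹) (r' := u'⁻¹) (inv_ne_zero hu0) ?_).2
  have hu0' : u' ≠ 0 := fun h => h2' (by rw [hu', h, zero_smul])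
  apply mul_right_cancel₀ (inv_ne_zero hc)
  rw [smul_mul_assoc, smul_mul_assoc, hu, hu', inv_smul_smul₀ hu0, inv_smul_smul₀ hu0']

/-- The centres fill the plane, or `q` is even and they form one class. -/
theorem cset_cases (hE : finrank F E = 3) (hτ : τ ≠ 0) (hq4 : Fintype.card F ≠ 4) {p : ℕ} [CharP F p]
    (hp : p.Prime) {c a : E} (hc : c ≠ 0) (ha : a ≠ 0) (hD : C.D c a) :
    C.cset = univ ∨ (Fintype.card (Cls F) = 3 ∧ p = 2 ∧ C.cset = {cls F c}) := by
  classical
  have hmem : cls F c ∈ C.cset := (C.isC_iff hE hc).1 (C.isC_of_D hD hc ha)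
  by_cases hu : C.cset = univ
  · exact Or.inl hu
  have hlt : #C.cset < Fintype.card (Cls F) :=
    lt_of_le_of_ne (card_le_univ _) fun h => hu (eq_univ_of_card _ h)
  have hpos : 0 < #C.cset := card_pos.2 ⟨_, hmem⟩
  rcases card_cls_cases (F := F) with h1 | ⟨h3, -⟩
  · omega
  have hcong : ∀ j, 2 ≤ nu τ (j * cls F c) → ∃ m, ∑ g ∈ C.cset, nu τ (j * g) = p * m + 1 := by
    intro j hj
    obtain ⟨b, hb, hbc, rfl, hab⟩ := exists_other (a := a) hE hτ hc j hj
    exact C.card_dvd_prime hE hτ hp ha hb hc hD hbc hab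
  have htot : ∀ g : Cls F, ∑ j, nu τ (j * g) = Fintype.card F + 1 := fun g => by
    rw [← nu_sum (F := F) hE hτ]
    exact Fintype.sum_equiv (Equiv.mulRight g) _ _ fun j => rfl
  by_cases h7 : Fintype.card F = 7
  · exfalso
    have hp7 : p = 7 := by
      obtain ⟨n, hn, hpn⟩ := FiniteField.card F p
      rw [h7] at hpn
      exact ((Nat.prime_dvd_prime_iff_eq hn (by norm_num)).1 (by rw [hpn]; exact dvd_pow_self _ n.ne_zero))
    subst hp7
    obtain ⟨j, -, hj⟩ : ∃ j ∈ (univ : Finset (Cls F)), 2 ≤ nu τ (j * cls F c) := by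
      by_contra hcon
      push Not at hcon
      have := sum_le_card_nsmul univ (fun j => nu τ (j * cls F c)) 1 fun j hj => by
        have := hcon j hj; omega
      rw [htot, card_univ, h3, smul_eq_mul, h7] at this
      omega
    obtain ⟨m, hm⟩ := hcong j hj
    have hv := fun g => nu_seven (τ := τ) hE hτ h7 g
    rcases (show #C.cset = 1 ∨ #C.cset = 2 by omega) with hk | hk
    · obtain ⟨g, hg⟩ := card_eq_one.1 hk
      rw [hg, mem_singleton] at hmem
      rw [hg, sum_singleton, ← hmem] at hm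
      have := hv (j * cls F c)
      omega
    · obtain ⟨g, hg⟩ := card_eq_one.1 (by rw [card_compl, hk, h3] : #(C.csetᶜ) = 1)
      have h2 := sum_add_sum_compl C.cset (fun x => nu τ (j * x))
      rw [hm, hg, sum_singleton] at h2
      have h4 : ∑ x, nu τ (j * x) = Fintype.card F + 1 := by
        rw [← nu_sum (F := F) hE hτ]
        exact Fintype.sum_equiv (Equiv.mulLeft j) _ _ fun x => rfl
      rw [h4, h7] at h2
      have := hv (j * g)
      omega
  · have h3' : ∀ g : Cls F, 3 ≤ nu τ g := fun g => by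
      rcases (nu_facts (τ := τ) hE hτ hq4 g).2.2 with h | h
      · exact h
      · exact absurd h.1 h7
    haveI := Fact.mk hp
    have e : ∀ j, ((∑ g ∈ C.cset, nu τ (j * g) : ℕ) : ZMod p) = 1 := fun j => by
      obtain ⟨m, hm⟩ := hcong j (le_trans (by norm_num) (h3' _))
      simp [hm]
    have hq0 : ((Fintype.card F : ℕ) : ZMod p) = 0 := by
      obtain ⟨n, -, hpn⟩ := FiniteField.card F p
      rw [hpn, Nat.cast_pow, ZMod.natCast_self, zero_pow n.ne_zero]
    have h4 : (((#C.cset) * (Fintype.card F + 1) : ℕ) : ZMod p) = 3 := by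
      rw [← smul_eq_mul, ← sum_const, ← sum_congr rfl fun g _ => htot g, sum_comm, Nat.cast_sum,
        sum_congr rfl fun j _ => e j, sum_const, card_univ, h3, nsmul_one]
      norm_num
    rw [Nat.cast_mul, Nat.cast_add, hq0, zero_add, Nat.cast_one, mul_one] at h4
    rcases (show #C.cset = 1 ∨ #C.cset = 2 by omega) with hk | hk
    · rw [hk, Nat.cast_one] at h4
      have h2 : ((2 : ℕ) : ZMod p) = 0 := by push_cast; linear_combination -h4
      rw [CharP.cast_eq_zero_iff (ZMod p) p] at h2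
      obtain ⟨g, hg⟩ := card_eq_one.1 hk
      rw [hg, mem_singleton] at hmem
      exact Or.inr ⟨h3, (Nat.prime_dvd_prime_iff_eq hp Nat.prime_two).1 h2, by rw [hg, hmem]⟩
    · rw [hk] at h4
      push_cast at h4
      exact absurd (show (1 : ZMod p) = 0 by linear_combination -h4) one_ne_zero

/-- Every centre lies on two axes. -/
theorem exists_axis (hE : finrank F E = 3) (hτ : τ ≠ 0) (hq4 : Fintype.card F ≠ 4) {p : ℕ} [CharP F p]
    (hp : p.Prime) {c : E} (hc : C.IsC c) (a₀ : E) :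
    ∃ b, b ≠ 0 ∧ C.D c b ∧ ∀ u : F, b ≠ u • a₀ := by
  obtain ⟨hc0, a, ha, hD⟩ := hc
  by_cases hprop : ∀ u : F, a ≠ u • a₀
  · exact ⟨a, ha, hD, hprop⟩
  push Not at hprop
  obtain ⟨u, rfl⟩ := hprop
  have hu : u ≠ 0 := fun h => ha (by rw [h, zero_smul])
  obtain ⟨b, hb, hbc, hbA, hab⟩ : ∃ b, b ≠ 0 ∧ τ (b * c) = 0 ∧ C.IsA b ∧ ∀ t : F, b ≠ t • (u • a₀) := by
    rcases C.symm.cset_cases hE hτ hq4 hp ha hc0 hD with h | ⟨-, h2, h⟩
    · obtain ⟨v, hv⟩ := exists_isBase (τ := τ) hE hτ hc0 ha (by rw [mul_comm]; exact C.incid hD)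
      refine ⟨v, fun h0 => hv.indep 0 (by rw [h0, zero_smul]), by rw [mul_comm]; exact hv.right_mem, ?_, hv.indep⟩
      exact (C.symm.isC_iff hE (fun h0 => hv.indep 0 (by rw [h0, zero_smul]))).2 (by rw [h]; exact mem_univ _)
    · obtain ⟨b, hb, hbc, hcls, hab⟩ := exists_other (a := u • a₀) (τ := τ) hE hτ hc0 (cls F (u • a₀)) (by
        rcases (nu_facts (τ := τ) hE hτ hq4 (cls F (u • a₀) * cls F c)).2.2 with h' | h'
        · omega
        · exfalso
          obtain ⟨n, -, hpn⟩ := FiniteField.card F p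
          rw [h'.1, h2] at hpn
          exact absurd (hpn.symm ▸ dvd_pow_self 2 n.ne_zero : 2 ∣ 7) (by norm_num))
      refine ⟨b, hb, hbc, ?_, hab⟩
      exact (C.symm.isC_iff hE hb).2 (by rw [h, hcls]; exact mem_singleton_self _)
  obtain ⟨t, ht, hDb⟩ := C.exists_D hE hτ (C.isC_of_D hD hc0 ha) hbA hbc
  refine ⟨t • b, smul_ne_zero ht hb, hDb, fun w hw => hab (t⁻¹ * w * u⁻¹) ?_⟩
  rw [← inv_smul_smul₀ ht b, hw, smul_smul, smul_smul, mul_assoc, inv_mul_cancel₀ hu, mul_one]

/-- The centres on an axis: one more than the order of an additive group, and all elations with this axis are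
present when every point is a centre. -/
theorem axis_structure (hE : finrank F E = 3) (hτ : τ ≠ 0) (hq4 : Fintype.card F ≠ 4) {p : ℕ} [CharP F p]
    (hp : p.Prime) {a : E} (ha : C.IsA a) :
    (∃ H : AddSubgroup F, ∑ g ∈ C.cset, nu τ (cls F a * g) = Nat.card H + 1) ∧
      (C.cset = univ → ∀ z, τ (a * z) = 0 → C.D z a) := by
  classical
  obtain ⟨ha0, x, hx0, hxa⟩ := ha
  rw [symm_D] at hxa
  have hA : C.IsA a := C.isA_of_D hxa hx0 ha0
  have hxC : C.IsC x := C.isC_of_D hxa hx0 ha0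
  have hix : τ (a * x) = 0 := C.incid hxa
  obtain ⟨y, hy0, hya, hyind⟩ := C.symm.exists_axis hE hτ hq4 hp hA x
  rw [symm_D] at hya
  have hyC : C.IsC y := C.isC_of_D hya hy0 ha0
  have hiy : τ (a * y) = 0 := C.incid hya
  have hbase : IsBase τ a x y := ⟨hix, hiy, hx0, hyind⟩
  obtain ⟨bx, hbx0, hDx, hbx⟩ := C.exists_axis hE hτ hq4 hp hxC a
  obtain ⟨bY, hbY0, hDy, hbY⟩ := C.exists_axis hE hτ hq4 hp hyC a
  have hne : ∀ {b z w : E}, (∀ u : F, b ≠ u • a) → z ≠ 0 → τ (a * z) = 0 → τ (b * z) = 0 → τ (a * w) = 0 →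
      (∀ u : F, w ≠ u • z) → τ (b * w) ≠ 0 := by
    intro b z w hb hz h1 h2 h3 h4 h5
    obtain ⟨u, hu⟩ := exists_smul_of_two τ hE hτ ha0 hb hz h1 h2 h3 h5
    exact h4 u hu
  set σ := τ (bx * y) with hσd
  set ρ := τ (bY * x) with hρd
  have hσ : σ ≠ 0 := hne hbx hx0 hix (C.incid hDx) hiy hyind
  have hρ : ρ ≠ 0 := hne hbY hy0 hiy (C.incid hDy) hix fun u hu => by
    rcases eq_or_ne u 0 with rfl | hu0
    · exact hx0 (by rw [hu, zero_smul])
    · exact hyind u⁻¹ (by rw [hu, inv_smul_smul₀ hu0])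
  have key : ∀ {z b w : E}, C.D z b → τ (a * z) = 0 → C.D w a → C.D (τ (b * w) • z) a :=
    fun hzb hz hw => (C.scal _ hz).2 (C.comm hzb hw hz)
  -- coordinates
  let G1 : AddSubgroup F := (C.symm.axes a).comap ((LinearMap.toSpanSingleton F E x).toAddMonoidHom)
  let G2 : AddSubgroup F := (C.symm.axes a).comap ((LinearMap.toSpanSingleton F E y).toAddMonoidHom)
  have hG1 : ∀ α : F, α ∈ G1 ↔ C.D (α • x) a := fun α => Iff.rfl
  have hG2 : ∀ α : F, α ∈ G2 ↔ C.D (α • y) a := fun α => Iff.rfl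
  have h12 : ∀ α ∈ G1, ρ * α ∈ G2 := fun α hα => by
    have := key hDy hiy ((hG1 α).1 hα)
    rwa [mul_smul_comm, map_smul, smul_eq_mul, mul_comm α, ← hG2] at this
  have h21 : ∀ β ∈ G2, σ * β ∈ G1 := fun β hβ => by
    have := key hDx hix ((hG2 β).1 hβ)
    rwa [mul_smul_comm, map_smul, smul_eq_mul, mul_comm β, ← hG1] at this
  let f : G1 → G2 := fun α => ⟨ρ * α, h12 _ α.2⟩
  let g : G2 → G1 := fun β => ⟨σ * β, h21 _ β.2⟩
  have hf : Function.Injective f := fun α α' h => Subtype.ext (mul_left_cancel₀ hρ (congrArg Subtype.val h))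
  have hg : Function.Injective g := fun β β' h => Subtype.ext (mul_left_cancel₀ hσ (congrArg Subtype.val h))
  have hcard : Nat.card G1 = Nat.card G2 :=
    le_antisymm (Nat.card_le_card_of_injective f hf) (Nat.card_le_card_of_injective g hg)
  have hfb := hf.bijective_of_nat_card_le hcard.ge
  have hgb := hg.bijective_of_nat_card_le hcard.le
  have hsplit : ∀ α β : F, C.D (α • x + β • y) a → α ∈ G1 ∧ β ∈ G2 := by
    intro α β h
    have e1 := key hDx hix h
    have e2 := key hDy hiy h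
    simp only [mul_add, mul_smul_comm, map_add, map_smul, C.incid hDx, C.incid hDy, smul_zero, zero_add,
      add_zero, smul_eq_mul] at e1 e2
    rw [← hσd, ← hG1, mul_comm] at e1
    rw [← hρd, ← hG2, mul_comm] at e2
    obtain ⟨β', hβ'⟩ := hgb.2 ⟨_, e1⟩
    obtain ⟨α', hα'⟩ := hfb.2 ⟨_, e2⟩
    have hb : (β' : F) = β := mul_left_cancel₀ hσ (by simpa [g, mul_comm] using congrArg Subtype.val hβ')
    have ha : (α' : F) = α := mul_left_cancel₀ hρ (by simpa [f, mul_comm] using congrArg Subtype.val hα')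
    exact ⟨ha ▸ α'.2, hb ▸ β'.2⟩
  obtain ⟨α₀, hα₀, hα0⟩ : ∃ α ∈ G1, α ≠ 0 := ⟨1, by rw [hG1, one_smul]; exact hxa, one_ne_zero⟩
  -- the ring of multipliers
  let R : AddSubgroup F :=
    { carrier := {r | ∀ α ∈ G1, r * α ∈ G1}
      add_mem' := fun h h' α hα => by rw [add_mul]; exact G1.add_mem (h α hα) (h' α hα)
      zero_mem' := fun α hα => by rw [zero_mul]; exact G1.zero_mem
      neg_mem' := fun h α hα => by rw [neg_mul]; exact G1.neg_mem (h α hα) }
  have hRmul : ∀ r ∈ R, ∀ r' ∈ R, r * r' ∈ R := fun r hr r' hr' α hα => by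
    rw [mul_assoc]; exact hr _ (hr' α hα)
  have hRinv : ∀ r ∈ R, r ≠ 0 → r⁻¹ ∈ R := by
    intro r hr hr0 α hα
    obtain ⟨β, hβ⟩ := (Finite.injective_iff_surjective.1
      (fun β β' h => Subtype.ext (mul_left_cancel₀ hr0 (congrArg Subtype.val h)) :
        Function.Injective fun β : G1 => (⟨r * β, hr _ β.2⟩ : G1))) ⟨α, hα⟩
    have h := congrArg Subtype.val hβ
    simp only at h
    rw [← h, inv_mul_cancel_left₀ hr0]
    exact β.2
  let H : AddSubgroup F := R.comap (AddMonoidHom.mulRight ρ)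
  have hchar : ∀ t : F, C.IsC (y + t • x) ↔ t ∈ H := by
    intro t
    constructor
    · intro hz
      rcases eq_or_ne t 0 with rfl | ht
      · exact H.zero_mem
      obtain ⟨b, hb0, hDz, hb⟩ := C.exists_axis hE hτ hq4 hp hz a
      have hiz : τ (a * (y + t • x)) = 0 := hbase.pt_mem (some t)
      have hk : τ (b * x) ≠ 0 := fun h => by
        refine hne hb hz.1 hiz (C.incid hDz) hix (fun u hu => ?_) h
        obtain ⟨-, h2⟩ := hbase.coeff_zero (α := u * t - 1) (β := u) (by
          linear_combination (norm := module) -hu)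
        rw [h2, zero_smul] at hu
        exact hx0 hu
      set k := τ (b * x)
      have hmain : ∀ α ∈ G1, k * t * α ∈ G1 ∧ k * α ∈ G2 := by
        intro α hα
        have h := key hDz hiz ((hG1 α).1 hα)
        rw [mul_smul_comm, map_smul, smul_eq_mul, smul_add, smul_smul, add_comm] at h
        obtain ⟨h1, h2⟩ := hsplit _ _ h
        exact ⟨by rwa [mul_right_comm, mul_comm k], by rwa [mul_comm]⟩
      have h1 : k * t ∈ R := fun α hα => (hmain α hα).1
      have h2 : k / ρ ∈ R := fun α hα => by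
        obtain ⟨α', hα'⟩ := hfb.2 ⟨_, (hmain α hα).2⟩
        have h := congrArg Subtype.val hα'
        simp only [f] at h
        rw [div_mul_eq_mul_div, ← h, mul_div_cancel_left₀ _ hρ]
        exact α'.2
      have h3 := hRmul _ h1 _ (hRinv _ h2 (div_ne_zero hk hρ))
      show t * ρ ∈ R
      convert h3 using 1
      field_simp
    · intro ht
      refine (C.isC_iff hE (hbase.pt_ne_zero (some t))).2 ?_
      have h : C.D ((ρ * α₀) • (y + t • x)) a := by
        rw [smul_add, smul_smul, show ρ * α₀ * t = t * ρ * α₀ by ring]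
        exact C.add_left ((hG2 _).1 (h12 _ hα₀)) ((hG1 _).1 (ht α₀ hα₀))
      have hne0 : ρ * α₀ ≠ 0 := mul_ne_zero hρ hα0
      have := (C.isC_iff hE (smul_ne_zero hne0 (hbase.pt_ne_zero (some t)))).1
        (C.isC_of_D h (smul_ne_zero hne0 (hbase.pt_ne_zero (some t))) ha0)
      rwa [cls_smul hE hne0 (hbase.pt_ne_zero (some t))] at this
  refine ⟨⟨H, ?_⟩, ?_⟩
  · rw [← card_pt_mem hE hτ ha0 hbase C.cset]
    have e : (univ.filter fun o : Option F => cls F (pt x y o) ∈ C.cset) =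
        insert none ((univ.filter fun t : F => t ∈ H).map Function.Embedding.some) := by
      ext o
      rw [mem_filter, mem_insert]
      cases o with
      | none => simp [pt, (C.isC_iff hE hx0).1 hxC]
      | some t => simp [pt, (hchar t).symm.trans (C.isC_iff hE (hbase.pt_ne_zero (some t) : y + t • x ≠ 0))]
    rw [e, card_insert_of_notMem (by simp), card_map, ← Fintype.card_subtype, ← Nat.card_eq_fintype_card]
  · intro hu z hz
    have hRall : ∀ r : F, r ∈ R := fun r => by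
      have h := (hchar (r / ρ)).1 ((C.isC_iff hE (hbase.pt_ne_zero (some _))).2 (by rw [hu]; exact mem_univ _))
      change r / ρ * ρ ∈ R at h
      rwa [div_mul_cancel₀ _ hρ] at h
    have hall : ∀ α : F, α ∈ G1 := fun α => by
      have := hRall (α / α₀) α₀ hα₀
      rwa [div_mul_cancel₀ _ hα0] at this
    rcases eq_or_ne z 0 with rfl | hz0
    · exact C.zero_left a
    obtain ⟨r, hr, o, rfl⟩ := hbase.exists_smul_pt hE hτ ha0 hz hz0
    have h2 : ∀ β : F, β ∈ G2 := fun β => by
      have := h12 _ (hall (β / ρ))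
      rwa [mul_div_cancel₀ _ hρ] at this
    cases o with
    | none => exact (hG1 r).1 (hall r)
    | some t =>
      rw [pt, smul_add, smul_smul]
      exact C.add_left ((hG2 _).1 (h2 r)) ((hG1 _).1 (hall _))

theorem full_of_univ (hE : finrank F E = 3) (hτ : τ ≠ 0) (hq4 : Fintype.card F ≠ 4) {p : ℕ} [CharP F p]
    (hp : p.Prime) (hu : C.cset = univ) (x a : E) (h : τ (a * x) = 0) : C.D x a := by
  rcases eq_or_ne x 0 with rfl | hx
  · exact C.zero_left a
  rcases eq_or_ne a 0 with rfl | ha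
  · exact C.zero_right x
  have hxC : C.IsC x := (C.isC_iff hE hx).2 (by rw [hu]; exact mem_univ _)
  obtain ⟨-, b, hb0, hDb⟩ := id hxC
  obtain ⟨b', hb0', hDb', hind⟩ := C.exists_axis hE hτ hq4 hp hxC b
  have hbase : IsBase τ x b b' :=
    ⟨by rw [mul_comm]; exact C.incid hDb, by rw [mul_comm]; exact C.incid hDb', hb0, hind⟩
  have key : ∀ (e : E), C.D x e → e ≠ 0 → ∀ r : F, C.D x (r • e) := fun e he he0 r =>
    (C.scal r (C.incid he)).1 ((C.axis_structure hE hτ hq4 hp (C.isA_of_D he hx he0)).2 hu _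
      (by rw [mul_smul_comm, map_smul, C.incid he, smul_zero]))
  obtain ⟨r, -, o, rfl⟩ := hbase.exists_smul_pt hE hτ hx (by rw [mul_comm]; exact h) ha
  cases o with
  | none => exact key b hDb hb0 r
  | some t =>
    rw [pt, smul_add, smul_smul]
    exact C.add_right (key b' hDb' hb0' r) (key b hDb hb0 _)

/-- An invariant configuration with one elation has all elations. -/
theorem full (hE : finrank F E = 3) (hτ : τ ≠ 0) (hq4 : Fintype.card F ≠ 4) {c a : E} (hc : c ≠ 0)
    (ha : a ≠ 0) (hD : C.D c a) (x b : E) (h : τ (b * x) = 0) : C.D x b := by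
  classical
  obtain ⟨p, hchar⟩ := CharP.exists F
  have hp : p.Prime := CharP.char_is_prime F p
  rcases C.cset_cases hE hτ hq4 hp hc ha hD with hu | ⟨h3, hp2, hT⟩
  · exact C.full_of_univ hE hτ hq4 hp hu x b h
  rcases C.symm.cset_cases hE hτ hq4 hp ha hc hD with hu | ⟨-, -, hU⟩
  · exact C.symm.full_of_univ hE hτ hq4 hp hu b x (by rw [mul_comm]; exact h)
  exfalso
  subst hp2
  haveI := Fact.mk Nat.prime_two
  obtain ⟨n, -, hqn⟩ := FiniteField.card F 2
  have hm4 : Fintype.card F % 4 = 0 := by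
    rcases card_cls_cases (F := F) with h1 | ⟨-, h1⟩
    · omega
    have hn : (n : ℕ) ≠ 1 := fun hn => by rw [hqn, hn] at h1; norm_num at h1
    have := n.pos
    obtain ⟨k, hk⟩ : ∃ k, (n : ℕ) = k + 2 := ⟨(n : ℕ) - 2, by omega⟩
    rw [hqn, hk, pow_add]
    omega
  have hν3 : ∀ g : Cls F, 3 ≤ nu τ g := fun g => by
    rcases (nu_facts (τ := τ) hE hτ hq4 g).2.2 with h' | h'
    · exact h'
    · omega
  obtain ⟨⟨H, hH⟩, -⟩ := C.axis_structure hE hτ hq4 hp (C.isA_of_D hD hc ha)
  rw [hT, sum_singleton] at hH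
  -- the other classes of lines
  obtain ⟨a', ha', hDa', hind⟩ := C.exists_axis hE hτ hq4 hp (C.isC_of_D hD hc ha) a
  have hothers : ∀ j, j ≠ cls F a → nu τ (j * cls F c) % 4 = 1 := by
    intro j hj
    obtain ⟨b', hb', hbc, hcls, -⟩ := exists_other (a := a) (τ := τ) hE hτ hc j (le_trans (by norm_num) (hν3 _))
    obtain ⟨v, hbase⟩ := exists_isBase hE hτ hb' hc hbc
    let f : C.axes c →+ F :=
      ((τ.toAddMonoidHom).comp (AddMonoidHom.mulRight v)).comp (C.axes c).subtype
    have hinj : Function.Injective f := by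
      rw [injective_iff_map_eq_zero]
      rintro ⟨e, he⟩ h0
      by_contra hne
      have he0 : e ≠ 0 := fun hh => hne (Subtype.ext hh)
      have hclse : cls F e = cls F a := by
        have := (C.symm.isC_iff hE he0).1 (C.isA_of_D he hc he0)
        rwa [hU, mem_singleton] at this
      obtain ⟨u, hu⟩ := exists_smul_of_two τ hE hτ he0 (b := b') (fun u hu => hj (by
        rw [← hcls, hu, cls_smul hE (fun hh => hb' (by rw [hu, hh, zero_smul])) he0, hclse]))
        hc (C.incid he) hbc h0 hbase.right_mem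
      exact hbase.indep u hu
    obtain ⟨m, hm⟩ := C.card_dvd hE hτ hb' hbase (C.isC_of_D hD hc ha) f.range (by
      rintro _ ⟨e, rfl⟩
      exact ⟨e, e.2, rfl⟩)
    rw [hT, sum_singleton, hcls] at hm
    have h4 : 4 ∣ Nat.card f.range := by
      have e : Nat.card f.range = Nat.card (C.axes c) :=
        (Nat.card_congr (AddMonoidHom.ofInjective hinj).toEquiv).symm
      have hdvd : Nat.card f.range ∣ 2 ^ (n : ℕ) := by
        rw [← hqn, ← Nat.card_eq_fintype_card]
        exact AddSubgroup.card_addSubgroup_dvd_card _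
      obtain ⟨k, -, hk⟩ := (Nat.dvd_prime_pow Nat.prime_two).1 hdvd
      have h2 : 2 < Nat.card (C.axes c) := by
        have hs : #({0, a, a'} : Finset E) = 3 := by
          rw [card_eq_three]
          exact ⟨0, a, a', ha.symm, ha'.symm, fun h' => hind 1 (by rw [one_smul, h']), rfl⟩
        rw [← SetLike.coe_sort_coe, Nat.card_coe_set_eq, Set.ncard_eq_toFinset_card']
        refine Nat.lt_of_lt_of_le (by omega) (card_le_card (s := ({0, a, a'} : Finset E)) fun e he => ?_)
        simp only [mem_insert, mem_singleton] at he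
        rw [Set.mem_toFinset]
        rcases he with rfl | rfl | rfl
        · exact (C.axes c).zero_mem
        · exact hD
        · exact hDa'
      rw [← e, hk] at h2
      obtain ⟨l, rfl⟩ : ∃ l, k = l + 2 := ⟨k - 2, by
        rcases k with _ | _ | k <;> simp_all⟩
      rw [hk, pow_add]
      exact ⟨2 ^ l, by ring⟩
    obtain ⟨w, hw⟩ := h4
    rw [hm, hw, mul_assoc]
    omega
  have hc2 : #((univ : Finset (Cls F)).erase (cls F a)) = 2 := by
    rw [card_erase_of_mem (mem_univ _), card_univ, h3]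
  obtain ⟨j₁, j₂, hj, he⟩ := card_eq_two.1 hc2
  have hj1 : j₁ ≠ cls F a := ne_of_mem_erase (he ▸ mem_insert_self j₁ {j₂})
  have hj2 : j₂ ≠ cls F a := ne_of_mem_erase (he ▸ mem_insert_of_mem (mem_singleton_self j₂))
  have hsum : ∑ j, nu τ (j * cls F c) = Fintype.card F + 1 := by
    rw [← nu_sum (F := F) hE hτ]
    exact Fintype.sum_equiv (Equiv.mulRight (cls F c)) _ _ fun j => rfl
  rw [← add_sum_erase _ _ (mem_univ (cls F a)), he, sum_pair hj] at hsum
  have e1 := hothers _ hj1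
  have e2 := hothers _ hj2
  have hHdvd : Nat.card H ∣ 2 ^ (n : ℕ) := by
    rw [← hqn, ← Nat.card_eq_fintype_card]
    exact AddSubgroup.card_addSubgroup_dvd_card _
  obtain ⟨k, -, hk⟩ := (Nat.dvd_prime_pow Nat.prime_two).1 hHdvd
  have hg3 : nu τ (cls F a * cls F c) = 3 := by
    rcases k with _ | _ | k
    · rw [hk] at hH
      have := (nu_facts (τ := τ) hE hτ hq4 (cls F a * cls F c)).2.1
      simp at hH
      omega
    · rw [hk] at hH; simpa using hH
    · rw [hk, pow_succ, pow_succ] at hH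
      omega
  obtain ⟨g, hg, hbad⟩ := nu_sixteen (τ := τ) hE hτ hm4 hq4 h3 hg3
  obtain ⟨j, rfl⟩ : ∃ j, g = j * cls F c := ⟨g * (cls F c)⁻¹, by rw [inv_mul_cancel_right]⟩
  exact hbad (hothers j fun hj' => hg (by rw [hj']))

end Cfg

end Cfsg.Agent.H55.SLThree
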