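import Cfsg.Agent.H55.SLThree.Count

/-!
Powers of a generator of the norm-one torus of a cubic extension.
-/

set_option autoImplicit false
set_option linter.style.haveILetI false

namespace Cfsg.Agent.H55.SLThree

open Module Finset

variable {F : Type*} [Field F] [Fintype F] {E : Type*} [Field E] [Algebra F E] [Fintype E]

theorem pow_size_eq_one (hE : finrank F E = 3) {x : E} (hN : Algebra.norm F x = 1) :
    x ^ (Fintype.card F ^ 2 + Fintype.card F + 1) = 1 := by
  have h := FiniteField.algebraMap_norm_eq_pow_sum (K := F) (L := E) (x := x)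
  rw [hN, map_one, hE, Nat.card_eq_fintype_card] at h
  simp only [sum_range_succ, sum_range_zero, zero_add, pow_zero, pow_one] at h
  rw [h]
  congr 1
  ring

theorem not_nine_dvd (q : ℕ) : ¬ 9 ∣ q ^ 2 + q + 1 := by
  intro h
  have h1 : (q ^ 2 + q + 1) % 9 = ((q % 9) ^ 2 + q % 9 + 1) % 9 := by
    simp [Nat.add_mod, Nat.pow_mod]
  have h2 : q % 9 < 9 := Nat.mod_lt _ (by norm_num)
  rw [Nat.dvd_iff_mod_eq_zero, h1] at h
  interval_cases hq : q % 9 <;> simp at h

/-- The cube of a non-scalar element of norm one is not a scalar. -/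
theorem not_cube (hE : finrank F E = 3) {x : E} (hx : x ∉ Set.range (algebraMap F E))
    (hN : Algebra.norm F x = 1) : x ^ 3 ∉ Set.range (algebraMap F E) := by
  rintro ⟨c, hc⟩
  have hc3 : c ^ 3 = 1 := by
    rw [← norm_algebraMap' hE, hc, map_pow, hN, one_pow]
  have h9 : x ^ 9 = 1 := by rw [show (9 : ℕ) = 3 * 3 from rfl, pow_mul, ← hc, ← map_pow, hc3, map_one]
  have hord : orderOf x ∣ Nat.gcd 9 (Fintype.card F ^ 2 + Fintype.card F + 1) :=
    Nat.dvd_gcd (orderOf_dvd_of_pow_eq_one h9) (orderOf_dvd_of_pow_eq_one (pow_size_eq_one hE hN))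
  have hg : Nat.gcd 9 (Fintype.card F ^ 2 + Fintype.card F + 1) ∣ 3 := by
    obtain ⟨k, hk, he⟩ := (Nat.dvd_prime_pow Nat.prime_three).1
      (Nat.gcd_dvd_left (3 ^ 2) (Fintype.card F ^ 2 + Fintype.card F + 1))
    rw [show (9 : ℕ) = 3 ^ 2 from rfl, he]
    rcases (show k = 0 ∨ k = 1 ∨ k = 2 by omega) with rfl | rfl | rfl
    · norm_num
    · norm_num
    · exact absurd (he ▸ Nat.gcd_dvd_right (3 ^ 2) (Fintype.card F ^ 2 + Fintype.card F + 1))
        (not_nine_dvd _)
  have h3 : x ^ 3 = 1 := orderOf_dvd_iff_pow_eq_one.1 (hord.trans hg)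
  have hne : x - 1 ≠ 0 := fun h => hx ⟨1, by rw [map_one, ← sub_eq_zero.1 h]⟩
  have hq : (1 : F) • x ^ 2 + (1 : F) • x + (1 : F) • (1 : E) = 0 := by
    simp only [one_smul]
    refine mul_left_cancel₀ hne ?_
    linear_combination h3
  exact one_ne_zero (coeff_eq_zero hE hx hq).1

/-- A generator of the norm-one torus, none of whose powers `k` with `q² + q + 1 ∤ 3 k` is a scalar. -/
theorem exists_torus_gen (hE : finrank F E = 3) : ∃ x : Eˣ, Algebra.norm F (x : E) = 1 ∧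
    ∀ k : ℕ, ¬ Fintype.card F ^ 2 + Fintype.card F + 1 ∣ 3 * k → (x : E) ^ k ∉ Set.range (algebraMap F E) := by
  classical
  set q := Fintype.card F with hq
  have hq1 : 1 < q := Fintype.one_lt_card
  obtain ⟨g, hg⟩ := IsCyclic.exists_generator (α := Eˣ)
  have hord : orderOf g = q ^ 3 - 1 := by
    rw [orderOf_eq_card_of_forall_mem_zpowers hg, Nat.card_eq_fintype_card, Fintype.card_units,
      Module.card_eq_pow_finrank (K := F), hE]
  have hN : Algebra.norm F ((g ^ (q - 1) : Eˣ) : E) = 1 := by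
    rw [Units.val_pow_eq_pow_val, map_pow]
    exact FiniteField.pow_card_sub_one_eq_one _ (norm_ne g.ne_zero)
  refine ⟨g ^ (q - 1), hN, fun k hk => ?_⟩
  rintro ⟨c, hc⟩
  apply hk
  have hc0 : c ≠ 0 := fun h => by
    rw [h, map_zero] at hc
    exact pow_ne_zero k (g ^ (q - 1) : Eˣ).ne_zero hc.symm
  have h1 : g ^ ((q - 1) * k * (q - 1)) = 1 := by
    refine Units.ext ?_
    rw [pow_mul, pow_mul, Units.val_pow_eq_pow_val, Units.val_pow_eq_pow_val, ← hc, ← map_pow,
      FiniteField.pow_card_sub_one_eq_one _ hc0, map_one, Units.val_one]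
  have h2 := orderOf_dvd_of_pow_eq_one h1
  rw [hord] at h2
  obtain ⟨m, hm⟩ : ∃ m, q = m + 1 := ⟨q - 1, by omega⟩
  rw [hm] at h2 ⊢
  have hcube : (m + 1) ^ 3 - 1 = m * ((m + 1) ^ 2 + (m + 1) + 1) := by
    rw [show (m + 1) ^ 3 = m * ((m + 1) ^ 2 + (m + 1) + 1) + 1 by ring]
    omega
  rw [hcube, Nat.add_sub_cancel, mul_assoc m] at h2
  have hm0 : 0 < m := by omega
  have h3 : (m + 1) ^ 2 + (m + 1) + 1 ∣ k * m := Nat.dvd_of_mul_dvd_mul_left hm0 h2
  have h4 : (m + 1) ^ 2 + (m + 1) + 1 ∣ k * m * (m + 3) + 3 * k :=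
    ⟨k, by ring⟩
  exact (Nat.dvd_add_right (h3.mul_right _)).1 h4

end Cfsg.Agent.H55.SLThree
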