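import Cfsg.Agent.H1.HeisThree.Central
import Mathlib.Algebra.QuadraticAlgebra.Basic

/-!
Exact arithmetic certificates in `ℤ[ω][√T]` for the Heisenberg normaliser in three dimensions.
-/

set_option autoImplicit false

namespace Cfsg.Agent.H55.SLThree.HeisCert

open Matrix

/-- The Eisenstein integers. -/
abbrev Eis : Type := QuadraticAlgebra ℤ (-1) (-1)

/-- The Eisenstein integers with a square root of `T` adjoined. -/
abbrev Ring4 (T : ℤ) : Type := QuadraticAlgebra Eis ⟨T, 0⟩ 0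

local notation "T3" => ZMod 3

variable {T : ℤ}

/-- The element `a + b ω + c √T + d ω √T`. -/
def el (a b c d : ℤ) : Ring4 T := ⟨⟨a, b⟩, ⟨c, d⟩⟩

/-- A square matrix of size three by rows. -/
def mk3 {R : Type*} (a b c d e f g h i : R) : Matrix T3 T3 R := Matrix.of fun r s =>
  if r = 0 then (if s = 0 then a else if s = 1 then b else c)
  else if r = 1 then (if s = 0 then d else if s = 1 then e else f)
  else (if s = 0 then g else if s = 1 then h else i)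

/-- The shift. -/
def Xq : Matrix T3 T3 (Ring4 T) := mk3 0 0 1 1 0 0 0 1 0

/-- The diagonal element. -/
def Zq : Matrix T3 T3 (Ring4 T) := mk3 1 0 0 0 (el 0 1 0 0) 0 0 0 (el (-1) (-1) 0 0)

/-- The involution. -/
def Fq : Matrix T3 T3 (Ring4 T) := mk3 (-1) 0 0 0 0 (-1) 0 (-1) 0

/-- The Fourier element times `1 + 2ω`. -/
def Sq : Matrix T3 T3 (Ring4 T) :=
  mk3 1 1 1 1 (el 0 1 0 0) (el (-1) (-1) 0 0) 1 (el (-1) (-1) 0 0) (el 0 1 0 0)

/-- The exceptional element times `2 (1 + 2ω)`. -/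
def Bq : Matrix T3 T3 (Ring4 T) :=
  mk3 (el 4 4 0 0) (el 2 0 0 0) (el 2 0 0 0)
    (el 2 0 0 0) (el 0 2 1 2) (el 0 2 (-1) (-2))
    (el 2 0 0 0) (el 0 2 (-1) (-2)) (el 0 2 1 2)

/-- A scaled inverse of the exceptional element for `T = 2`. -/
def Biq₂ : Matrix T3 T3 (Ring4 2) :=
  mk3 (el 0 8 0 0) (el (-4) 0 0 0) (el (-4) 0 0 0)
    (el (-4) 0 0 0) (el 4 4 2 4) (el 4 4 (-2) (-4))
    (el (-4) 0 0 0) (el 4 4 (-2) (-4)) (el 4 4 2 4)

/-- A scaled inverse of the exceptional element for `T = -2`. -/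
def BiqNeg : Matrix T3 T3 (Ring4 (-2)) :=
  mk3 (el 0 (-8) 0 0) (el 4 0 0 0) (el 4 0 0 0)
    (el 4 0 0 0) (el (-4) (-4) 2 4) (el (-4) (-4) (-2) (-4))
    (el 4 0 0 0) (el (-4) (-4) (-2) (-4)) (el (-4) (-4) 2 4)

section Derived

variable (Wh Wi : Matrix T3 T3 (Ring4 T)) (k : Ring4 T)

/-- The scaled product of two reflections. -/
def Gq : Matrix T3 T3 (Ring4 T) := Wh * Fq * (Wi * Fq)

/-- The scaled sum of the two non-trivial eigenvalues. -/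
def Aq : Ring4 T := Gq Wh Wi 0 0 + Gq Wh Wi 1 1 + Gq Wh Wi 2 2 - k

/-- The scaled projection on the fixed point. -/
def Pq : Matrix T3 T3 (Ring4 T) := Gq Wh Wi * Gq Wh Wi - Aq Wh Wi k • Gq Wh Wi + (k * k) • 1

/-- The scaled complementary projection. -/
def Qq : Matrix T3 T3 (Ring4 T) := (k * (k + k - Aq Wh Wi k)) • 1 - Pq Wh Wi k

/-- The entry deciding that the rotation has no flip-fixed part. -/
def betaEntry : Matrix T3 T3 (Ring4 T) :=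
  Gq Wh Wi * Qq Wh Wi k - Fq * Gq Wh Wi * Fq * Qq Wh Wi k

/-- The entry deciding that the central involution moves the Fourier element. -/
def zEntry (Sg : Matrix T3 T3 (Ring4 T)) : Matrix T3 T3 (Ring4 T) :=
  (Pq Wh Wi k + Pq Wh Wi k - (k * (k + k - Aq Wh Wi k)) • 1) * Sq -
    Sg * (Pq Wh Wi k + Pq Wh Wi k - (k * (k + k - Aq Wh Wi k)) • 1)

/-- The constant part of the conjugator equation. -/
def hConst (Sg : Matrix T3 T3 (Ring4 T)) : Matrix T3 T3 (Ring4 T) :=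
  Wi * (k • Pq Wh Wi k) * Sq - Sg * (Wi * (k • Pq Wh Wi k))

/-- The variable part of the conjugator equation. -/
def hLin (σ : Ring4 T) (Sg : Matrix T3 T3 (Ring4 T)) : Matrix T3 T3 (Ring4 T) :=
  Wi * ((Gq Wh Wi + (σ * k) • 1) * Qq Wh Wi k) * Sq -
    Sg * (Wi * ((Gq Wh Wi + (σ * k) • 1) * Qq Wh Wi k))

/-- The scalar deciding the conjugator equation. -/
def hEntry (σ : Ring4 T) (Sg : Matrix T3 T3 (Ring4 T)) (i j : T3) : Ring4 T :=
  (Aq Wh Wi k + 2 * σ * k) * (hConst Wh Wi k Sg i j * hConst Wh Wi k Sg i j) -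
    k * (hLin Wh Wi k σ Sg i j * hLin Wh Wi k σ Sg i j)

/-- The scaled rotation minus one. -/
def aPlus : Ring4 T := Aq Wh Wi k + k + k

/-- The scaled rotation plus one. -/
def aMinus : Ring4 T := Aq Wh Wi k - k - k

/-- `e` divides a smooth number times powers of the two degeneracy scalars. -/
def Unitish (e : Ring4 T) : Prop :=
  ∃ (u : Ring4 T) (a b c d i j : ℕ),
    e * u = ((2 ^ a * 3 ^ b * 5 ^ c * 19 ^ d : ℕ) : Ring4 T) * aPlus Wh Wi k ^ i * aMinus Wh Wi k ^ j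

/-- The certified identities. -/
structure Cert : Prop where
  inv : Wh * Wi = k • 1
  cubic : (Gq Wh Wi - k • 1) * Pq Wh Wi k = 0
  flip_P : Fq * Pq Wh Wi k = Pq Wh Wi k * Fq
  k_ne : Unitish Wh Wi k k
  beta : ∃ i j, Unitish Wh Wi k (betaEntry Wh Wi k i j)
  indep : ∃ i j i' j', Unitish Wh Wi k (Qq Wh Wi k i j * (Gq Wh Wi * Qq Wh Wi k) i' j' -
    Qq Wh Wi k i' j' * (Gq Wh Wi * Qq Wh Wi k) i j)
  zS : ∃ i j, Unitish Wh Wi k (zEntry Wh Wi k Sq i j)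
  zS' : ∃ i j, Unitish Wh Wi k (zEntry Wh Wi k (Fq * Sq) i j)
  hS : ∃ i j, Unitish Wh Wi k (hEntry Wh Wi k 1 Sq i j)
  hS' : ∃ i j, Unitish Wh Wi k (hEntry Wh Wi k 1 (Fq * Sq) i j)
  hT : ∃ i j, Unitish Wh Wi k (hEntry Wh Wi k (-1) Sq i j)
  hT' : ∃ i j, Unitish Wh Wi k (hEntry Wh Wi k (-1) (Fq * Sq) i j)

end Derived

set_option maxHeartbeats 2000000 in
theorem cert_two : Cert (T := 2) (Xq * Bq * Zq) (Zq * Zq * Biq₂ * (Xq * Xq)) (el (-48) 0 0 0) where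
  inv := by decide +kernel
  cubic := by decide +kernel
  flip_P := by decide +kernel
  k_ne := ⟨el (-1) 0 0 0, 4, 1, 0, 0, 0, 0, by decide +kernel⟩
  beta := ⟨1, 2, el 1 0 (-1) 0, 6, 2, 0, 0, 0, 1, by decide +kernel⟩
  indep := ⟨0, 0, 1, 2, el 1 0 (-1) 0, 10, 2, 0, 0, 0, 2, by decide +kernel⟩
  zS := ⟨1, 1, el 1 2 1 2, 8, 3, 0, 0, 0, 0, by decide +kernel⟩
  zS' := ⟨1, 1, el 1 0 (-1) 0, 6, 3, 0, 0, 0, 0, by decide +kernel⟩
  hS := ⟨0, 1, el (-2) (-10) (-1) (-8), 24, 8, 0, 0, 1, 1, by decide +kernel⟩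
  hS' := ⟨0, 1, el 2 10 1 8, 24, 7, 1, 0, 1, 1, by decide +kernel⟩
  hT := ⟨0, 0, el (-11) (-16) (-8) (-12), 27, 8, 2, 0, 0, 1, by decide +kernel⟩
  hT' := ⟨0, 0, el 3 0 2 0, 29, 8, 0, 0, 0, 1, by decide +kernel⟩

set_option maxHeartbeats 2000000 in
theorem cert_neg_two : Cert (T := -2) (Xq * Bq * Xq) (Xq * Xq * BiqNeg * (Xq * Xq)) (el 48 0 0 0) where
  inv := by decide +kernel
  cubic := by decide +kernel
  flip_P := by decide +kernel
  k_ne := ⟨el 1 0 0 0, 4, 1, 0, 0, 0, 0, by decide +kernel⟩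
  beta := ⟨1, 1, el 7 14 6 0, 9, 4, 2, 0, 0, 0, by decide +kernel⟩
  indep := ⟨0, 0, 1, 1, el 3 6 (-1) 0, 15, 6, 2, 0, 0, 0, by decide +kernel⟩
  zS := ⟨1, 1, el 1 2 0 0, 8, 3, 0, 0, 0, 0, by decide +kernel⟩
  zS' := ⟨1, 1, el 1 0 1 2, 6, 3, 1, 0, 0, 0, by decide +kernel⟩
  hS := ⟨0, 1, el (-22) (-26) 45 48, 26, 10, 3, 0, 1, 0, by decide +kernel⟩
  hS' := ⟨0, 1, el 2 (-2) 1 0, 26, 8, 2, 0, 1, 0, by decide +kernel⟩
  hT := ⟨1, 1, el 0 29 (-12) (-6), 29, 10, 4, 0, 0, 0, by decide +kernel⟩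
  hT' := ⟨0, 0, el 1019 1360 511 242, 29, 11, 2, 2, 0, 0, by decide +kernel⟩

end Cfsg.Agent.H55.SLThree.HeisCert
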