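import Cfsg.Agent.H55.SLThree.HeisCert

/-!
No element of the exceptional type commutes with the involution in a small centraliser.
-/

set_option autoImplicit false
set_option linter.style.haveILetI false

namespace Cfsg.Agent.H55.SLThree.HeisExceptional

open Matrix Cfsg.Agent.H1.HeisThree HeisCert

variable {F : Type*} [Field F]

local notation "T3" => ZMod 3
local notation "M3" => Matrix (ZMod 3) (ZMod 3) F
local notation "G3" => GL (ZMod 3) F

/-- The homomorphism out of a quadratic algebra. -/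
def quadHom {K : Type*} [CommRing K] {a b : K} (f : K →+* F) (u : F) (hu : u * u = f a + f b * u) :
    QuadraticAlgebra K a b →+* F where
  toFun z := f z.re + f z.im * u
  map_zero' := by simp
  map_one' := by simp [QuadraticAlgebra.re_one, QuadraticAlgebra.im_one]
  map_add' z w := by simp [map_add]; ring
  map_mul' z w := by
    simp [map_add, map_mul]
    linear_combination -(f z.im * f w.im) * hu

variable (C : Cube F) {T : ℤ} {m : F}

/-- The evaluation of the Eisenstein integers. -/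
def eisHom : Eis →+* F := quadHom (Int.castRingHom F) C.ω (by simp; linear_combination C.sq_add)

/-- The evaluation of the coefficient ring. -/
def evalHom (hm : m * m = (T : F)) : Ring4 T →+* F :=
  quadHom (eisHom C) m (by simp [eisHom, quadHom, hm])

theorem evalHom_el (hm : m * m = (T : F)) (a b c d : ℤ) :
    evalHom C hm (el a b c d) = (a : F) + b * C.ω + ((c : F) + d * C.ω) * m := rfl

theorem smooth_ne_zero {p : ℕ} [CharP F p] (hp : p.Prime) (hp3 : p % 3 = 1) (hp9 : p % 9 ≠ 1) (a b c d : ℕ) :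
    ((2 ^ a * 3 ^ b * 5 ^ c * 19 ^ d : ℕ) : F) ≠ 0 := by
  intro h
  have key : ∀ {q e : ℕ}, q.Prime → p ∣ q ^ e → p = q := fun hq h =>
    (Nat.prime_dvd_prime_iff_eq hp hq).1 (hp.dvd_of_dvd_pow h)
  rcases (hp.dvd_mul.1 ((CharP.cast_eq_zero_iff F p _).1 h)) with h | h
  · rcases hp.dvd_mul.1 h with h | h
    · rcases hp.dvd_mul.1 h with h | h
      · have := key Nat.prime_two h; omega
      · have := key Nat.prime_three h; omega
    · have := key (by norm_num : Nat.Prime 5) h; omega
  · have := key (by norm_num : Nat.Prime 19) h; omega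

section Core

variable [Finite F] (Wh Wi : Matrix T3 T3 (Ring4 T)) (k : Ring4 T)

set_option maxHeartbeats 1000000 in
/-- A certified word is absurd when the centraliser of the involution respects the Fourier element. -/
theorem false_of_cert {p : ℕ} [CharP F p] (hp : p.Prime) (hp3 : p % 3 = 1) (hp9 : p % 9 ≠ 1)
    (hm : m * m = (T : F)) (hc : Cert Wh Wi k) (hplus : evalHom C hm (aPlus Wh Wi k) ≠ 0)
    (hminus : evalHom C hm (aMinus Wh Wi k) ≠ 0) {M : Subgroup G3} (hflip : C.flip ∈ M)
    (hT : ∀ x ∈ M, x * C.flip = C.flip * x → x * C.S = C.S * x ∨ x * C.S = C.flip * C.S * x)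
    {w : G3} (hw : w ∈ M) {c : F} (hc0 : c ≠ 0)
    (hWh : (evalHom C hm).mapMatrix Wh = c • (w : M3)) : False := by
  set φ := evalHom C hm
  set f := φ.mapMatrix (m := T3) with hf
  have hne : ∀ {e : Ring4 T}, Unitish Wh Wi k e → φ e ≠ 0 := by
    rintro e ⟨u, a, b, cc, d, i, j, he⟩ h0
    have := congrArg φ he
    rw [map_mul, h0, zero_mul, map_mul, map_mul, map_natCast, map_pow, map_pow] at this
    exact mul_ne_zero (mul_ne_zero (smooth_ne_zero hp hp3 hp9 a b cc d) (pow_ne_zero _ hplus))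
      (pow_ne_zero _ hminus) this.symm
  have hsmul : ∀ (x : Ring4 T) (A : Matrix T3 T3 (Ring4 T)), f (x • A) = φ x • f A := fun x A => by
    ext i j; simp [hf]
  have hfl : f Fq = (C.flip : M3) := by
    ext i j
    obtain rfl | rfl | rfl : i = 0 ∨ i = 1 ∨ i = 2 := by revert i; decide
    all_goals obtain rfl | rfl | rfl : j = 0 ∨ j = 1 ∨ j = 2 := by revert j; decide
    all_goals simp [hf, Fq, mk3, Cube.coe_flip, neg_one_T3, neg_two_T3, one_ne_two_T3, two_ne_one_T3,
      zero_ne_two_T3, two_ne_zero_T3]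
  have hSq : f Sq = (1 + 2 * C.ω) • (C.S : M3) := by
    have h1 : ∀ x : F, (1 + 2 * C.ω) * (C.s * x) = x := fun x => by
      rw [Cube.s, ← mul_assoc, mul_inv_cancel₀ C.root_ne_zero, one_mul]
    ext i j
    rw [Matrix.smul_apply, smul_eq_mul, Cube.coe_S, h1]
    obtain rfl | rfl | rfl : i = 0 ∨ i = 1 ∨ i = 2 := by revert i; decide
    all_goals obtain rfl | rfl | rfl : j = 0 ∨ j = 1 ∨ j = 2 := by revert j; decide
    all_goals simp [hf, φ, Sq, mk3, evalHom_el, one_ne_two_T3, two_ne_one_T3, zero_ne_two_T3, two_ne_zero_T3,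
      show (1 : T3) * 2 = 2 from rfl, show (2 : T3) * 1 = 2 from rfl, show (2 : T3) * 2 = 1 from rfl,
      Cube.ch_zero, Cube.ch_one, Cube.ch_two]
    all_goals linear_combination -C.sq_add
  have hk : φ k ≠ 0 := hne hc.k_ne
  have hWi : f Wi = (φ k / c) • ((w⁻¹ : G3) : M3) := by
    have h : f Wh * f Wi = φ k • (1 : M3) := by rw [← map_mul, hc.inv, hsmul, map_one]
    rw [hWh, Matrix.smul_mul] at h
    have h' := congrArg (fun A => c⁻¹ • (((w⁻¹ : G3) : M3) * A)) h
    simp only [Matrix.mul_smul, ← Matrix.mul_assoc, Units.inv_mul, one_mul, mul_one, smul_smul,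
      inv_mul_cancel₀ hc0, one_smul] at h'
    rw [h', div_eq_inv_mul]
  set g : G3 := w * C.flip * w⁻¹ * C.flip with hgdef
  have hgM : g ∈ M := mul_mem (mul_mem (mul_mem hw hflip) (inv_mem hw)) hflip
  have hgG : f (Gq Wh Wi) = φ k • (g : M3) := by
    rw [Gq, map_mul, map_mul, map_mul, hWh, hWi, hfl, hgdef]
    simp only [Units.val_mul, Matrix.smul_mul, Matrix.mul_smul, smul_smul, ← Matrix.mul_assoc]
    congr 1
    field_simp
  set D : F := φ (k * (k + k - Aq Wh Wi k)) with hD
  have hD0 : D ≠ 0 := by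
    rw [hD, map_mul]
    refine mul_ne_zero hk fun h => hminus ?_
    rw [aMinus, map_sub, map_sub]
    rw [map_sub, map_add] at h
    linear_combination -h
  set t : F := φ (Aq Wh Wi k) / φ k with ht
  have htk : φ (Aq Wh Wi k) = t * φ k := (div_mul_cancel₀ _ hk).symm
  have hD' : D = φ k * φ k * (2 - t) := by
    rw [hD, map_mul, map_sub, map_add, htk]; ring
  set P₀ : M3 := D⁻¹ • f (Pq Wh Wi k) with hPdef
  set Q : M3 := 1 - P₀ with hQdef
  have hP : f (Pq Wh Wi k) = D • P₀ := by rw [hPdef, smul_smul, mul_inv_cancel₀ hD0, one_smul]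
  have hPform : f (Pq Wh Wi k) = (φ k * φ k) • ((g : M3) * g - t • (g : M3) + 1) := by
    rw [Pq, map_add, map_sub, map_mul, hsmul, hsmul, map_one, hgG, map_mul, htk]
    simp only [Matrix.smul_mul, Matrix.mul_smul, smul_smul, smul_add, smul_sub]
    ring_nf
  have hgP : (g : M3) * P₀ = P₀ := by
    have h := congrArg f hc.cubic
    rw [map_mul, map_sub, hsmul, map_one, map_zero, hgG, hP, ← smul_sub, Matrix.smul_mul, Matrix.mul_smul,
      smul_smul, smul_eq_zero_iff_right (mul_ne_zero hk hD0), sub_mul, one_mul, sub_eq_zero] at h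
    exact h
  have hPP : P₀ * P₀ = P₀ := by
    have h : f (Pq Wh Wi k) * P₀ = D • P₀ := by
      rw [hPform, Matrix.smul_mul, add_mul, sub_mul, Matrix.smul_mul, mul_assoc, hgP, hgP, one_mul, hD',
        smul_smul]
      module
    rw [hP, Matrix.smul_mul] at h
    exact smul_right_injective _ hD0 h
  have hQQ : Q * Q = Q := by rw [hQdef]; simp [sub_mul, mul_sub, hPP]
  have hPQ : P₀ * Q = 0 := by rw [hQdef, mul_sub, mul_one, hPP, sub_self]
  have hQP : Q * P₀ = 0 := by rw [hQdef, sub_mul, one_mul, hPP, sub_self]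
  have hPg : P₀ * (g : M3) = P₀ := by
    have hcom : f (Pq Wh Wi k) * (g : M3) = (g : M3) * f (Pq Wh Wi k) := by
      rw [hPform]
      simp only [Matrix.smul_mul, Matrix.mul_smul, add_mul, sub_mul, mul_add, mul_sub, one_mul, mul_one,
        mul_assoc]
    rw [hP, Matrix.smul_mul, Matrix.mul_smul, hgP] at hcom
    exact smul_right_injective _ hD0 hcom
  have hgQ : (g : M3) * Q = Q * g := by rw [hQdef, mul_sub, sub_mul, hgP, hPg, mul_one, one_mul]
  have hggQ : (g : M3) * ((g : M3) * Q) = t • ((g : M3) * Q) - Q := by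
    have h : f (Pq Wh Wi k) * Q = 0 := by rw [hP, Matrix.smul_mul, hPQ, smul_zero]
    rw [hPform, Matrix.smul_mul, smul_eq_zero_iff_right (mul_ne_zero hk hk), add_mul, sub_mul,
      Matrix.smul_mul, one_mul, mul_assoc] at h
    rw [eq_sub_iff_add_eq]
    calc (g : M3) * ((g : M3) * Q) + Q = ((g : M3) * ((g : M3) * Q) - t • ((g : M3) * Q) + Q) +
          t • ((g : M3) * Q) := by abel
      _ = _ := by rw [h, zero_add]
  have hFP : (C.flip : M3) * P₀ = P₀ * C.flip := by
    have h := congrArg f hc.flip_P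
    rw [map_mul, map_mul, hfl, hP, Matrix.mul_smul, Matrix.smul_mul] at h
    exact smul_right_injective _ hD0 h
  have hQk : f (Qq Wh Wi k) = D • Q := by
    rw [Qq, map_sub, hsmul, map_one, hP, hQdef, smul_sub]
  have hpow : ∀ j : ℕ, ∃ α β : F, ((g ^ j : G3) : M3) = P₀ + α • Q + β • ((g : M3) * Q) := by
    intro j
    induction j with
    | zero => exact ⟨1, 0, by simp [hQdef]⟩
    | succ j ih =>
      obtain ⟨α, β, h⟩ := ih
      refine ⟨-β, α + β * t, ?_⟩
      rw [pow_succ', Units.val_mul, h, mul_add, mul_add, hgP, Matrix.mul_smul, Matrix.mul_smul, hggQ,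
        smul_sub, smul_smul, add_smul, neg_smul]
      abel
  have hff : C.flip * C.flip = 1 := C.flip_mul_flip
  have hfgf : C.flip * g * C.flip = g⁻¹ := by
    refine (inv_eq_of_mul_eq_one_right ?_).symm
    calc g * (C.flip * g * C.flip)
        = w * C.flip * w⁻¹ * (C.flip * C.flip) * (w * C.flip * w⁻¹) * (C.flip * C.flip) := by
          rw [hgdef]; group
      _ = w * (C.flip * C.flip) * w⁻¹ := by
          rw [show w * C.flip * w⁻¹ * (C.flip * C.flip) * (w * C.flip * w⁻¹) * (C.flip * C.flip) =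
            w * C.flip * w⁻¹ * (1 * (w * C.flip * w⁻¹) * 1) by rw [hff]; group]
          group
      _ = 1 := by rw [hff]; group
  have hfpow : ∀ j : ℕ, C.flip * g ^ j * C.flip = (g ^ j)⁻¹ := by
    intro j
    conv_lhs => rw [show C.flip * g ^ j * C.flip = C.flip * g ^ j * C.flip⁻¹ by rw [C.flip_inv]]
    rw [← conj_pow, C.flip_inv, hfgf, inv_pow]
  have hQne : ∀ {a b : F}, a • Q + b • ((g : M3) * Q) = 0 → a = 0 ∧ b = 0 := by
    intro a b h
    obtain ⟨i, j, i', j', he⟩ := hc.indep
    have hd := hne he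
    rw [map_sub, map_mul, map_mul] at hd
    have e : ∀ r s, φ (Qq Wh Wi k r s) = D * Q r s ∧
        φ ((Gq Wh Wi * Qq Wh Wi k) r s) = φ k * D * ((g : M3) * Q) r s := by
      intro r s
      constructor
      · have := congrArg (fun A : M3 => A r s) hQk
        simpa [hf] using this
      · have := congrArg (fun A : M3 => A r s) (show f (Gq Wh Wi * Qq Wh Wi k) = (φ k * D) • ((g : M3) * Q) by
          rw [map_mul, hgG, hQk, Matrix.smul_mul, Matrix.mul_smul, smul_smul])
        simpa [hf] using this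
    rw [(e i j).1, (e i' j').1, (e i' j').2, (e i j).2] at hd
    have h1 := congrArg (fun A : M3 => A i j) h
    have h2 := congrArg (fun A : M3 => A i' j') h
    simp only [Matrix.add_apply, Matrix.smul_apply, smul_eq_mul, Matrix.zero_apply] at h1 h2
    constructor
    · refine (mul_eq_zero.1 (show a * (D * Q i j * (φ k * D * ((g : M3) * Q) i' j') -
        D * Q i' j' * (φ k * D * ((g : M3) * Q) i j)) = 0 by
        linear_combination (φ k * D * D * ((g : M3) * Q) i' j') * h1 - (φ k * D * D * ((g : M3) * Q) i j) * h2)).resolve_right hd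
    · refine (mul_eq_zero.1 (show b * (D * Q i j * (φ k * D * ((g : M3) * Q) i' j') -
        D * Q i' j' * (φ k * D * ((g : M3) * Q) i j)) = 0 by
        linear_combination (φ k * D * D * Q i j) * h2 - (φ k * D * D * Q i' j') * h1)).resolve_right hd
  have hT' : ∀ x ∈ M, x * C.flip = C.flip * x →
      (x : M3) * f Sq = f Sq * x ∨ (x : M3) * f Sq = f (Fq * Sq) * x := by
    intro x hx hxf
    rw [map_mul, hfl, hSq]
    simp only [Matrix.mul_smul, Matrix.smul_mul]
    rcases hT x hx hxf with h | h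
    · left; rw [← Units.val_mul, h, Units.val_mul]
    · right; rw [← Units.val_mul, h, Units.val_mul, Units.val_mul]
  rcases Nat.even_or_odd' (orderOf g) with ⟨l, hl | hl⟩
  · have hgfin : IsOfFinOrder g := isOfFinOrder_of_finite g
    have hl0 : 0 < l := by have := hgfin.orderOf_pos; omega
    set z := g ^ l with hz
    have hz2 : z * z = 1 := by rw [hz, ← pow_add, ← two_mul, ← hl, pow_orderOf_eq_one]
    have hz1 : z ≠ 1 := fun h => by
      have := Nat.le_of_dvd hl0 (orderOf_dvd_of_pow_eq_one h); omega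
    have hzf : C.flip * z * C.flip = z := by
      rw [hfpow, inv_eq_of_mul_eq_one_right hz2]
    obtain ⟨α, β, hzm⟩ := hpow l
    have hβ : β = 0 := by
      obtain ⟨i, j, he⟩ := hc.beta
      have hd := hne he
      have h := congrArg (fun u : G3 => (u : M3)) hzf
      simp only [Units.val_mul, ← hz] at h
      rw [show ((g ^ l : G3) : M3) = (z : M3) from rfl] at hzm
      rw [hzm] at h
      have hQf : (C.flip : M3) * Q = Q * C.flip := by rw [hQdef, mul_sub, sub_mul, hFP, mul_one, one_mul]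
      have hffm : (C.flip : M3) * C.flip = 1 := by rw [← Units.val_mul, hff, Units.val_one]
      have e1 : (C.flip : M3) * P₀ * C.flip = P₀ := by rw [hFP, mul_assoc, hffm, mul_one]
      have e2 : (C.flip : M3) * Q * C.flip = Q := by rw [hQf, mul_assoc, hffm, mul_one]
      have e3 : (C.flip : M3) * ((g : M3) * Q) * C.flip = (C.flip : M3) * g * C.flip * Q := by
        simp only [mul_assoc, hQf]
      simp only [mul_add, add_mul, Matrix.mul_smul, Matrix.smul_mul, e1, e2, e3] at h
      have h' : β • ((C.flip : M3) * g * C.flip * Q - (g : M3) * Q) = 0 := by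
        rw [smul_sub, sub_eq_zero]; exact add_left_cancel h
      refine (smul_eq_zero.1 h').resolve_right fun h0 => hd ?_
      have := congrArg (fun A : M3 => -(φ k * D) * A i j)
        h0
      beta_reduce at this
      rw [Matrix.zero_apply, mul_zero] at this
      rw [← this]
      show f (betaEntry Wh Wi k) i j = _
      rw [betaEntry, map_sub, map_mul, map_mul, map_mul, map_mul, hgG, hQk, hfl]
      simp only [Matrix.smul_mul, Matrix.mul_smul, smul_smul, Matrix.sub_apply, Matrix.smul_apply, smul_eq_mul]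
      ring
    subst hβ
    rw [zero_smul, add_zero] at hzm
    have hα : α * α = 1 := by
      have h := congrArg (fun u : G3 => (u : M3)) hz2
      simp only [Units.val_mul, Units.val_one] at h
      rw [show (z : M3) = P₀ + α • Q from hzm] at h
      simp only [add_mul, mul_add, Matrix.smul_mul, Matrix.mul_smul, hPP, hPQ, hQP, hQQ, smul_zero, add_zero,
        zero_add, smul_smul] at h
      have h' : (α * α - 1) • Q + (0 : F) • ((g : M3) * Q) = 0 := by
        rw [zero_smul, add_zero, sub_smul, one_smul, sub_eq_zero]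
        exact add_left_cancel (a := P₀) (h.trans (by rw [hQdef]; abel))
      exact sub_eq_zero.1 (hQne h').1
    have hα' : α = -1 := (mul_self_eq_one_iff.1 hα).resolve_left fun h => hz1 (Units.ext (by
      rw [show (z : M3) = P₀ + α • Q from hzm, h, one_smul, hQdef, Units.val_one]; abel))
    have hzq : D • (z : M3) = f (Pq Wh Wi k + Pq Wh Wi k - (k * (k + k - Aq Wh Wi k)) • 1) := by
      rw [show (z : M3) = P₀ + α • Q from hzm, hα', map_sub, map_add, hsmul, map_one, hP, hQdef, neg_smul,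
        one_smul, smul_add, smul_neg, smul_sub, ← hD]
      abel
    have kill : ∀ Sg, (z : M3) * f Sq = f Sg * z → ¬ ∃ i j, Unitish Wh Wi k (zEntry Wh Wi k Sg i j) := by
      rintro Sg h ⟨i, j, he⟩
      refine hne he ?_
      show f (zEntry Wh Wi k Sg) i j = 0
      rw [zEntry, map_sub, map_mul, map_mul, ← hzq, Matrix.smul_mul, Matrix.mul_smul, h, sub_self]
      rfl
    rcases hT' z (pow_mem hgM l) (by
      calc z * C.flip = (C.flip * z * C.flip) * C.flip := by rw [hzf]
        _ = C.flip * z := by rw [mul_assoc, hff, mul_one]) with h | h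
    · exact kill _ h hc.zS
    · exact kill _ h hc.zS'
  · set h₀ := g ^ (l + 1) with hh₀
    have hh2 : h₀ * h₀ = g := by
      rw [hh₀, ← pow_add, show l + 1 + (l + 1) = orderOf g + 1 by omega, pow_succ, pow_orderOf_eq_one, one_mul]
    have hcom : w⁻¹ * h₀ * C.flip = C.flip * (w⁻¹ * h₀) := by
      have e : h₀ * C.flip = w * C.flip * w⁻¹ * h₀ := by
        have e1 : C.flip * h₀ = h₀⁻¹ * C.flip := by
          rw [← hfpow (l + 1), ← hh₀, mul_assoc, hff, mul_one]
        calc h₀ * C.flip = (h₀ * h₀) * (h₀⁻¹ * C.flip) := by group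
          _ = g * (C.flip * h₀) := by rw [hh2, e1]
          _ = w * C.flip * w⁻¹ * (C.flip * C.flip) * h₀ := by rw [hgdef]; group
          _ = _ := by rw [hff, mul_one]
      rw [mul_assoc, e]; group
    obtain ⟨α, β, hhm⟩ := hpow (l + 1)
    rw [show ((g ^ (l + 1) : G3) : M3) = (h₀ : M3) from rfl] at hhm
    have hgm : (g : M3) = P₀ + (g : M3) * Q := by rw [hQdef, mul_sub, hgP, mul_one]; abel
    have hsq := congrArg (fun u : G3 => (u : M3)) hh2
    simp only [Units.val_mul] at hsq
    rw [hhm] at hsq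
    have eQ : Q * ((g : M3) * Q) = (g : M3) * Q := by rw [← mul_assoc, ← hgQ, mul_assoc, hQQ]
    have eP : P₀ * ((g : M3) * Q) = 0 := by rw [← mul_assoc, hPg, hPQ]
    have eP' : (g : M3) * Q * P₀ = 0 := by rw [mul_assoc, hQP, mul_zero]
    have egg : (g : M3) * Q * ((g : M3) * Q) = t • ((g : M3) * Q) - Q := by
      rw [mul_assoc, eQ, hggQ]
    have eQ' : (g : M3) * Q * Q = (g : M3) * Q := by rw [mul_assoc, hQQ]
    simp only [add_mul, mul_add, Matrix.smul_mul, Matrix.mul_smul, hPP, hPQ, hQP, hQQ, eQ, eQ', eP, eP', egg,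
      smul_zero, add_zero, zero_add, smul_smul, smul_sub] at hsq
    have hco : (α * α - β * β) • Q + (2 * α * β + β * β * t - 1) • ((g : M3) * Q) = 0 := by
      rw [← sub_eq_zero] at hsq
      rw [← hsq]
      conv_rhs => arg 2; rw [hgm]
      module
    obtain ⟨hc1, hc2⟩ := hQne hco
    obtain ⟨σ, hσ, hασ⟩ : ∃ σ : Ring4 T, (σ = 1 ∨ σ = -1) ∧ α = φ σ * β := by
      rcases mul_self_eq_mul_self_iff.1 (sub_eq_zero.1 hc1) with h | h
      · exact ⟨1, Or.inl rfl, by rw [map_one, one_mul, h]⟩
      · exact ⟨-1, Or.inr rfl, by rw [map_neg, map_one, neg_mul, one_mul, h]⟩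
    have hkD : (φ k * D) • (h₀ : M3) =
        f (k • Pq Wh Wi k) + β • f ((Gq Wh Wi + (σ * k) • 1) * Qq Wh Wi k) := by
      rw [hhm, hsmul, hP, map_mul, map_add, hsmul, map_one, hgG, hQk, map_mul, hασ]
      simp only [add_mul, Matrix.smul_mul, Matrix.mul_smul, one_mul, smul_add, smul_smul]
      module
    set u := φ k / c * (φ k * D) with hu
    have hsc : u • ((w⁻¹ * h₀ : G3) : M3) =
        f (Wi * (k • Pq Wh Wi k)) + β • f (Wi * ((Gq Wh Wi + (σ * k) • 1) * Qq Wh Wi k)) := by
      rw [map_mul f Wi, map_mul f Wi, ← Matrix.mul_smul, ← mul_add, ← hkD, hWi, Units.val_mul,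
        Matrix.smul_mul, Matrix.mul_smul, smul_smul, hu]
    have kill : ∀ Sg, ((w⁻¹ * h₀ : G3) : M3) * f Sq = f Sg * ((w⁻¹ * h₀ : G3) : M3) →
        ¬ ∃ i j, Unitish Wh Wi k (hEntry Wh Wi k σ Sg i j) := by
      rintro Sg h ⟨i, j, he⟩
      refine hne he ?_
      have h0 : f (hConst Wh Wi k Sg) i j + β * f (hLin Wh Wi k σ Sg) i j = 0 := by
        have h' : (u • ((w⁻¹ * h₀ : G3) : M3)) * f Sq - f Sg * (u • ((w⁻¹ * h₀ : G3) : M3)) = 0 := by
          rw [Matrix.smul_mul, Matrix.mul_smul, h, sub_self]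
        rw [hsc, add_mul, mul_add, Matrix.smul_mul, Matrix.mul_smul] at h'
        have h'' := congrArg (fun A : M3 => A i j) h'
        simp only [map_mul, hsmul, Matrix.smul_mul, Matrix.mul_smul, Matrix.sub_apply, Matrix.add_apply,
          Matrix.smul_apply, smul_eq_mul, Matrix.zero_apply] at h''
        simp only [hConst, hLin, map_sub, map_mul, hsmul, Matrix.smul_mul, Matrix.mul_smul, Matrix.sub_apply,
          Matrix.smul_apply, smul_eq_mul]
        linear_combination h''
      have hA : φ (hConst Wh Wi k Sg i j) = -(β * φ (hLin Wh Wi k σ Sg i j)) := eq_neg_of_add_eq_zero_left h0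
      have hσ2 : φ σ * φ σ = 1 := by rcases hσ with rfl | rfl <;> simp
      rw [hασ] at hc2
      show φ (hEntry Wh Wi k σ Sg i j) = 0
      rw [hEntry]
      simp only [map_sub, map_mul, map_add, map_ofNat, hA, htk]
      linear_combination (φ k * φ (hLin Wh Wi k σ Sg i j) ^ 2) * hc2
    rcases hT' _ (mul_mem (inv_mem hw) (pow_mem hgM _)) hcom with h | h <;> rcases hσ with rfl | rfl
    · exact kill _ h hc.hS
    · exact kill _ h hc.hT
    · exact kill _ h hc.hS'
    · exact kill _ h hc.hT'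

end Core

variable [Fintype F] {p : ℕ}

set_option maxHeartbeats 1000000 in
/-- An element of exceptional type is absurd when the centraliser of the involution respects the Fourier element. -/
theorem no_exceptional (hp : p.Prime) (hF : Fintype.card F = p) (hp3 : p % 3 = 1) (hp9 : p % 9 ≠ 1)
    {M : Subgroup G3} (hW : ∀ v, C.W v ∈ M) (hflip : C.flip ∈ M)
    (hT : ∀ x ∈ M, x * C.flip = C.flip * x → x * C.S = C.S * x ∨ x * C.S = C.flip * C.S * x)
    {b b' : C.Hgrp} (hb : (b : G3) ∈ M) (hb' : (b' : G3) ∈ M)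
    (hphi : (C.phi b : Matrix (Fin 2) (Fin 2) F) = 1 + C.phi ⟨_, C.S_mem⟩)
    (hphi' : (C.phi b' : Matrix (Fin 2) (Fin 2) F) = 1 + C.phi ⟨_, C.S_mem⟩)
    (hm : (C.mu b : F) * C.mu b = 2 ∨ (C.mu b : F) * C.mu b = -2) (hm' : (C.mu b' : F) = -C.mu b) :
    False := by
  have := Fact.mk hp
  have := charP_of_card hp hF
  have h2 : (2 : F) ≠ 0 := by have := @smooth_ne_zero F _ p _ hp hp3 hp9 1 0 0 0; norm_num at this; exact this
  have hr := C.root_ne_zero
  -- the matrix of an exceptional element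
  have mat : ∀ {T : ℤ} (x : C.Hgrp), (C.phi x : Matrix (Fin 2) (Fin 2) F) = 1 + C.phi ⟨_, C.S_mem⟩ →
      ∀ hx : (C.mu x : F) * C.mu x = (T : F),
      (evalHom C hx).mapMatrix Bq = (2 * (1 + 2 * C.ω)) • ((x : G3) : M3) := by
    intro T x hx1 hx
    obtain ⟨a1, a2, a3, a4⟩ := C.sym_facts x.2
    have hs : C.s * (1 + 2 * C.ω) = 1 := by rw [Cube.s, inv_mul_cancel₀ hr]
    rw [Cube.coe_phi, C.phi_S, ← Matrix.ext_iff] at hx1
    have e00 := hx1 0 0
    have e01 := hx1 0 1
    have e10 := hx1 1 0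
    have e11 := hx1 1 1
    have em : (C.mu x : F) = ((x : G3) : M3) 1 1 - ((x : G3) : M3) 1 2 := C.coe_mu x
    simp [Cube.phiMat] at e00 e01 e10 e11
    ext i j
    obtain rfl | rfl | rfl : i = 0 ∨ i = 1 ∨ i = 2 := by revert i; decide
    all_goals obtain rfl | rfl | rfl : j = 0 ∨ j = 1 ∨ j = 2 := by revert j; decide
    all_goals simp [Bq, mk3, evalHom_el, one_ne_two_T3, two_ne_one_T3, zero_ne_two_T3, two_ne_zero_T3,
      a1, a2, a3, a4]
    · linear_combination -2 * (1 + 2 * C.ω) * e00 - 2 * hs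
    · linear_combination -(1 + 2 * C.ω) * e01 - 2 * hs
    · linear_combination -(1 + 2 * C.ω) * e01 - 2 * hs
    · linear_combination -2 * (1 + 2 * C.ω) * e10 - 2 * hs
    · linear_combination -(1 + 2 * C.ω) * e11 + (1 + 2 * C.ω) * em + hs
    · linear_combination -(1 + 2 * C.ω) * e11 - (1 + 2 * C.ω) * em + hs
    · linear_combination -2 * (1 + 2 * C.ω) * e10 - 2 * hs
    · linear_combination -(1 + 2 * C.ω) * e11 - (1 + 2 * C.ω) * em + hs
    · linear_combination -(1 + 2 * C.ω) * e11 + (1 + 2 * C.ω) * em + hs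
  have hX : ∀ {T : ℤ} {m : F} (hm : m * m = (T : F)), (evalHom C hm).mapMatrix Xq = (C.W (1, 0) : M3) := by
    intro T m hm
    ext i j
    obtain rfl | rfl | rfl : i = 0 ∨ i = 1 ∨ i = 2 := by revert i; decide
    all_goals obtain rfl | rfl | rfl : j = 0 ∨ j = 1 ∨ j = 2 := by revert j; decide
    all_goals simp [Xq, mk3, Cube.coe_W, Cube.wMat_apply, Cube.ch_zero, one_ne_two_T3, two_ne_one_T3,
      zero_ne_two_T3, two_ne_zero_T3, show (1 : T3) + 1 = 2 from rfl, show (2 : T3) + 1 = 0 from rfl]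
  have hZ : ∀ {T : ℤ} {m : F} (hm : m * m = (T : F)), (evalHom C hm).mapMatrix Zq = (C.W (0, 1) : M3) := by
    intro T m hm
    ext i j
    obtain rfl | rfl | rfl : i = 0 ∨ i = 1 ∨ i = 2 := by revert i; decide
    all_goals obtain rfl | rfl | rfl : j = 0 ∨ j = 1 ∨ j = 2 := by revert j; decide
    all_goals simp [Zq, mk3, evalHom_el, Cube.coe_W, Cube.wMat_apply, Cube.ch_zero, Cube.ch_one, Cube.ch_two,
      one_ne_two_T3, two_ne_one_T3, zero_ne_two_T3, two_ne_zero_T3]
    linear_combination -C.sq_add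
  have hc0 : (2 * (1 + 2 * C.ω)) ≠ 0 := mul_ne_zero h2 hr
  have hsm := @smooth_ne_zero F _ p _ hp hp3 hp9
  have hm0 : (C.mu b : F) ≠ 0 := Units.ne_zero _
  rcases hm with hm | hm
  · have h₁ : (C.mu b : F) * C.mu b = ((2 : ℤ) : F) := by rw [hm]; norm_num
    have h₂ : (C.mu b' : F) * C.mu b' = ((2 : ℤ) : F) := by rw [hm', neg_mul_neg, h₁]
    have fin : ∀ (x : C.Hgrp), (x : G3) ∈ M → (C.phi x : Matrix (Fin 2) (Fin 2) F) = 1 + C.phi ⟨_, C.S_mem⟩ →
        ∀ hx : (C.mu x : F) * C.mu x = ((2 : ℤ) : F), -84 - 36 * (C.mu x : F) ≠ 0 →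
          108 - 36 * (C.mu x : F) ≠ 0 → False := by
      intro x hxM hx1 hx hp1 hp2
      have ap : aPlus (Xq * Bq * Zq) (Zq * Zq * Biq₂ * (Xq * Xq)) (el (-48) 0 0 0) = el (-84) 0 (-36) 0 := by
        decide +kernel
      have am : aMinus (Xq * Bq * Zq) (Zq * Zq * Biq₂ * (Xq * Xq)) (el (-48) 0 0 0) = el 108 0 (-36) 0 := by
        decide +kernel
      refine false_of_cert C _ _ _ hp hp3 hp9 hx cert_two ?_ ?_ hflip hT
        (mul_mem (mul_mem (hW (1, 0)) hxM) (hW (0, 1))) hc0 ?_
      · rw [ap, evalHom_el]; push_cast; exact fun h => hp1 (by linear_combination h)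
      · rw [am, evalHom_el]; push_cast; exact fun h => hp2 (by linear_combination h)
      · rw [map_mul, map_mul, hX, hZ, mat x hx1, Matrix.mul_smul, Matrix.smul_mul, Units.val_mul, Units.val_mul]
    by_cases hgood : -84 - 36 * (C.mu b : F) ≠ 0 ∧ 108 - 36 * (C.mu b : F) ≠ 0
    · exact fin b hb hphi h₁ hgood.1 hgood.2
    · rw [not_and_or, not_not, not_not] at hgood
      have n24 : (24 : F) ≠ 0 := by have := hsm 3 1 0 0; norm_num at this; exact this
      have n72 : (72 : F) ≠ 0 := by have := hsm 3 2 0 0; norm_num at this; exact this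
      refine fin b' hb' hphi' h₂ (fun h => ?_) (fun h => ?_) <;> rw [hm'] at h <;> rcases hgood with hg | hg
      · exact mul_ne_zero n72 hm0 (by linear_combination h - hg)
      · exact n24 (by linear_combination h + hg)
      · exact n24 (by linear_combination h + hg)
      · exact mul_ne_zero n72 hm0 (by linear_combination h - hg)
  · have h₁ : (C.mu b : F) * C.mu b = ((-2 : ℤ) : F) := by rw [hm]; norm_num
    have h₂ : (C.mu b' : F) * C.mu b' = ((-2 : ℤ) : F) := by rw [hm', neg_mul_neg, h₁]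
    have fin : ∀ (x : C.Hgrp), (x : G3) ∈ M → (C.phi x : Matrix (Fin 2) (Fin 2) F) = 1 + C.phi ⟨_, C.S_mem⟩ →
        ∀ hx : (C.mu x : F) * C.mu x = ((-2 : ℤ) : F), 84 + 12 * (1 + 2 * C.ω) * (C.mu x : F) ≠ 0 → False := by
      intro x hxM hx1 hx hp1
      have ap : aPlus (Xq * Bq * Xq) (Xq * Xq * BiqNeg * (Xq * Xq)) (el 48 0 0 0) = el 84 0 12 24 := by
        decide +kernel
      have am : aMinus (Xq * Bq * Xq) (Xq * Xq * BiqNeg * (Xq * Xq)) (el 48 0 0 0) * el (-9) 0 (-1) (-2) =
          el 900 0 0 0 := by decide +kernel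
      refine false_of_cert C _ _ _ hp hp3 hp9 hx cert_neg_two ?_ ?_ hflip hT
        (mul_mem (mul_mem (hW (1, 0)) hxM) (hW (1, 0))) hc0 ?_
      · rw [ap, evalHom_el]; push_cast; exact fun h => hp1 (by linear_combination h)
      · intro h
        have h' := congrArg (evalHom C hx) am
        rw [map_mul, h, zero_mul, evalHom_el] at h'
        refine hsm 2 2 2 0 ?_
        push_cast at h' ⊢
        linear_combination -h'
      · rw [map_mul, map_mul, hX, mat x hx1, Matrix.mul_smul, Matrix.smul_mul, Units.val_mul, Units.val_mul]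
    by_cases hgood : 84 + 12 * (1 + 2 * C.ω) * (C.mu b : F) ≠ 0
    · exact fin b hb hphi h₁ hgood
    · rw [not_not] at hgood
      refine fin b' hb' hphi' h₂ fun h => ?_
      rw [hm'] at h
      have n24 : (24 : F) ≠ 0 := by have := hsm 3 1 0 0; norm_num at this; exact this
      exact mul_ne_zero (mul_ne_zero n24 hr) hm0 (by linear_combination hgood - h)

end Cfsg.Agent.H55.SLThree.HeisExceptional
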