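import Cfsg.Agent.H1.HeisThree.Small

/-!
An involution next to a self-centralising four group in a small group.
-/

set_option autoImplicit false

namespace Cfsg.Agent.H55.SLThree.HeisKlein

open Cfsg.Agent.H1.HeisThree

set_option maxHeartbeats 1000000 in
set_option synthInstance.maxSize 4000 in
set_option synthInstance.maxHeartbeats 400000 in
/-- An involution is conjugate into the four group, or the four group is permuted, or one of its
elements is a central square. -/
theorem klein_cases {G : Type*} [Group G] [Finite G] (hG : Cfsg.Agent.H1.HeisThree.Small G) {t u x : G}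
    (ht : t * t = 1) (ht1 : t ≠ 1) (hu : u * u = 1) (hu1 : u ≠ 1) (hne : u ≠ t) (hcomm : t * u = u * t)
    (hC : ∀ g : G, g * t = t * g → g * u = u * g → g = 1 ∨ g = t ∨ g = u ∨ g = t * u) (hx : x * x = 1) :
    (∃ g q, (q = 1 ∨ q = t ∨ q = u ∨ q = t * u) ∧ x = g * q * g⁻¹) ∨
      (∃ r, r * t = u * r ∧ r * u = t * u * r) ∨
      ∃ s b, (s = t ∨ s = u ∨ s = t * u) ∧ b * b = s ∧ ∀ g : G, g * s = s * g := by
  have key : ∀ {T : Type} [Group T],
      (∀ t : T, t * t = 1 → t ≠ 1 → ∀ u : T, u * u = 1 → u ≠ 1 → u ≠ t → t * u = u * t →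
        ∀ x : T, x * x = 1 → x = 1 ∨ (∃ g, x * g = g * t ∨ x * g = g * u ∨ x * g = g * (t * u)) ∨
          ∃ r, r * t = u * r ∧ r * u = t * u * r) → G ≃* T →
      (∃ g q, (q = 1 ∨ q = t ∨ q = u ∨ q = t * u) ∧ x = g * q * g⁻¹) ∨
        ∃ r, r * t = u * r ∧ r * u = t * u * r := by
    intro T _ hT e
    rcases hT (e t) (by rw [← map_mul, ht, map_one]) (fun h => ht1 (e.injective (by rw [h, map_one])))
        (e u) (by rw [← map_mul, hu, map_one]) (fun h => hu1 (e.injective (by rw [h, map_one])))
        (fun h => hne (e.injective h)) (by rw [← map_mul, hcomm, map_mul]) (e x)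
        (by rw [← map_mul, hx, map_one]) with h | ⟨g, h⟩ | ⟨r, hr, hr'⟩
    · exact Or.inl ⟨1, 1, Or.inl rfl, by rw [e.injective (h.trans (map_one e).symm)]; simp⟩
    · have conv : ∀ q, e x * g = g * e q → x = e.symm g * q * (e.symm g)⁻¹ := fun q h => by
        rw [eq_mul_inv_iff_mul_eq]
        exact e.injective (by rw [map_mul, map_mul, e.apply_symm_apply, h])
      rcases h with h | h | h
      · exact Or.inl ⟨_, t, Or.inr (Or.inl rfl), conv t h⟩
      · exact Or.inl ⟨_, u, Or.inr (Or.inr (Or.inl rfl)), conv u h⟩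
      · exact Or.inl ⟨_, t * u, Or.inr (Or.inr (Or.inr rfl)), conv _ (by rw [h, map_mul])⟩
    · exact Or.inr ⟨e.symm r, e.injective (by rw [map_mul, map_mul, e.apply_symm_apply, hr]),
        e.injective (by rw [map_mul, map_mul, map_mul, e.apply_symm_apply, hr'])⟩
  have lift : (∃ g q, (q = 1 ∨ q = t ∨ q = u ∨ q = t * u) ∧ x = g * q * g⁻¹) ∨
        (∃ r, r * t = u * r ∧ r * u = t * u * r) →
      (∃ g q, (q = 1 ∨ q = t ∨ q = u ∨ q = t * u) ∧ x = g * q * g⁻¹) ∨
        (∃ r, r * t = u * r ∧ r * u = t * u * r) ∨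
        ∃ s b, (s = t ∨ s = u ∨ s = t * u) ∧ b * b = s ∧ ∀ g : G, g * s = s * g := by
    rintro (h | h)
    · exact Or.inl h
    · exact Or.inr (Or.inl h)
  rcases hG with ⟨A, hA, hout⟩ | ⟨⟨e⟩⟩ | ⟨⟨e⟩⟩ | ⟨⟨e⟩⟩
  · have inv2 : ∀ {a : G}, a * a = 1 → a⁻¹ = a := fun h => inv_eq_of_mul_eq_one_right h
    have conjx : ∀ q, (q = 1 ∨ q = t ∨ q = u ∨ q = t * u) → x = q →
        ∃ g q, (q = 1 ∨ q = t ∨ q = u ∨ q = t * u) ∧ x = g * q * g⁻¹ := fun q hq h =>
      ⟨1, q, hq, by simp [h]⟩
    by_cases hall : ∀ g : G, g * g = 1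
    · have hc : ∀ a b : G, a * b = b * a := fun a b => by
        calc a * b = (a * b)⁻¹ := (inv2 (hall _)).symm
          _ = b * a := by rw [_root_.mul_inv_rev, inv2 (hall a), inv2 (hall b)]
      exact Or.inl (conjx x (hC x (hc _ _) (hc _ _)) rfl)
    push Not at hall
    obtain ⟨g₀, hg₀⟩ := hall
    have hg₀A : g₀ ∈ A := by_contra fun h => hg₀ (hout g₀ h).1
    have hprod : ∀ a b : G, a ∉ A → b ∉ A → a * b ∈ A := fun a b ha hb => by_contra fun h => by
      have h1 := (hout _ h).2 g₀ hg₀A
      rw [_root_.mul_inv_rev, show a * b * g₀ * (b⁻¹ * a⁻¹) = a * (b * g₀ * b⁻¹) * a⁻¹ by group,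
        (hout b hb).2 g₀ hg₀A, (hout a ha).2 g₀⁻¹ (inv_mem hg₀A), inv_inv] at h1
      exact hg₀ (eq_inv_iff_mul_eq_one.1 h1)
    have hnotall : ¬ (t ∈ A ∧ u ∈ A) := by
      rintro ⟨htA, huA⟩
      rcases hC g₀ (hA _ hg₀A _ htA) (hA _ hg₀A _ huA) with rfl | rfl | rfl | rfl
      · exact hg₀ (one_mul 1)
      · exact hg₀ ht
      · exact hg₀ hu
      · exact hg₀ (by rw [show t * u * (t * u) = t * u * (u * t) by rw [← hcomm],
          show t * u * (u * t) = t * (u * u) * t by group, hu, mul_one, ht])
    obtain ⟨s, r, hsA, hrA, hs, hr, hsr, hcent⟩ : ∃ s r, s ∈ A ∧ r ∉ A ∧ (s = t ∨ s = u ∨ s = t * u) ∧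
        (r = t ∨ r = u) ∧ (s * r = t ∨ s * r = u ∨ s * r = t * u) ∧
        ∀ g, g * s = s * g → g * r = r * g → g * t = t * g ∧ g * u = u * g := by
      by_cases htA : t ∈ A
      · exact ⟨t, u, htA, fun h => hnotall ⟨htA, h⟩, Or.inl rfl, Or.inr rfl, Or.inr (Or.inr rfl),
          fun g a b => ⟨a, b⟩⟩
      by_cases huA : u ∈ A
      · exact ⟨u, t, huA, htA, Or.inr (Or.inl rfl), Or.inl rfl, Or.inr (Or.inr hcomm.symm),
          fun g a b => ⟨b, a⟩⟩
      refine ⟨t * u, t, hprod t u htA huA, htA, Or.inr (Or.inr rfl), Or.inl rfl,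
        Or.inr (Or.inl (by rw [hcomm, mul_assoc, ht, mul_one])), fun g a b => ⟨b, ?_⟩⟩
      have hu' : u = t * (t * u) := by rw [← mul_assoc, ht, one_mul]
      rw [hu', ← mul_assoc g, b, mul_assoc t g, a]
      simp only [mul_assoc]
    have hss : s * s = 1 := by
      rcases hs with rfl | rfl | rfl
      · exact ht
      · exact hu
      · rw [show t * u * (t * u) = t * u * (u * t) by rw [← hcomm],
          show t * u * (u * t) = t * (u * u) * t by group, hu, mul_one, ht]
    have hrr : r * r = 1 := (hout r hrA).1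
    have hs1 : s ≠ 1 := by
      rcases hs with rfl | rfl | rfl
      · exact ht1
      · exact hu1
      · exact fun h => hne ((eq_inv_of_mul_eq_one_right h).trans (inv2 ht))
    have hsrA : s * r ∉ A := fun h => hrA (by
      have := mul_mem (inv_mem hsA) h
      rwa [inv_mul_cancel_left] at this)
    have invol : ∀ z ∈ A, z * z = 1 → z = 1 ∨ z = s := by
      intro z hzA hz
      have hzr : z * r = r * z := by
        have h := (hout r hrA).2 z hzA
        rw [inv2 hz, mul_inv_eq_iff_eq_mul] at h
        exact h.symm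
      obtain ⟨h1, h2⟩ := hcent z (hA _ hzA _ hsA) hzr
      have four : ∀ z : G, z = t ∨ z = u ∨ z = t * u → z = s ∨ z = r ∨ z = s * r := by
        have e1 : s = t ∨ s = u ∨ s = t * u := hs
        intro z hz
        rcases hs with rfl | rfl | rfl <;> rcases hr with rfl | rfl
        all_goals first
          | exact absurd hsA hrA
          | (rcases hz with rfl | rfl | rfl
             all_goals first
               | exact Or.inl rfl
               | exact Or.inr (Or.inl rfl)
               | exact Or.inr (Or.inr rfl)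
               | exact Or.inr (Or.inr hcomm.symm)
               | exact Or.inr (Or.inr hcomm)
               | (right; right; rw [hcomm, mul_assoc, ht, mul_one])
               | (right; right; rw [mul_assoc, hu, mul_one]))
      rcases hC z h1 h2 with h | h
      · exact Or.inl h
      · rcases four z h with h | h | h
        · exact Or.inr h
        · exact absurd (h ▸ hzA) hrA
        · exact absurd (h ▸ hzA) hsrA
    by_cases hxA : x ∈ A
    · rcases invol x hxA hx with h | h
      · exact Or.inl (conjx 1 (Or.inl rfl) h)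
      · exact Or.inl (conjx s (Or.inr hs) h)
    by_cases hb : ∃ b ∈ A, b * b = s
    · obtain ⟨b, -, hb⟩ := hb
      refine Or.inr (Or.inr ⟨s, b, hs, hb, fun g => ?_⟩)
      by_cases hg : g ∈ A
      · exact hA g hg s hsA
      · have h := (hout g hg).2 s hsA
        rw [inv2 hss, mul_inv_eq_iff_eq_mul] at h
        exact h
    push Not at hb
    let sq : A →* A := MonoidHom.mk' (fun a => a * a) fun a b => Subtype.ext (by
      show (a : G) * b * (a * b) = a * a * (b * b)
      rw [show (a : G) * b * (a * b) = a * (b * a) * b by group, hA _ b.2 _ a.2]; group)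
    obtain ⟨a, ha⟩ : ∃ a : A, x * r = (a : G) * a ∨ x * r = (a : G) * a * s := by
      classical
      have hker : Nat.card sq.ker ≤ 2 := by
        have hinj : Function.Injective (fun z : sq.ker => decide ((z : A) = 1)) := by
          intro z z' h
          have hz := invol _ (z : A).2 (congrArg Subtype.val z.2)
          have hz' := invol _ (z' : A).2 (congrArg Subtype.val z'.2)
          simp only [decide_eq_decide] at h
          apply Subtype.ext
          by_cases h1 : (z : A) = 1
          · rw [h1, h.1 h1]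
          · have h1' : ((z' : A) : G) ≠ 1 := fun e => h1 (h.2 (Subtype.ext e))
            exact Subtype.ext ((hz.resolve_left fun e => h1 (Subtype.ext e)).trans (hz'.resolve_left h1').symm)
        exact (Nat.card_le_card_of_injective _ hinj).trans (by simp)
      let c' : sq.range × Bool → A := fun q => if q.2 then (q.1 : A) * ⟨s, hsA⟩ else q.1
      have hinj : Function.Injective c' := by
        rintro ⟨⟨_, a, rfl⟩, ba⟩ ⟨⟨_, b, rfl⟩, bb⟩ h
        have h' := congrArg Subtype.val h
        have bad : ∀ a b : A, (a : G) * a * s ≠ (b : G) * b := fun a b h => hb ((a : G)⁻¹ * b)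
          (mul_mem (inv_mem a.2) b.2) (by
            rw [show (a : G)⁻¹ * b * ((a : G)⁻¹ * b) = (a : G)⁻¹ * (b * (a : G)⁻¹) * b by group,
              hA _ b.2 _ (inv_mem a.2), show (a : G)⁻¹ * ((a : G)⁻¹ * b) * b = (a : G)⁻¹ * (a : G)⁻¹ * (b * b) by group,
              ← h]
            group)
        cases ba <;> cases bb <;> simp [c', sq] at h' ⊢
        · exact Subtype.ext h'
        · exact bad b a h'.symm
        · exact bad a b h'
        · exact Subtype.ext h'
      have hle : Nat.card A ≤ Nat.card (sq.range × Bool) := by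
        rw [Nat.card_prod, Nat.card_eq_fintype_card (α := Bool), Fintype.card_bool,
          ← Subgroup.card_mul_index sq.ker, Subgroup.index_ker, mul_comm]
        exact Nat.mul_le_mul_left _ hker
      obtain ⟨⟨⟨_, a, rfl⟩, ba⟩, he⟩ :=
        (hinj.bijective_of_nat_card_le hle).2 ⟨x * r, hprod x r hxA hrA⟩
      have he' := congrArg Subtype.val he
      refine ⟨a, ?_⟩
      cases ba <;> simp [c', sq] at he'
      · exact Or.inl he'.symm
      · exact Or.inr he'.symm
    have conjr : ∀ q : G, q ∉ A → ∀ a : A, (a : G) * a * q = a * q * (a : G)⁻¹ := fun q hq a => by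
      have h := (hout q hq).2 (a : G)⁻¹ (inv_mem a.2)
      rw [inv_inv] at h
      calc (a : G) * a * q = a * (q * (a : G)⁻¹ * q⁻¹) * q := by rw [h]
        _ = a * q * (a : G)⁻¹ := by group
    have hxr : x = x * r * r := by rw [mul_assoc, hrr, mul_one]
    rcases ha with ha | ha
    · refine Or.inl ⟨a, r, ?_, by rw [hxr, ha, conjr r hrA a]⟩
      rcases hr with h | h
      · exact Or.inr (Or.inl h)
      · exact Or.inr (Or.inr (Or.inl h))
    · exact Or.inl ⟨a, s * r, Or.inr hsr, by rw [hxr, ha, mul_assoc _ s r, conjr _ hsrA a]⟩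
  · exact lift (key (T := alternatingGroup (Fin 4)) (by decide +kernel) e)
  · exact lift (key (T := Equiv.Perm (Fin 4)) (by decide +kernel) e)
  · exact lift (key (T := alternatingGroup (Fin 5)) (by decide +kernel) e)

end Cfsg.Agent.H55.SLThree.HeisKlein
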