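import Cfsg.Agent.H1.HeisThree.Cases

/-!
Seeds for the special linear group in a subgroup containing the quaternion part of the Heisenberg normaliser.
-/

set_option autoImplicit false

namespace Cfsg.Agent.H55.SLThree.HeisSeeds

open Matrix Cfsg.Agent.H1.HeisThree

variable {F : Type*} [Field F] {p : ℕ} (C : Cube F)

local notation "T3" => ZMod 3
local notation "M3" => Matrix (ZMod 3) (ZMod 3) F
local notation "G3" => GL (ZMod 3) F
local notation "M2" => Matrix (Fin 2) (Fin 2) F
local notation "G2" => GL (Fin 2) F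

/-- The subgroup contains the scalars and generators of the quaternion part of the normaliser. -/
structure ContainsQ (M : Subgroup G3) : Prop where
  sc : ∀ c : Fˣ, sc c ∈ M
  W : ∀ v, C.W v ∈ M
  S : C.S ∈ M
  S' : C.y * C.S * C.y⁻¹ ∈ M

variable {C}

theorem ContainsQ.flip {M : Subgroup G3} (hM : ContainsQ C M) : C.flip ∈ M := by
  rw [← C.S_mul_S]; exact mul_mem hM.S hM.S

set_option synthInstance.maxSize 2000 in
set_option synthInstance.maxHeartbeats 200000 in
/-- An element commuting with an involution inverting an element of order three squares to one. -/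
theorem comm_inverter_sq {G : Type*} [Group G] (hG : Cfsg.Agent.H1.HeisThree.Small G) {w b d : G} (hw : w ≠ 1)
    (hw3 : w * w * w = 1) (hb : b * b = 1) (hbw : b * w * b⁻¹ = w⁻¹) (hdb : d * b = b * d) : d * d = 1 := by
  have hww : w * w ≠ 1 := fun h => hw (by simpa [h] using hw3)
  have key : ∀ {T : Type} [Group T],
      (∀ b : T, b * b = 1 → ∀ w : T, w * w * w = 1 → b * w * b = w * w →
        w = 1 ∨ ∀ d : T, d * b = b * d → d * d = 1) → G ≃* T → d * d = 1 := by
    intro T _ hT e
    have hw2 : w⁻¹ = w * w := inv_eq_of_mul_eq_one_right (by rw [← mul_assoc, hw3])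
    rw [inv_eq_of_mul_eq_one_right hb, hw2] at hbw
    rcases hT (e b) (by rw [← map_mul, hb, map_one]) (e w) (by rw [← map_mul, ← map_mul, hw3, map_one])
        (by simp only [← map_mul, hbw]) with h | h
    · exact absurd (e.injective (by rw [h, map_one])) hw
    · exact e.injective (by rw [map_mul, map_one]; exact h (e d) (by rw [← map_mul, ← map_mul, hdb]))
  rcases hG with ⟨A, hA, hout⟩ | ⟨⟨e⟩⟩ | ⟨⟨e⟩⟩ | ⟨⟨e⟩⟩
  · by_contra hd
    have hwA : w ∈ A := by_contra fun h => hww (hout w h).1
    have hdA : d ∈ A := by_contra fun h => hd (hout d h).1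
    have hbA : b ∉ A := fun h => hww (by
      have := hA b h w hwA
      rw [this, mul_inv_cancel_right] at hbw
      nth_rw 1 [hbw]
      exact inv_mul_cancel w)
    have h := (hout b hbA).2 d hdA
    rw [← hdb, mul_inv_cancel_right] at h
    exact hd (by nth_rw 1 [h]; exact inv_mul_cancel d)
  · exact key (T := alternatingGroup (Fin 4)) (by decide +kernel) e
  · exact key (T := Equiv.Perm (Fin 4)) (by decide +kernel) e
  · exact key (T := alternatingGroup (Fin 5)) (by decide +kernel) e

variable [Fintype F]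

set_option maxHeartbeats 1000000 in
/-- An element diagonal on the symmetric vectors with distinct squared eigenvalues off the first coordinate
gives the special linear group. -/
theorem sl_mem_of_block (hp : p.Prime) (hF : Fintype.card F = p) (hp2 : p ≠ 2) {M : Subgroup G3}
    (hM : ContainsQ C M) {d : C.Hgrp} (hd : (d : G3) ∈ M) (e01 : (C.phi d : M2) 0 1 = 0)
    (e10 : (C.phi d : M2) 1 0 = 0)
    (h : (C.phi d : M2) 1 1 * (C.phi d : M2) 1 1 ≠ (C.mu d : F) * C.mu d) :
    ∀ g : G3, (g : M3).det = 1 → g ∈ M := by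
  classical
  have := Fact.mk hp
  have := charP_of_card hp hF
  have h2 : (2 : F) ≠ 0 := two_ne_zero_of hp2 hp
  let e0 : G3 := Cfsg.Agent.Linear.diagGL fun i => if i = 0 then -1 else 1
  have hSt : ∀ g : G3, g ∈ Subgroup.centralizer ({e0} : Set G3) ↔
      (g : M3) 0 1 = 0 ∧ (g : M3) 0 2 = 0 ∧ (g : M3) 1 0 = 0 ∧ (g : M3) 2 0 = 0 := by
    intro g
    rw [Subgroup.mem_centralizer_singleton_iff, Units.ext_iff, Units.val_mul, Units.val_mul,
      Cfsg.Agent.Linear.diagGL_coe, ← Matrix.ext_iff]
    simp only [Matrix.diagonal_mul, Matrix.mul_diagonal]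
    constructor
    · intro h
      have a := h 0 1
      have b := h 0 2
      have c := h 1 0
      have d := h 2 0
      simp [two_ne_zero_T3] at a b c d
      have key : ∀ x : F, 2 * x = 0 → x = 0 := fun x h => (mul_eq_zero.1 h).resolve_left h2
      refine ⟨?_, ?_, ?_, ?_⟩ <;> apply key <;>
        first | linear_combination a | linear_combination -a | linear_combination b
              | linear_combination -b | linear_combination c | linear_combination -c
              | linear_combination d | linear_combination -d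
    · rintro ⟨a, b, c, d⟩ i j
      obtain rfl | rfl | rfl : i = 0 ∨ i = 1 ∨ i = 2 := by revert i; decide
      all_goals obtain rfl | rfl | rfl : j = 0 ∨ j = 1 ∨ j = 2 := by revert j; decide
      all_goals simp [a, b, c, d, two_ne_zero_T3, mul_comm]
  let St : Subgroup G3 := Subgroup.centralizer ({e0} : Set G3) ⊓ M
  let bMat : G3 → M2 := fun g => !![(g : M3) 1 1, (g : M3) 1 2; (g : M3) 2 1, (g : M3) 2 2]
  let bhom : St →* M2 :=
    { toFun := fun g => bMat g
      map_one' := by
        ext i j
        fin_cases i <;> fin_cases j <;> simp [bMat, one_ne_two_T3, two_ne_one_T3]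
      map_mul' := fun g h => by
        obtain ⟨-, -, c, d⟩ := (hSt _).1 (Subgroup.mem_inf.1 g.2).1
        ext i j
        fin_cases i <;> fin_cases j <;>
          simp [bMat, Matrix.mul_apply, sum3, Fin.sum_univ_two, c, d] }
  let β : St →* G2 := bhom.toHomUnits
  have hβ : ∀ g : St, (β g : M2) = bMat g := fun g => rfl
  obtain ⟨a1, a2, a3, a4⟩ := C.sym_facts d.2
  rw [C.coe_phi, C.coe_mu] at h
  rw [C.coe_phi] at e01 e10
  simp [Cube.phiMat, Cube.muVal] at e01 e10 h
  have f01 := e01.resolve_left h2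
  have hZst : C.W (0, 1) ∈ St := ⟨(hSt _).2 (by simp [Cube.coe_W, Cube.wMat_apply, zero_ne_two_T3,
    two_ne_zero_T3]), hM.W _⟩
  have hfst : C.flip ∈ St := ⟨(hSt _).2 (by simp [Cube.coe_flip, neg_one_T3, neg_two_T3, zero_ne_two_T3,
    two_ne_zero_T3]), hM.flip⟩
  have hdst : (d : G3) ∈ St := ⟨(hSt _).2 ⟨f01, a1.trans f01, e10, a2.trans e10⟩, hd⟩
  obtain ⟨ψ, hψ⟩ := exists_proj (F := F) (p := p) hF hp2
  let f := ψ.comp β
  let Z : St := ⟨_, hZst⟩
  let fl : St := ⟨_, hfst⟩
  let D : St := ⟨_, hdst⟩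
  have hZne : ¬ ∃ c : F, (β Z : M2) = c • 1 := by
    rintro ⟨e, he⟩
    rw [hβ, ← Matrix.ext_iff] at he
    have e0 := he 0 0
    have e1 := he 1 1
    simp [bMat, Z, Cube.coe_W, Cube.wMat_apply, Cube.ch_one, Cube.ch_two] at e0 e1
    exact C.ne_one (mul_left_cancel₀ C.ne_zero (by linear_combination e1 - e0))
  by_cases hdvd : p ∣ Nat.card f.range
  · obtain ⟨g, hgp, hg1⟩ := exists_order_p_of_dvd f hp hdvd
    obtain ⟨t, ht, x, ⟨x', rfl⟩, hx⟩ := exists_low_of_dvd (G := β.range) (D := β Z) (S := β fl)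
      (a := C.ω) (b := C.ω ^ 2) hp hF ⟨Z, rfl⟩ ⟨fl, rfl⟩
      (by
        rw [hβ]
        ext i j
        fin_cases i <;> fin_cases j <;>
          simp [bMat, Z, Cube.coe_W, Cube.wMat_apply, Cube.ch_one, Cube.ch_two, one_ne_two_T3, two_ne_one_T3])
      (fun h => C.ne_one (mul_left_cancel₀ C.ne_zero (by linear_combination -h)))
      (by simp [hβ, bMat, fl, Cube.coe_flip, neg_two_T3])
      (by simp [hβ, bMat, fl, Cube.coe_flip, neg_one_T3])
      (g := β g) ⟨g, rfl⟩ (by rw [← map_pow]; exact (hψ _).1 hgp) (fun h => hg1 ((hψ _).2 h))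
    set a := ((x' : G3) : M3) 0 0 with ha
    obtain ⟨b1, b2, b3, b4⟩ := (hSt _).1 (Subgroup.mem_inf.1 x'.2).1
    rw [hβ, ← Matrix.ext_iff] at hx
    have c00 := hx 0 0
    have c01 := hx 0 1
    have c10 := hx 1 0
    have c11 := hx 1 1
    simp [bMat] at c00 c01 c10 c11
    have hxd : ((x' : G3) : M3) = Matrix.diagonal (fun i => if i = 0 then a else 1) + Matrix.single 2 1 t := by
      ext i j
      obtain rfl | rfl | rfl : i = 0 ∨ i = 1 ∨ i = 2 := by revert i; decide
      all_goals obtain rfl | rfl | rfl : j = 0 ∨ j = 1 ∨ j = 2 := by revert j; decide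
      all_goals simp [b1, b2, b3, b4, c00, c01, c10, c11, one_ne_two_T3, two_ne_one_T3, zero_ne_two_T3,
        two_ne_zero_T3, ← ha]
    have hpow : ∀ n : ℕ, (((x' : G3) ^ n : G3) : M3) =
        Matrix.diagonal (fun i => if i = 0 then a ^ n else 1) + Matrix.single 2 1 (n * t) := by
      intro n
      induction n with
      | zero => simp [Matrix.diagonal_one]
      | succ n ih =>
        have dm : ∀ (d : T3 → F) (c : F), Matrix.diagonal d * Matrix.single 2 1 c = Matrix.single 2 1 (d 2 * c) ∧
            Matrix.single 2 1 c * Matrix.diagonal d = Matrix.single 2 1 (c * d 1) := by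
          intro d c
          constructor <;> ext i j <;> simp [Matrix.diagonal_mul, Matrix.mul_diagonal, Matrix.single_apply] <;>
            split_ifs with h <;> first | (obtain ⟨rfl, rfl⟩ := h; simp) | simp
        rw [pow_succ, Units.val_mul, ih, hxd, Matrix.add_mul, Matrix.mul_add, Matrix.mul_add,
          Matrix.diagonal_mul_diagonal, (dm _ _).1, (dm _ _).2,
          Matrix.single_mul_single_of_ne _ _ _ _ (show (1 : T3) ≠ 2 by decide), add_zero, add_assoc,
          ← Matrix.single_add]
        congr 1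
        · congr 1; funext i; split_ifs <;> simp [pow_succ]
        · congr 1; simp [two_ne_zero_T3]; ring
    have ha0 : a ≠ 0 := by
      intro h
      apply (Matrix.GeneralLinearGroup.det (x' : G3)).ne_zero
      rw [Matrix.GeneralLinearGroup.val_det_apply]
      refine Matrix.det_eq_zero_of_row_eq_zero 0 fun j => ?_
      obtain rfl | rfl | rfl : j = 0 ∨ j = 1 ∨ j = 2 := by revert j; decide
      exacts [h, b1, b2]
    have hu : (((x' : G3) ^ (p - 1) : G3) : M3) = Matrix.transvection 2 1 (-t) := by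
      have h1 : a ^ (p - 1) = 1 := by
        have := FiniteField.pow_card_sub_one_eq_one a ha0
        rwa [hF] at this
      rw [hpow, h1, Nat.cast_sub hp.one_le, CharP.cast_eq_zero, Nat.cast_one, Matrix.transvection]
      simp [ite_self, Matrix.diagonal_one]
    have hxM : (x' : G3) ∈ M := (Subgroup.mem_inf.1 x'.2).2
    refine sl_mem_of_seeds C hp hF (hM.W (1, 0)) (neg_ne_zero.2 ht) (neg_ne_zero.2 ht) (i := 1) (i' := 1)
      (pow_mem hxM (p - 1)) (mul_mem (mul_mem hM.flip (pow_mem hxM (p - 1))) (inv_mem hM.flip))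
      (by rw [hu]; rfl) ?_
    rw [Units.val_mul, Units.val_mul, hu, C.flip_inv]
    ext i j
    rw [Matrix.mul_apply, Finset.sum_eq_single (-j), Matrix.mul_apply, Finset.sum_eq_single (-i)]
    · obtain rfl | rfl | rfl : i = 0 ∨ i = 1 ∨ i = 2 := by revert i; decide
      all_goals obtain rfl | rfl | rfl : j = 0 ∨ j = 1 ∨ j = 2 := by revert j; decide
      all_goals simp [Cube.coe_flip, Matrix.transvection, neg_one_T3,
        neg_two_T3, one_ne_two_T3, two_ne_one_T3, zero_ne_two_T3, two_ne_zero_T3, show (1 : T3) + 1 = 2 from rfl]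
    · intro k _ hk
      have : i ≠ -k := fun e => hk (by rw [e, neg_neg])
      simp [Cube.coe_flip, this]
    · simp
    · intro k _ hk
      simp [Cube.coe_flip, hk]
    · simp
  · exfalso
    let _ : Fintype (GaloisField p 2) := Fintype.ofFinite _
    have hsmall := small_of_not_dvd p f.range hdvd
    have hflip2 : fl * fl = 1 := Subtype.ext C.flip_mul_flip
    have hinv : fl * Z * fl⁻¹ = Z⁻¹ := by
      refine Subtype.ext ?_
      show C.flip * C.W (0, 1) * C.flip⁻¹ = (C.W (0, 1))⁻¹
      rw [C.flip_W, mul_inv_cancel_right]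
      refine (inv_eq_of_mul_eq_one_right ?_).symm
      rw [C.W_mul, add_neg_cancel, C.W_zero, mul_one, ← sc_one]
      exact congrArg sc (Units.ext (by simp [Cube.ch_zero]))
    have hcomm : D * fl = fl * D := Subtype.ext (Subgroup.mem_centralizer_singleton_iff.1 d.2)
    have hdd := comm_inverter_sq hsmall (w := f.rangeRestrict Z) (b := f.rangeRestrict fl)
      (d := f.rangeRestrict D) (fun h => hZne ((hψ _).1 (congrArg Subtype.val h)))
      (by rw [← map_mul, ← map_mul, show Z * Z * Z = 1 from Subtype.ext (by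
        show C.W (0, 1) * C.W (0, 1) * C.W (0, 1) = 1
        rw [← C.W_cube (0, 1), pow_succ, pow_two]), map_one])
      (by rw [← map_mul, hflip2, map_one]) (by rw [← map_inv, ← map_mul, ← map_mul, hinv, map_inv])
      (by rw [← map_mul, hcomm, map_mul])
    rw [← map_mul] at hdd
    obtain ⟨e, he⟩ := (hψ _).1 (congrArg Subtype.val hdd)
    rw [map_mul, Units.val_mul, hβ, ← Matrix.ext_iff] at he
    have h00 := he 0 0
    have h01 := he 0 1
    simp [bMat, D, Matrix.mul_apply, Fin.sum_univ_two, a3, a4] at h00 h01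
    apply h
    linear_combination 2 * h01

/-- An element of order `p` modulo scalars on the symmetric vectors gives the special linear group. -/
theorem sl_mem_of_p_element (hp : p.Prime) (hF : Fintype.card F = p) (hp2 : p ≠ 2) {M : Subgroup G3}
    (hM : ContainsQ C M) {P P' : C.Hgrp} (hP : (P : G3) ∈ M) (hP' : (P' : G3) ∈ M)
    (hanti : (C.phi P : M2) * C.phi P' = -((C.phi P' : M2) * C.phi P)) {g : C.Hgrp} (hg : (g : G3) ∈ M)
    (hgp : ∃ c : F, ((C.phi g ^ p : G2) : M2) = c • 1) (hgs : ¬ ∃ c : F, (C.phi g : M2) = c • 1) :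
    ∀ g : G3, (g : M3).det = 1 → g ∈ M := by
  classical
  have := Fact.mk hp
  have := charP_of_card hp hF
  have h2 : (2 : F) ≠ 0 := two_ne_zero_of hp2 hp
  obtain ⟨c, hc⟩ := hgp
  have hc0 : c ≠ 0 := fun h => (C.phi g ^ p).ne_zero (by rw [hc, h, zero_smul])
  set U := C.phi (g ^ (p - 1)) with hUdef
  have hU' : U = C.phi g ^ (p - 1) := map_pow _ _ _
  have hUp : (U : M2) ^ p = 1 := by
    have h1 : c ^ (p - 1) = 1 := by
      have := FiniteField.pow_card_sub_one_eq_one c hc0
      rwa [hF] at this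
    rw [← Units.val_pow_eq_pow_val, hU', ← pow_mul, mul_comm, pow_mul, Units.val_pow_eq_pow_val, hc,
      smul_pow, one_pow, h1, one_smul]
  set N := (U : M2) - 1 with hNdef
  have hUN : (U : M2) = 1 + N := by rw [hNdef, add_sub_cancel]
  have hNnil : IsNilpotent N := ⟨p, by
    rw [hNdef, sub_pow_char_of_commute _ (Commute.one_right _), hUp, one_pow, sub_self]⟩
  have hdet0 : N.det = 0 := by
    obtain ⟨n, hn⟩ := hNnil
    have := congrArg Matrix.det hn
    rw [Matrix.det_pow, Matrix.det_zero] at this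
    exact eq_zero_of_pow_eq_zero this
  have hN2 : N * N = 0 := by
    have htr : N 0 0 + N 1 1 = 0 := by
      have := (Matrix.isNilpotent_trace_of_isNilpotent hNnil).eq_zero
      rwa [Matrix.trace_fin_two] at this
    have hdet := hdet0
    rw [Matrix.det_fin_two] at hdet
    ext i k
    fin_cases i <;> fin_cases k <;> simp [Matrix.mul_apply, Fin.sum_univ_two] <;>
      first | linear_combination -hdet + N 0 0 * htr | linear_combination N 0 1 * htr
            | linear_combination N 1 0 * htr | linear_combination -hdet + N 1 1 * htr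
  have hN0 : N ≠ 0 := by
    intro h
    apply hgs
    refine ⟨c, ?_⟩
    have hU1 : (U : M2) = 1 := by rw [hUN, h, add_zero]
    calc (C.phi g : M2) = (C.phi g : M2) * (U : M2) := by rw [hU1, mul_one]
      _ = c • 1 := by
        rw [hU', ← Units.val_mul, ← pow_succ', Nat.sub_add_cancel hp.one_le, hc]
  obtain ⟨v, hvne, hv⟩ : ∃ v : Fin 2 → F, v ≠ 0 ∧ N *ᵥ v = 0 := by
    rw [Matrix.exists_mulVec_eq_zero_iff]
    exact hdet0
  -- the kernel is a line
  have hline : ∀ u : Fin 2 → F, N *ᵥ u = 0 → ∃ d : F, u = d • v := by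
    intro u hu
    have e : ∀ i, N i 0 * v 0 + N i 1 * v 1 = 0 ∧ N i 0 * u 0 + N i 1 * u 1 = 0 := fun i => by
      constructor
      · simpa [Matrix.mulVec, dotProduct, Fin.sum_univ_two] using congrFun hv i
      · simpa [Matrix.mulVec, dotProduct, Fin.sum_univ_two] using congrFun hu i
    have hdet : v 0 * u 1 - v 1 * u 0 = 0 := by
      by_contra hne
      apply hN0
      ext i k
      obtain ⟨e1, e2⟩ := e i
      have a0 : N i 0 * (v 0 * u 1 - v 1 * u 0) = 0 := by linear_combination u 1 * e1 - v 1 * e2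
      have a1 : N i 1 * (v 0 * u 1 - v 1 * u 0) = 0 := by linear_combination v 0 * e2 - u 0 * e1
      fin_cases k
      · exact (mul_eq_zero.1 a0).resolve_right hne
      · exact (mul_eq_zero.1 a1).resolve_right hne
    by_cases hv0 : v 0 = 0
    · have hv1 : v 1 ≠ 0 := fun h => hvne (by ext i; fin_cases i <;> assumption)
      refine ⟨u 1 / v 1, ?_⟩
      ext i; fin_cases i
      · have : v 1 * u 0 = 0 := by linear_combination u 1 * hv0 - hdet
        simp [hv0, (mul_eq_zero.1 this).resolve_left hv1]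
      · simp [hv1]
    · refine ⟨u 0 / v 0, ?_⟩
      ext i; fin_cases i
      · simp [hv0]
      · simp only [Pi.smul_apply, smul_eq_mul, Fin.mk_one]
        field_simp
        linear_combination hdet
  set G : Subgroup G2 := (M.comap C.Hgrp.subtype).map C.phi
  obtain ⟨t, ht, x, hxG, hx⟩ : ∃ t : F, t ≠ 0 ∧ ∃ x ∈ G, (x : M2) = !![1, 0; t, 1] := by
    by_contra hcon
    have key : ∀ q : C.Hgrp, (q : G3) ∈ M → ∃ d : F, (C.phi q : M2) *ᵥ v = d • v := by
      intro q hq
      refine hline _ (by_contra fun hh => hcon (exists_low hp hF (G := G) (U := U) (g := C.phi q⁻¹)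
        ⟨g ^ (p - 1), pow_mem hg (p - 1), rfl⟩ ⟨q⁻¹, inv_mem hq, rfl⟩ hUN hN2 hv ?_))
      rw [map_inv, inv_inv]
      exact hh
    obtain ⟨d, hd⟩ := key P hP
    obtain ⟨e, he⟩ := key P' hP'
    have h1 := congrArg (fun A : M2 => A *ᵥ v) hanti
    simp only [Matrix.neg_mulVec, ← Matrix.mulVec_mulVec, hd, he, Matrix.mulVec_smul, smul_smul] at h1
    obtain ⟨i, hi⟩ := Function.ne_iff.1 hvne
    have h' := congrFun h1 i
    simp only [Pi.smul_apply, Pi.neg_apply, smul_eq_mul] at h'
    have hde : d * e = 0 := (mul_eq_zero.1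
      (show (2 * (d * e)) * v i = 0 by linear_combination h')).resolve_right hi |>
        fun h => (mul_eq_zero.1 h).resolve_left h2
    have kill : ∀ q : C.Hgrp, (C.phi q : M2) *ᵥ v = (0 : F) • v → False := fun q hq => hvne (by
      have h := congrArg (fun w => ((C.phi q)⁻¹ : G2).val *ᵥ w) hq
      rwa [zero_smul, Matrix.mulVec_zero, Matrix.mulVec_mulVec, Units.inv_mul, Matrix.one_mulVec] at h)
    rcases mul_eq_zero.1 hde with h0 | h0
    · exact kill P (h0 ▸ hd)
    · exact kill P' (h0 ▸ he)
  obtain ⟨x', hx'M, rfl⟩ := hxG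
  have hxp : (C.phi (x' ^ (p - 1)) : M2) = !![1, 0; -t, 1] := by
    rw [map_pow]
    have hU : (C.phi x' : M2) = 1 + Matrix.single 1 0 t := by
      rw [hx]; ext i j; fin_cases i <;> fin_cases j <;> simp
    rw [coe_pow_one_add hU (Matrix.single_mul_single_of_ne _ _ _ _ (show (0 : Fin 2) ≠ 1 by decide) _)
      (p - 1), Nat.cast_sub hp.one_le, CharP.cast_eq_zero, Nat.cast_one]
    ext i j; fin_cases i <;> fin_cases j <;> simp
  have hmu : (C.mu (x' ^ (p - 1)) : F) = 1 := by
    rw [map_pow, Units.val_pow_eq_pow_val]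
    have := FiniteField.pow_card_sub_one_eq_one (C.mu x' : F) (Units.ne_zero _)
    rwa [hF] at this
  exact sl_mem_of_root C hp hF hM.W (u := x' ^ (p - 1)) (pow_mem hx'M _) (neg_ne_zero.2 ht) hxp hmu h2

end Cfsg.Agent.H55.SLThree.HeisSeeds
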