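import Cfsg.Agent.H55.SLThree.Abelian
import Cfsg.Agent.H1.HeisThree.Model

/-!
A subgroup of `GL₃` containing the Heisenberg group and its Fourier element, with a solvable normal
subgroup outside the scalars, normalises the Heisenberg group.
-/

set_option autoImplicit false
set_option linter.style.haveILetI false

namespace Cfsg.Agent.H55.SLThree.HeisSolvable

open Matrix Cfsg.Agent.H1.HeisThree

open scoped commutatorElement

variable {F : Type*} [Field F] [Fintype F] (C : Cube F)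

local notation "T3" => ZMod 3
local notation "V" => ZMod 3 × ZMod 3
local notation "M3" => Matrix (ZMod 3) (ZMod 3) F
local notation "G3" => GL (ZMod 3) F

instance scGrp_normal' : (scGrp F T3).Normal :=
  ⟨fun x hx g => by
    obtain ⟨c, rfl⟩ := hx
    show g * sc c * g⁻¹ ∈ _
    rw [← sc_comm, mul_inv_cancel_right]
    exact ⟨c, rfl⟩⟩

omit [Fintype F] in
theorem mem_scGrp_of_eq {g : G3} {c : F} (h : (g : M3) = c • (1 : M3)) : g ∈ scGrp F T3 := by
  have hc : c ≠ 0 := fun h0 => g.ne_zero (by rw [h, h0, zero_smul])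
  exact ⟨Units.mk0 c hc, Units.ext (h ▸ coe_sc (Units.mk0 c hc))⟩

omit [Fintype F] in
theorem scalar_of_commute_W {m : M3} (h₁ : m * (C.W (1, 0) : M3) = (C.W (1, 0) : M3) * m)
    (h₂ : m * (C.W (0, 1) : M3) = (C.W (0, 1) : M3) * m) : ∃ c : F, m = c • (1 : M3) := by
  have hrel : (C.W (1, 0) : M3) * (C.W (0, 1) : M3) = C.ω ^ 2 • ((C.W (0, 1) : M3) * (C.W (1, 0) : M3)) := by
    rw [Cube.coe_W, Cube.coe_W, C.wMat_mul, C.wMat_mul, smul_smul, add_comm ((0, 1) : V) (1, 0)]
    congr 1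
    simp only [one_mul, zero_mul, C.ch_zero, C.ch_one]
    linear_combination -C.cube
  exact scalar_of_commute (C.W (1, 0)) (C.W (0, 1)) (z := C.ω ^ 2)
    (by linear_combination C.sq_add + C.ω * C.cube) C.three_ne_zero hrel h₁ h₂

omit [Fintype F] in
theorem eq_top_of_invariant (U : Submodule F (T3 → F)) (hne : U ≠ ⊥)
    (hU : ∀ v, ∀ u ∈ U, (C.W v : M3) *ᵥ u ∈ U) : U = ⊤ := by
  have hW : ∀ (v : V) (u : T3 → F) (i : T3),
      ((C.W v : M3) *ᵥ u) i = C.ch (v.2 * (i - v.1)) * u (i - v.1) := by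
    intro v u i
    rw [Cube.coe_W, Matrix.mulVec, dotProduct, Finset.sum_eq_single (i - v.1)]
    · simp [Cube.wMat_apply]
    · intro j _ hj
      simp [Cube.wMat_apply, show i ≠ j + v.1 from fun e => hj (by rw [e, add_sub_cancel_right])]
    · simp
  obtain ⟨u, hu, hu0⟩ := U.exists_mem_ne_zero_of_ne_bot hne
  obtain ⟨i, hi⟩ := Function.ne_iff.1 hu0
  have hsum : (∑ k : T3, C.ch (-(k * i)) • ((C.W (0, k) : M3) *ᵥ u)) = (3 * u i) • Pi.single i (1 : F) := by
    funext j
    rw [Finset.sum_apply]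
    rw [Finset.sum_congr rfl fun k _ => show (C.ch (-(k * i)) • ((C.W (0, k) : M3) *ᵥ u)) j
        = C.ch (k * (j - i)) * u j by
      rw [Pi.smul_apply, hW, smul_eq_mul, sub_zero, ← mul_assoc, ← C.ch_add]
      congr 2
      ring]
    rw [← Finset.sum_mul, C.sum_ch_mul]
    by_cases h : j = i
    · subst h; simp
    · simp [sub_eq_zero, h]
  have hei : Pi.single i (1 : F) ∈ U := by
    have h3 : 3 * u i ≠ 0 := mul_ne_zero C.three_ne_zero hi
    have h := U.smul_mem (3 * u i)⁻¹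
      (U.sum_mem (t := Finset.univ) fun (k : T3) _ => U.smul_mem (C.ch (-(k * i))) (hU (0, k) u hu))
    rwa [hsum, inv_smul_smul₀ h3] at h
  have hall : ∀ j : T3, Pi.single j (1 : F) ∈ U := fun j => by
    convert hU (j - i, 0) _ hei using 1
    funext l
    rw [hW]
    by_cases h : l = j
    · subst h; simp [C.ch_zero]
    · rw [Pi.single_eq_of_ne h, Pi.single_eq_of_ne (fun e => h (by linear_combination e)), mul_zero]
  refine eq_top_iff.2 fun v _ => ?_
  rw [← Finset.univ_sum_single v]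
  exact U.sum_mem fun j _ => by
    rw [show Pi.single j (v j) = v j • Pi.single j (1 : F) by rw [← Pi.single_smul]; simp]
    exact U.smul_mem _ (hall j)

/-- An abelian subgroup normalised by the Heisenberg group and its Fourier element is scalar. -/
theorem le_scalar_of_commutative {M L : Subgroup G3} (hW : ∀ v, C.W v ∈ M) (hS : C.S ∈ M)
    (hLn : ∀ g ∈ M, ∀ l ∈ L, g * l * g⁻¹ ∈ L) (hab : ∀ a ∈ L, ∀ b ∈ L, a * b = b * a) :
    L ≤ scGrp F T3 := by
  classical
  let S : Set M3 := (fun g : G3 => (g : M3)) '' L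
  let A : Subalgebra F M3 := Algebra.adjoin F S
  have hA1 : A ≤ Subalgebra.centralizer F S := Algebra.adjoin_le (by
    rintro _ ⟨a, ha, rfl⟩
    rw [SetLike.mem_coe, Subalgebra.mem_centralizer_iff]
    rintro _ ⟨b, hb, rfl⟩
    simpa using congrArg (fun g : G3 => (g : M3)) (hab b hb a ha))
  have hA2 : A ≤ Subalgebra.centralizer F (A : Set M3) := Algebra.adjoin_le (by
    intro s hs
    rw [SetLike.mem_coe, Subalgebra.mem_centralizer_iff]
    intro m hm
    exact ((Subalgebra.mem_centralizer_iff F).1 (hA1 hm) s hs).symm)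
  have hcomm : ∀ a ∈ A, ∀ b ∈ A, Commute a b := fun a ha b hb =>
    (Subalgebra.mem_centralizer_iff F).1 (hA2 hb) a ha
  have hstab : ∀ g ∈ M, ∀ m ∈ A, (g : M3) * m * ((g⁻¹ : G3) : M3) ∈ A := by
    intro g hg m hm
    induction hm using Algebra.adjoin_induction with
    | mem s hs =>
      obtain ⟨a, ha, rfl⟩ := hs
      exact Algebra.subset_adjoin ⟨g * a * g⁻¹, hLn g hg a ha, by simp⟩
    | algebraMap r =>
      rw [(Algebra.commutes r _).symm, mul_assoc, Units.mul_inv, mul_one]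
      exact A.algebraMap_mem r
    | add a b _ _ h h' => rw [mul_add, add_mul]; exact A.add_mem h h'
    | mul a b _ _ h h' =>
      have e : (g : M3) * (a * b) * ((g⁻¹ : G3) : M3) =
          ((g : M3) * a * ((g⁻¹ : G3) : M3)) * ((g : M3) * b * ((g⁻¹ : G3) : M3)) := by
        simp only [mul_assoc]
        rw [← mul_assoc ((g⁻¹ : G3) : M3), Units.inv_mul, one_mul]
      rw [e]
      exact A.mul_mem h h'
  have hnil : ∀ n ∈ A, IsNilpotent n → n = 0 := by
    let U : Submodule F (T3 → F) :=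
      ⨅ m ∈ {m : M3 | m ∈ A ∧ IsNilpotent m}, LinearMap.ker (toLin' m)
    have hmem : ∀ v, v ∈ U ↔ ∀ m, m ∈ A → IsNilpotent m → m *ᵥ v = 0 := fun v => by simp [U]
    have hUW : ∀ w, ∀ u ∈ U, (C.W w : M3) *ᵥ u ∈ U := by
      intro w u hu
      rw [hmem]
      intro m hmA hm
      have hm' : IsNilpotent ((((C.W w))⁻¹ : G3).val * m * (C.W w : M3)) := by
        obtain ⟨k, hk⟩ := hm
        exact ⟨k, by rw [Units.conj_pow', hk, mul_zero, zero_mul]⟩
      have hst := hstab _ (M.inv_mem (hW w)) m hmA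
      rw [inv_inv] at hst
      have h1 := congrArg ((C.W w : M3) *ᵥ ·) ((hmem u).1 hu _ hst hm')
      simp only [mulVec_zero, mulVec_mulVec] at h1
      rw [← mul_assoc, ← mul_assoc, Units.mul_inv, one_mul, ← mulVec_mulVec] at h1
      exact h1
    have hUne : U ≠ ⊥ := by
      let T := Finset.univ.filter fun m : M3 => m ∈ A ∧ IsNilpotent m
      let J : (T3 → F) → Finset (T3 → F) := fun v => T.image fun m => m *ᵥ v
      obtain ⟨v, hv, hmin⟩ := Finset.exists_min_image (Finset.univ.filter fun v : T3 → F => v ≠ 0)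
        (fun v => (J v).card) ⟨Pi.single 0 1, by simp⟩
      rw [Finset.mem_filter] at hv
      rw [Ne, Submodule.eq_bot_iff]
      push Not
      refine ⟨v, (hmem v).2 fun m hmA hm => ?_, hv.2⟩
      by_contra hne
      refine absurd (hmin _ (Finset.mem_filter.2 ⟨Finset.mem_univ _, hne⟩))
        (not_le.2 (Finset.card_lt_card ?_))
      rw [Finset.ssubset_iff_of_subset]
      · refine ⟨m *ᵥ v, Finset.mem_image.2 ⟨m, Finset.mem_filter.2 ⟨Finset.mem_univ _, hmA, hm⟩, rfl⟩,
          fun hin => ?_⟩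
        obtain ⟨j, hj, hje⟩ := Finset.mem_image.1 hin
        obtain ⟨u, hu⟩ := (Finset.mem_filter.1 hj).2.2.isUnit_one_sub
        apply hne
        have h0 : (1 - j) *ᵥ (m *ᵥ v) = 0 := by rw [sub_mulVec, one_mulVec, hje, sub_self]
        have h1 := congrArg (((u⁻¹ : _ˣ) : M3) *ᵥ ·) h0
        simp only [mulVec_zero] at h1
        rwa [mulVec_mulVec, ← hu, Units.inv_mul, one_mulVec] at h1
      · intro w hw
        obtain ⟨j, hj, rfl⟩ := Finset.mem_image.1 hw
        obtain ⟨hjA, hj⟩ := (Finset.mem_filter.1 hj).2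
        exact Finset.mem_image.2 ⟨j * m, Finset.mem_filter.2 ⟨Finset.mem_univ _, A.mul_mem hjA hmA,
          (hcomm j hjA m hmA).isNilpotent_mul_right hj⟩, (mulVec_mulVec _ _ _).symm⟩
    have htop := eq_top_of_invariant C U hUne hUW
    intro n hnA hn
    exact H95.mat_ext fun v => by rw [(hmem v).1 (htop ▸ Submodule.mem_top) n hnA hn, zero_mulVec]
  have hdim : Module.finrank F A ≤ 3 := finrank_le_three A hcomm hnil
  letI : CommRing A :=
    { (inferInstance : Ring A) with mul_comm := fun a b => Subtype.ext (hcomm _ a.2 _ b.2) }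
  haveI hred : IsReduced A := ⟨fun n hn => Subtype.ext (hnil _ n.2 (hn.map A.val))⟩
  let τ0 : A →ₐ[F] A :=
    { toFun := fun m => ⟨_, hstab C.S hS m m.2⟩
      map_one' := Subtype.ext (by simp)
      map_mul' := fun a b => Subtype.ext (by simp [mul_assoc])
      map_zero' := Subtype.ext (by simp)
      map_add' := fun a b => Subtype.ext (by simp [mul_add, add_mul])
      commutes' := fun r => Subtype.ext (by
        simp only [Subalgebra.coe_algebraMap]
        rw [(Algebra.commutes r _).symm, mul_assoc, Units.mul_inv, mul_one]) }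
  have hτpow : ∀ (k : ℕ) (m : A), ((τ0^[k] m : A) : M3) =
      ((C.S ^ k : G3) : M3) * m * (((C.S ^ k)⁻¹ : G3) : M3) := by
    intro k
    induction k with
    | zero => intro m; simp
    | succ k ih =>
      intro m
      rw [Function.iterate_succ_apply', show ((τ0 (τ0^[k] m) : A) : M3) =
        (C.S : M3) * (τ0^[k] m : A) * ((C.S⁻¹ : G3) : M3) from rfl, ih, pow_succ', _root_.mul_inv_rev,
        Units.val_mul, Units.val_mul]
      simp only [mul_assoc]
  have hS4 : C.S ^ 4 = 1 := by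
    rw [show (4 : ℕ) = 2 * 2 from rfl, pow_mul, pow_two, pow_two, C.S_mul_S, C.flip_mul_flip]
  have h4 : ∀ m : A, τ0^[4] m = m := fun m => Subtype.ext (by rw [hτpow, hS4]; simp)
  let H := A →ₐ[F] AlgebraicClosure F
  haveI : Fintype H := Fintype.ofFinite _
  let π : H → H := fun χ => χ.comp τ0
  have hπ : Function.Bijective π := by
    refine Finite.injective_iff_bijective.1 fun χ χ' h => AlgHom.ext fun m => ?_
    have h' := DFunLike.congr_fun h (τ0^[3] m)
    change χ (τ0 (τ0^[3] m)) = χ' (τ0 (τ0^[3] m)) at h'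
    rwa [← Function.iterate_succ_apply' τ0 3 m, h4] at h'
  set p := Equiv.ofBijective π hπ
  have hiter : ∀ (k : ℕ) (χ : H) (m : A), (p ^ k) χ m = χ (τ0^[k] m) := by
    intro k
    induction k with
    | zero => intro χ m; rfl
    | succ k ih =>
      intro χ m
      rw [pow_succ, Equiv.Perm.mul_apply, ih, Function.iterate_succ_apply']
      rfl
  have hp2 : p ^ 2 = 1 := by
    refine orderOf_dvd_iff_pow_eq_one.1 ?_
    have h6 : orderOf p ∣ 6 := orderOf_dvd_card.trans (by
      rw [Fintype.card_perm]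
      have : Fintype.card H ≤ 3 := by
        rw [← Nat.card_eq_fintype_card]
        exact (card_algHom_le_finrank F A (AlgebraicClosure F)).trans hdim
      exact Nat.factorial_dvd_factorial this)
    have h4' : orderOf p ∣ 4 := orderOf_dvd_of_pow_eq_one (Equiv.ext fun χ => AlgHom.ext fun m => by
      rw [hiter, h4]; rfl)
    exact (Nat.dvd_gcd h6 h4').trans (by decide)
  have h2 : ∀ m : A, τ0^[2] m = m := by
    intro m
    rw [← sub_eq_zero]
    refine IsReduced.eq_zero _ (nilpotent_iff_mem_prime.2 fun P hP => ?_)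
    rw [← Ideal.Quotient.eq_zero_iff_mem, map_sub (Ideal.Quotient.mk P), sub_eq_zero]
    haveI : IsDomain (A ⧸ P) := Ideal.Quotient.isDomain P
    letI : Field (A ⧸ P) := (Finite.isField_of_domain (A ⧸ P)).toField
    haveI : Module.Finite F (A ⧸ P) := Module.Finite.of_finite
    let j : (A ⧸ P) →ₐ[F] AlgebraicClosure F := IsAlgClosed.lift
    apply j.injective
    have h1 := hiter 2 (j.comp (Ideal.Quotient.mkₐ F P)) m
    rw [hp2, Equiv.Perm.one_apply] at h1
    exact h1.symm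
  have hflip : ∀ m ∈ A, Commute (C.flip : M3) m := by
    intro m hm
    have h := congrArg (fun y : A => (y : M3)) (h2 ⟨m, hm⟩)
    simp only [hτpow, pow_two, C.S_mul_S] at h
    show (C.flip : M3) * m = m * (C.flip : M3)
    calc (C.flip : M3) * m = (C.flip : M3) * m * ((C.flip⁻¹ : G3) : M3) * (C.flip : M3) := by
          rw [mul_assoc, Units.inv_mul, mul_one]
      _ = m * (C.flip : M3) := by rw [h]
  have hWc : ∀ u m, m ∈ A → Commute (C.W u : M3) m := by
    intro u m hm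
    have h1 : Commute ((C.W (-u) : M3) * (C.flip : M3) * (((C.W (-u))⁻¹ : G3) : M3) * (C.flip : M3)) m := by
      refine Commute.mul_left ?_ (hflip m hm)
      have hst := hstab _ (M.inv_mem (hW (-u))) m hm
      rw [inv_inv] at hst
      have h0 := (hflip _ hst).eq
      show _ * m = m * _
      calc (C.W (-u) : M3) * (C.flip : M3) * (((C.W (-u))⁻¹ : G3) : M3) * m
          = (C.W (-u) : M3) * ((C.flip : M3) * ((((C.W (-u))⁻¹ : G3) : M3) * m * (C.W (-u) : M3))) *
              (((C.W (-u))⁻¹ : G3) : M3) := by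
            simp only [mul_assoc, Units.mul_inv, mul_one]
        _ = (C.W (-u) : M3) * (((((C.W (-u))⁻¹ : G3) : M3) * m * (C.W (-u) : M3)) * (C.flip : M3)) *
              (((C.W (-u))⁻¹ : G3) : M3) := by rw [h0]
        _ = m * ((C.W (-u) : M3) * (C.flip : M3) * (((C.W (-u))⁻¹ : G3) : M3)) := by
            simp only [← mul_assoc, Units.mul_inv, one_mul]
    obtain ⟨c, hc⟩ : ∃ c : Fˣ, C.W (-u) * C.flip * (C.W (-u))⁻¹ * C.flip = sc c * C.W u := by
      have e : C.W (-u) * C.flip * (C.W (-u))⁻¹ * C.flip = C.W (-u) * (C.W u)⁻¹ := by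
        rw [mul_assoc, mul_assoc, ← mul_assoc C.flip,
          eq_mul_inv_of_mul_eq (show C.flip * (C.W (-u))⁻¹ * C.W (-u) = C.flip by group)]
        have h := C.flip_W u
        calc C.W (-u) * (C.flip * (C.W (-u))⁻¹ * C.flip)
            = C.W (-u) * (C.flip * (C.W (-u))⁻¹ * C.flip) := rfl
          _ = C.W (-u) * (C.W u)⁻¹ := by
            congr 1
            rw [eq_inv_iff_mul_eq_one]
            rw [mul_assoc, h, ← mul_assoc, mul_assoc C.flip, inv_mul_cancel, mul_one, C.flip_mul_flip]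
      rw [e]
      obtain ⟨c, hc⟩ : ∃ c : Fˣ, C.W u * C.W u = sc c * C.W (-u) := ⟨_, by
        rw [C.W_mul, show u + u = -u from (by decide : ∀ v : V, v + v = -v) u]⟩
      exact ⟨c⁻¹, by rw [mul_inv_eq_iff_eq_mul, mul_assoc, hc, ← mul_assoc, sc_inv, inv_mul_cancel, one_mul]⟩
    have h2' := congrArg (fun g : G3 => (g : M3)) hc
    simp only [Units.val_mul, coe_sc, smul_mul_assoc, one_mul] at h2'
    rw [h2'] at h1
    exact (Commute.smul_left_iff₀ c.ne_zero).1 h1
  intro l hl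
  have hlA : (l : M3) ∈ A := Algebra.subset_adjoin ⟨l, hl, rfl⟩
  obtain ⟨c, hc⟩ := scalar_of_commute_W C (hWc (1, 0) _ hlA).eq.symm (hWc (0, 1) _ hlA).eq.symm
  exact mem_scGrp_of_eq hc

/-- The endomorphism of `(ℤ/3)²` with the given images of the basis. -/
def lin (c d v : V) : V := v.1 • c + v.2 • d

set_option synthInstance.maxSize 4000 in
set_option synthInstance.maxHeartbeats 400000 in
/-- Two commuting endomorphisms of order dividing three of `(ℤ/3)²` have a non-trivial product trivial. -/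
theorem commuting_pair : ∀ c d c' d' : V,
    lin c d (lin c d (lin c d (1, 0))) = (1, 0) → lin c d (lin c d (lin c d (0, 1))) = (0, 1) →
    lin c' d' (lin c' d' (lin c' d' (1, 0))) = (1, 0) → lin c' d' (lin c' d' (lin c' d' (0, 1))) = (0, 1) →
    lin c d (lin c' d' (1, 0)) = lin c' d' (lin c d (1, 0)) →
    lin c d (lin c' d' (0, 1)) = lin c' d' (lin c d (0, 1)) →
    ∃ i j : Fin 3, (i, j) ≠ (0, 0) ∧ (lin c d)^[(i : ℕ)] ((lin c' d')^[(j : ℕ)] (1, 0)) = (1, 0) ∧
      (lin c d)^[(i : ℕ)] ((lin c' d')^[(j : ℕ)] (0, 1)) = (0, 1) := by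
  decide +kernel

set_option maxHeartbeats 800000 in
/-- A solvable normal subgroup outside the scalars forces the Heisenberg normaliser. -/
theorem le_NZ_of_solvable {M : Subgroup G3} (hW : ∀ v, C.W v ∈ M) (hS : C.S ∈ M) (O : Subgroup M)
    [O.Normal] [Group.IsSolvable O] (hO : ¬ O.map M.subtype ≤ scGrp F T3) : M ≤ C.NZ := by
  classical
  let Z : Subgroup M := (scGrp F T3).subgroupOf M
  have hOZ : ¬ O ≤ Z := fun h => hO (by rintro _ ⟨x, hx, rfl⟩; exact h hx)
  obtain ⟨L, ⟨hLn, hLO, hLZ⟩, hmin⟩ := WellFounded.has_min (wellFounded_lt (α := Subgroup M))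
    {L | L.Normal ∧ L ≤ O ∧ ¬ L ≤ Z} ⟨O, inferInstance, le_rfl, hOZ⟩
  have hcomm : ⁅L, L⁆ ≤ Z := by
    by_contra hc
    haveI := hLn
    have hle : ⁅L, L⁆ ≤ L := Subgroup.commutator_le_self L
    refine hmin ⁅L, L⁆ ⟨inferInstance, hle.trans hLO, hc⟩ (lt_of_le_of_ne hle fun he => ?_)
    haveI : Group.IsSolvable L :=
      solvable_of_solvable_injective (Subgroup.inclusion_injective hLO)
    haveI : Nontrivial L := L.nontrivial_iff_ne_bot.2 fun h => hLZ (h ▸ bot_le)
    refine (Group.IsSolvable.commutator_lt_top_of_nontrivial L).ne ?_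
    apply Subgroup.map_injective L.subtype_injective
    rw [← MonoidHom.range_eq_map, Subgroup.range_subtype, commutator_def, Subgroup.map_commutator,
      ← MonoidHom.range_eq_map, Subgroup.range_subtype]
    exact he
  let L' : Subgroup G3 := L.map M.subtype
  have hL'n : ∀ g ∈ M, ∀ l ∈ L', g * l * g⁻¹ ∈ L' := by
    rintro g hg _ ⟨l, hl, rfl⟩
    exact ⟨_, hLn.conj_mem l hl ⟨g, hg⟩, rfl⟩
  have hL'Z : ¬ L' ≤ scGrp F T3 := fun h => hLZ fun x hx => h ⟨x, hx, rfl⟩
  have hz : ∀ a ∈ L', ∀ b ∈ L', ∃ c : Fˣ, a * b = sc c * (b * a) := by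
    rintro _ ⟨a, ha, rfl⟩ _ ⟨b, hb, rfl⟩
    obtain ⟨c, hc⟩ := hcomm (Subgroup.commutator_mem_commutator ha hb)
    refine ⟨c, ?_⟩
    rw [show sc c = ((⁅a, b⁆ : M) : G3) from hc]
    simp [commutatorElement_def, mul_assoc]
  have hab : ∃ a ∈ L', ∃ b ∈ L', a * b ≠ b * a := by
    by_contra h
    push Not at h
    exact hL'Z (le_scalar_of_commutative C hW hS hL'n h)
  obtain ⟨a, ha, b, hb, hne⟩ := hab
  obtain ⟨z, hzab⟩ := hz a ha b hb
  have hmat : ∀ {x y : G3} {c : Fˣ}, x * y = sc c * (y * x) → (x : M3) * y = (c : F) • ((y : M3) * x) := by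
    intro x y c h
    have := congrArg (fun g : G3 => (g : M3)) h
    simpa [coe_sc] using this
  have hcube : ∀ {x y : G3} {c : Fˣ}, x * y = sc c * (y * x) → (c : F) ^ 3 = 1 := by
    intro x y c h
    have h1 := congrArg Matrix.det (hmat h)
    rw [det_smul, det_mul, det_mul, ZMod.card, mul_comm (x : M3).det] at h1
    have h2 : (y : M3).det * (x : M3).det ≠ 0 :=
      mul_ne_zero (Matrix.isUnits_det_units y).ne_zero (Matrix.isUnits_det_units x).ne_zero
    exact mul_right_cancel₀ h2 (by rw [one_mul, ← h1])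
  have hz1 : (z : F) ≠ 1 := fun h => hne (by rw [hzab, Units.ext (h.trans Units.val_one.symm), sc_one, one_mul])
  have hprim : IsPrimitiveRoot (z : F) 3 := by
    haveI := Fact.mk Nat.prime_three
    exact IsPrimitiveRoot.iff_orderOf.2 (orderOf_eq_prime (hcube hzab) hz1)
  have hzq : 1 + (z : F) + (z : F) ^ 2 = 0 := by
    refine mul_left_cancel₀ (sub_ne_zero.2 hz1) ?_
    linear_combination hcube hzab
  let π : G3 →* G3 ⧸ scGrp F T3 := QuotientGroup.mk' _
  have hπsc : ∀ c : Fˣ, π (sc c) = 1 := fun c => (QuotientGroup.eq_one_iff _).2 ⟨c, rfl⟩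
  have hπ : ∀ {x y : G3}, π x = π y → ∃ c : Fˣ, x = sc c * y := by
    intro x y h
    have h1 : π (x * y⁻¹) = 1 := by rw [map_mul, map_inv, h, mul_inv_cancel]
    obtain ⟨c, hc⟩ := (QuotientGroup.eq_one_iff _).1 h1
    exact ⟨c, by rw [show sc c = x * y⁻¹ from hc, inv_mul_cancel_right]⟩
  have hπab : Commute (π a) (π b) := by
    show π a * π b = π b * π a
    rw [← map_mul, hzab, map_mul, hπsc, one_mul, map_mul]
  -- moving `a` and `b` past products
  have habi : ∀ i : ℕ, a * b ^ i = sc (z ^ i) * (b ^ i * a) := by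
    intro i
    induction i with
    | zero => simp [sc_one]
    | succ i ih =>
      rw [pow_succ, ← mul_assoc, ih, mul_assoc, mul_assoc, hzab, pow_succ z, sc_mul, mul_assoc,
        ← mul_assoc (b ^ i) (sc z), ← sc_comm, mul_assoc, mul_assoc]
  have hbai : ∀ i : ℕ, b * a ^ i = sc (z ^ i)⁻¹ * (a ^ i * b) := by
    intro i
    induction i with
    | zero => simp [sc_one]
    | succ i ih =>
      have h1 : b * a = sc z⁻¹ * (a * b) := by rw [hzab, sc_inv, inv_mul_cancel_left]
      rw [pow_succ, ← mul_assoc, ih, mul_assoc, mul_assoc, h1, pow_succ z, _root_.mul_inv_rev, mul_comm z⁻¹,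
        sc_mul, mul_assoc, ← mul_assoc (a ^ i) (sc z⁻¹), ← sc_comm, mul_assoc, mul_assoc]
  have hscal : ∀ {g : G3}, g * a = a * g → g * b = b * g → g ∈ scGrp F T3 := by
    intro g h₁ h₂
    obtain ⟨c, hc⟩ := scalar_of_commute a b hzq C.three_ne_zero (hmat hzab)
      (m := (g : M3)) (congrArg (fun t : G3 => (t : M3)) h₁) (congrArg (fun t : G3 => (t : M3)) h₂)
    exact mem_scGrp_of_eq hc
  have hz3 : z ^ 3 = 1 := Units.ext (by simpa using hcube hzab)
  have ha3 : π a ^ 3 = 1 := by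
    rw [← map_pow]
    refine (QuotientGroup.eq_one_iff _).2 (hscal (by rw [← pow_succ, pow_succ']) ?_)
    rw [hbai, hz3, inv_one, sc_one, one_mul]
  have hb3 : π b ^ 3 = 1 := by
    rw [← map_pow]
    refine (QuotientGroup.eq_one_iff _).2 (hscal ?_ (by rw [← pow_succ, pow_succ']))
    rw [habi, hz3, sc_one, one_mul]
  let T : V → G3 ⧸ scGrp F T3 := fun v => π a ^ v.1.val * π b ^ v.2.val
  have hTadd : ∀ v w, T (v + w) = T v * T w := by
    intro v w
    simp only [T, Prod.fst_add, Prod.snd_add, ZMod.val_add]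
    rw [← pow_eq_pow_mod _ ha3, ← pow_eq_pow_mod _ hb3, pow_add, pow_add, mul_assoc, mul_assoc,
      ← mul_assoc (π a ^ w.1.val), (hπab.pow_pow w.1.val v.2.val).eq, mul_assoc]
  have hT0 : T 0 = 1 := by simp [T]
  have hTinj : Function.Injective T := by
    have h0 : ∀ v, T v = 1 → v = 0 := by
      intro v hv
      simp only [T, ← map_pow, ← map_mul] at hv
      obtain ⟨c, hc⟩ := (QuotientGroup.eq_one_iff _).1 hv
      have hval : ∀ k : T3, z ^ k.val = 1 → k = 0 := fun k hk => by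
        have h1 : (z : F) ^ k.val = 1 := by rw [← Units.val_pow_eq_pow_val, hk, Units.val_one]
        have h2 := (hprim.pow_eq_one_iff_dvd k.val).1 h1
        exact (ZMod.val_eq_zero k).1 (Nat.eq_zero_of_dvd_of_lt h2 (ZMod.val_lt k))
      have hcom : ∀ g : G3, g * (a ^ v.1.val * b ^ v.2.val) = a ^ v.1.val * b ^ v.2.val * g := fun g => by
        rw [← show sc c = _ from hc, sc_comm]
      refine Prod.ext (hval _ ?_) (hval _ ?_)
      · have h := hcom b
        rw [← mul_assoc, hbai, mul_assoc, mul_assoc, mul_assoc (a ^ v.1.val) (b ^ v.2.val) b, ← pow_succ,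
          ← pow_succ', mul_eq_right, ← sc_one] at h
        exact inv_eq_one.1 (sc_inj h)
      · have h := hcom a
        rw [← mul_assoc, ← pow_succ', pow_succ, mul_assoc, habi, ← mul_assoc, ← sc_comm, mul_assoc,
          ← mul_assoc (a ^ v.1.val) (b ^ v.2.val) a, mul_eq_right, ← sc_one] at h
        exact sc_inj h
    intro v w h
    rw [← sub_eq_zero]
    apply h0
    have h2 : T (v - w) * T w = T w := by rw [← hTadd, sub_add_cancel, h]
    exact mul_eq_right.1 h2
  have honto : ∀ g : G3, (∃ c : Fˣ, g * a = sc c * (a * g)) → (∃ c : Fˣ, g * b = sc c * (b * g)) →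
      ∃ v, π g = T v := by
    rintro g ⟨c, hc⟩ ⟨d, hd⟩
    obtain ⟨i, hi, hci⟩ := hprim.eq_pow_of_pow_eq_one (hcube hd)
    obtain ⟨j, hj, hcj⟩ := hprim.eq_pow_of_pow_eq_one (ξ := ((c⁻¹ : Fˣ) : F)) (by
      rw [← Units.val_pow_eq_pow_val, inv_pow, inv_eq_one.2 (show c ^ 3 = 1 from Units.ext (by
        simpa using hcube hc)), Units.val_one])
    have hd' : d = z ^ i := Units.ext (by rw [Units.val_pow_eq_pow_val, hci])
    have hc' : c = (z ^ j)⁻¹ := by
      rw [← inv_inv c]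
      exact congrArg _ (Units.ext (by rw [Units.val_pow_eq_pow_val, hcj]))
    refine ⟨((i : ℕ), (j : ℕ)), ?_⟩
    simp only [T, ZMod.val_natCast, Nat.mod_eq_of_lt hi, Nat.mod_eq_of_lt hj, ← map_pow, ← map_mul]
    set k := a ^ i * b ^ j
    have hkb : k * b = sc (z ^ i) * (b * k) := by
      show a ^ i * b ^ j * b = sc (z ^ i) * (b * (a ^ i * b ^ j))
      rw [← mul_assoc b, hbai, ← mul_assoc (sc (z ^ i)), ← mul_assoc (sc (z ^ i)), ← sc_mul, mul_inv_cancel,
        sc_one, one_mul, mul_assoc, mul_assoc, ← pow_succ, pow_succ']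
    have hka : k * a = sc (z ^ j)⁻¹ * (a * k) := by
      show a ^ i * b ^ j * a = sc (z ^ j)⁻¹ * (a * (a ^ i * b ^ j))
      have hba : b ^ j * a = sc (z ^ j)⁻¹ * (a * b ^ j) := by
        rw [habi, ← mul_assoc (sc (z ^ j)⁻¹), ← sc_mul, inv_mul_cancel, sc_one, one_mul]
      rw [mul_assoc (a ^ i), hba, ← mul_assoc (a ^ i), ← sc_comm, mul_assoc, ← mul_assoc (a ^ i), ← pow_succ,
        pow_succ', mul_assoc a]
    have key : ∀ {x : G3} {e : Fˣ}, g * x = sc e * (x * g) → k * x = sc e * (x * k) →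
        g⁻¹ * k * x = x * (g⁻¹ * k) := by
      intro x e h1 h2
      have e1 : g⁻¹ * x = sc e⁻¹ * (x * g⁻¹) := by
        rw [inv_mul_eq_iff_eq_mul, ← mul_assoc, ← sc_comm, mul_assoc, ← mul_assoc g, h1, mul_assoc,
          mul_inv_cancel_right, ← mul_assoc, ← sc_mul, inv_mul_cancel, sc_one, one_mul]
      calc g⁻¹ * k * x = g⁻¹ * (sc e * (x * k)) := by rw [mul_assoc, h2]
        _ = sc e * (g⁻¹ * x * k) := by rw [← mul_assoc, ← sc_comm, mul_assoc, mul_assoc]
        _ = sc e * sc e⁻¹ * (x * (g⁻¹ * k)) := by rw [e1]; group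
        _ = x * (g⁻¹ * k) := by rw [← sc_mul, mul_inv_cancel, sc_one, one_mul]
    obtain ⟨f, hf⟩ := hscal (key (hc' ▸ hc) hka) (key (hd' ▸ hd) hkb)
    have h3 := congrArg π (show sc f = g⁻¹ * k from hf)
    rw [hπsc, map_mul, map_inv, eq_inv_mul_iff_mul_eq, mul_one] at h3
    exact h3
  have hTL : ∀ v, ∃ l ∈ L', π l = T v := fun v =>
    ⟨a ^ v.1.val * b ^ v.2.val, mul_mem (pow_mem ha _) (pow_mem hb _),
    by simp [T]⟩
  -- the action of `M` on the nine classes
  have hact : ∀ g ∈ M, ∀ v, ∃ w, π g * T v * (π g)⁻¹ = T w := by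
    intro g hg v
    obtain ⟨l, hl, e⟩ := hTL v
    obtain ⟨w, hw⟩ := honto _ (hz _ (hL'n g hg l hl) a ha) (hz _ (hL'n g hg l hl) b hb)
    exact ⟨w, by rw [← hw, map_mul, map_mul, map_inv, e]⟩
  choose φ hφ using hact
  have hφadd : ∀ g hg v w, φ g hg (v + w) = φ g hg v + φ g hg w := fun g hg v w => hTinj (by
    rw [hTadd, ← hφ, ← hφ, ← hφ, hTadd]; group)
  have hrep : ∀ g hg v, φ g hg v = v.1 • φ g hg (1, 0) + v.2 • φ g hg (0, 1) := by
    intro g hg v
    let ψ : V →+ V := AddMonoidHom.mk' (φ g hg) (hφadd g hg)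
    conv_lhs => rw [show v = v.1 • ((1, 0) : V) + v.2 • ((0, 1) : V) by ext <;> simp]
    show ψ _ = v.1 • ψ _ + v.2 • ψ _
    rw [map_add, ZMod.map_smul, ZMod.map_smul]
  have hWW : ∀ u v : V, π (C.W u) * π (C.W v) = π (C.W (u + v)) := fun u v => by
    rw [← map_mul, C.W_mul, map_mul, hπsc, one_mul]
  set f := φ (C.W (1, 0)) (hW _)
  set f' := φ (C.W (0, 1)) (hW _)
  have hit : ∀ g hg (n : ℕ) v, T ((φ g hg)^[n] v) = π g ^ n * T v * (π g ^ n)⁻¹ := by
    intro g hg n
    induction n with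
    | zero => intro v; simp
    | succ n ih => intro v; rw [Function.iterate_succ_apply', ← hφ, ih, pow_succ']; group
  have hW3 : ∀ v, π (C.W v) ^ 3 = 1 := fun v => by rw [← map_pow, C.W_cube, map_one]
  have hc3 : ∀ u v, φ (C.W u) (hW u) (φ (C.W u) (hW u) (φ (C.W u) (hW u) v)) = v := fun u v => hTinj (by
    have := hit (C.W u) (hW u) 3 v
    rw [hW3] at this
    simpa using this)
  have hcm : ∀ v, f (f' v) = f' (f v) := fun v => hTinj (by
    show T (φ (C.W (1, 0)) _ (φ (C.W (0, 1)) _ v)) = T (φ (C.W (0, 1)) _ (φ (C.W (1, 0)) _ v))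
    rw [← hφ, ← hφ, ← hφ, ← hφ]
    have hc : π (C.W (1, 0)) * π (C.W (0, 1)) = π (C.W (0, 1)) * π (C.W (1, 0)) := by
      rw [hWW, hWW, add_comm]
    calc _ = (π (C.W (1, 0)) * π (C.W (0, 1))) * T v * (π (C.W (1, 0)) * π (C.W (0, 1)))⁻¹ := by group
      _ = _ := by rw [hc]; group)
  have hef : lin (f (1, 0)) (f (0, 1)) = f := funext fun v => (hrep _ _ v).symm
  have hef' : lin (f' (1, 0)) (f' (0, 1)) = f' := funext fun v => (hrep _ _ v).symm
  have hex := commuting_pair (f (1, 0)) (f (0, 1)) (f' (1, 0)) (f' (0, 1))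
  simp only [hef, hef'] at hex
  obtain ⟨i, j, hij, e₁, e₂⟩ := hex (hc3 _ _) (hc3 _ _) (hc3 _ _) (hc3 _ _) (hcm _) (hcm _)
  -- the kernel
  let K : Subgroup (G3 ⧸ scGrp F T3) := Subgroup.centralizer {T (1, 0), T (0, 1)}
  have hK : ∀ {g : G3 ⧸ scGrp F T3}, g ∈ K ↔ ∀ v, g * T v = T v * g := by
    intro g
    simp only [K, Subgroup.mem_centralizer_iff, Set.mem_insert_iff, Set.mem_singleton_iff, forall_eq_or_imp,
      forall_eq]
    refine ⟨fun h v => ?_, fun h => ⟨(h _).symm, (h _).symm⟩⟩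
    have h10 : T (1, 0) = π a := by simp [T, ZMod.val_one]
    have h01 : T (0, 1) = π b := by simp [T, ZMod.val_one]
    rw [h10, h01] at h
    exact (((show Commute g (π a) from h.1.symm).pow_right _).mul_right
      ((show Commute g (π b) from h.2.symm).pow_right _)).eq
  set v₀ : V := (((i : ℕ) : T3), ((j : ℕ) : T3))
  have hd0 : ∀ i j : Fin 3, ((((i : ℕ) : T3), ((j : ℕ) : T3)) : V) = 0 → (i, j) = (0, 0) := by decide
  have hv₀ : v₀ ≠ 0 := fun h => hij (hd0 i j h)
  have hWsplit : π (C.W (1, 0)) ^ (i : ℕ) * π (C.W (0, 1)) ^ (j : ℕ) = π (C.W v₀) := by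
    have hp : ∀ (u : V) (n : ℕ), π (C.W u) ^ n = π (C.W (n • u)) := fun u n => by
      induction n with
      | zero => simp [C.W_zero]
      | succ n ih => rw [pow_succ, ih, hWW, succ_nsmul]
    rw [hp, hp, hWW]
    congr 2
    simp [v₀]
  have hv₀K : π (C.W v₀) ∈ K := by
    have h : ∀ v, f^[(i : ℕ)] (f'^[(j : ℕ)] v) = v → π (C.W v₀) * T v = T v * π (C.W v₀) := fun v h => by
      have h1 := hit (C.W (1, 0)) (hW _) i (f'^[(j : ℕ)] v)
      rw [show (φ (C.W (1, 0)) (hW _))^[(i : ℕ)] (f'^[(j : ℕ)] v) = v from h,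
        hit (C.W (0, 1)) (hW _) j v] at h1
      rw [← hWsplit]
      conv_rhs => rw [h1]
      group
    rw [Subgroup.mem_centralizer_iff]
    rintro t (rfl | rfl)
    · exact (h _ e₁).symm
    · exact (h _ e₂).symm
  let rot : V → V := fun v => (-v.2, v.1)
  have hrot : π (C.W (rot v₀)) ∈ K := by
    have e : π (C.W (rot v₀)) = π C.S * π (C.W v₀) * (π C.S)⁻¹ := by
      rw [eq_mul_inv_iff_mul_eq, ← map_mul π C.S, C.S_W, map_mul, map_mul, hπsc, one_mul]
    rw [hK]
    intro v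
    obtain ⟨w, hw⟩ : ∃ w, (π C.S)⁻¹ * T v * π C.S = T w :=
      ⟨φ C.S⁻¹ (M.inv_mem hS) v, by rw [← hφ, map_inv, inv_inv]⟩
    rw [e, show π C.S * π (C.W v₀) * (π C.S)⁻¹ * T v = π C.S * (π (C.W v₀) * ((π C.S)⁻¹ * T v * π C.S)) *
      (π C.S)⁻¹ by group, hw, hK.1 hv₀K w, ← hw]
    group
  have hWK : ∀ v, π (C.W v) ∈ K := by
    intro v
    obtain ⟨k, l, rfl⟩ : ∃ k l : Fin 3, v = (k : ℕ) • v₀ + (l : ℕ) • rot v₀ := by
      have hd : ∀ w : V, w ≠ 0 → ∀ u : V, ∃ k l : Fin 3, u = (k : ℕ) • w + (l : ℕ) • (-w.2, w.1) := by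
        decide +kernel
      exact hd v₀ hv₀ v
    have hp : ∀ (u : V) (n : ℕ), π (C.W u) ∈ K → π (C.W (n • u)) ∈ K := fun u n hu => by
      induction n with
      | zero => simp [C.W_zero, K.one_mem]
      | succ n ih => rw [succ_nsmul, ← hWW]; exact K.mul_mem ih hu
    rw [← hWW]
    exact K.mul_mem (hp _ _ hv₀K) (hp _ _ hrot)
  have hσ : ∀ v, ∃ w, π (C.W v) = T w := by
    intro v
    have key : ∀ x : G3, π (C.W v) * π x = π x * π (C.W v) → ∃ c : Fˣ, C.W v * x = sc c * (x * C.W v) :=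
      fun x h => hπ (by rw [map_mul, map_mul, h])
    refine honto _ (key a ?_) (key b ?_)
    · simpa [T, ZMod.val_one] using hK.1 (hWK v) (1, 0)
    · simpa [T, ZMod.val_one] using hK.1 (hWK v) (0, 1)
  choose σ hσ using hσ
  have hσb : Function.Bijective σ := Finite.injective_iff_bijective.1 fun u v h => by
    obtain ⟨c, hc⟩ := hπ ((hσ u).trans ((congrArg T h).trans (hσ v).symm))
    exact (C.sc_W_inj (c := (1 : Fˣ)) (d := c) (by rw [sc_one, one_mul]; exact hc)).2
  intro g hg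
  refine C.mem_NZ_of_conj fun v => ?_
  obtain ⟨w, hw⟩ := hσb.2 (φ g hg (σ v))
  obtain ⟨c, hc⟩ := hπ (x := g * C.W v * g⁻¹) (y := C.W w) (by
    rw [map_mul, map_mul, map_inv, hσ, hσ, hφ g hg, hw])
  exact ⟨c, w, hc⟩

end Cfsg.Agent.H55.SLThree.HeisSolvable
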