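import Cfsg.Agent.H1.HeisThree.Base
import Cfsg.Agent.H55.SLThree.HeisSolvable
import Cfsg.Agent.H55.SLThree.HeisSeeds
import Cfsg.Agent.H55.SLThree.HeisKlein
import Cfsg.Agent.H55.SLThree.HeisExceptional
import Cfsg.Agent.S0205

/-!
The quaternion part of the Heisenberg normaliser is only contained in the normaliser or the special linear group.
-/

set_option autoImplicit false

namespace Cfsg.Agent.H55.SLThree.HeisCsix

open Matrix Cfsg.Agent.H1.HeisThree HeisSeeds

variable {F : Type*} [Field F] (C : Cube F) {p : ℕ}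

local notation "T3" => ZMod 3
local notation "M3" => Matrix (ZMod 3) (ZMod 3) F
local notation "G3" => GL (ZMod 3) F
local notation "M2" => Matrix (Fin 2) (Fin 2) F
local notation "G2" => GL (Fin 2) F

/-- The diagonal element in the centraliser. -/
def Y : C.Hgrp := ⟨_, C.y_mem⟩
/-- The first quaternion generator. -/
def S1 : C.Hgrp := ⟨_, C.S_mem⟩
/-- The second quaternion generator. -/
def S2 : C.Hgrp := Y C * S1 C * (Y C)⁻¹
/-- The third quaternion generator. -/
def S3 : C.Hgrp := Y C * S2 C * (Y C)⁻¹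

theorem hs : C.s * (1 + 2 * C.ω) = 1 := by rw [Cube.s, inv_mul_cancel₀ C.root_ne_zero]

theorem phi_one : (C.phi (S1 C) : M2) = C.s • !![1, 2; 1, -1] := C.phi_S

theorem phi_Y : (C.phi (Y C) : M2) = !![1, 0; 0, C.ω] := C.phi_y

theorem Y_cube : (Y C) * Y C * Y C = 1 := by
  refine Subtype.ext (Units.ext ?_)
  show (C.y : M3) * C.y * C.y = 1
  simp only [Cube.y, Matrix.diagonal_mul_diagonal, ← C.ch_add]
  rw [← Matrix.diagonal_one]
  congr 1
  funext i
  rw [show i * i + i * i + i * i = 0 by revert i; decide, C.ch_zero]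

theorem phi_Y_inv : (↑(C.phi (Y C))⁻¹ : M2) = !![1, 0; 0, C.ω ^ 2] := by
  rw [← map_inv, inv_eq_of_mul_eq_one_right (show Y C * (Y C * Y C) = 1 by rw [← mul_assoc, Y_cube]),
    map_mul, Units.val_mul, phi_Y]
  ext i j
  fin_cases i <;> fin_cases j <;> simp [pow_two]

theorem phi_two : (C.phi (S2 C) : M2) = C.s • !![1, 2 * C.ω ^ 2; C.ω, -1] := by
  rw [S2, map_mul, map_mul, map_inv, Units.val_mul, Units.val_mul, phi_Y_inv, phi_Y, phi_one]
  ext i j
  fin_cases i <;> fin_cases j <;> simp [Matrix.mul_apply, Fin.sum_univ_two]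
  all_goals first
    | ring1
    | linear_combination C.s * C.cube
    | linear_combination (2 * C.s * C.ω) * C.cube

theorem phi_three : (C.phi (S3 C) : M2) = C.s • !![1, 2 * C.ω; C.ω ^ 2, -1] := by
  rw [S3, map_mul, map_mul, map_inv, Units.val_mul, Units.val_mul, phi_Y_inv, phi_Y, phi_two]
  ext i j
  fin_cases i <;> fin_cases j <;> simp [Matrix.mul_apply, Fin.sum_univ_two]
  all_goals first
    | ring1
    | linear_combination C.s * C.cube
    | linear_combination (2 * C.s * C.ω) * C.cube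

theorem mu_conj (g x : C.Hgrp) : C.mu (g * x * g⁻¹) = C.mu x := by
  rw [map_mul, map_mul, map_inv, mul_right_comm, mul_inv_cancel, one_mul]

theorem mu_one : (C.mu (S1 C) : F) = 1 := C.mu_S

theorem mu_two : (C.mu (S2 C) : F) = 1 := by rw [S2, mu_conj]; exact mu_one C

theorem mu_three : (C.mu (S3 C) : F) = 1 := by rw [S3, mu_conj]; exact mu_two C

theorem one_two : (C.phi (S1 C) : M2) * C.phi (S2 C) = C.phi (S3 C) := by
  rw [phi_one, phi_two, phi_three]
  ext i j
  fin_cases i <;> fin_cases j <;> simp [Matrix.mul_apply, Fin.sum_univ_two]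
  · linear_combination C.s * hs C
  · linear_combination (2 * C.s * C.ω) * hs C - 2 * C.s * C.s * C.sq_add
  · linear_combination (C.s * C.ω ^ 2) * hs C - C.s * C.s * C.sq_add - 2 * C.s * C.s * C.cube
  · linear_combination -C.s * hs C + 2 * C.s * C.s * C.sq_add

theorem two_one : (C.phi (S2 C) : M2) * C.phi (S1 C) = -(C.phi (S3 C) : M2) := by
  rw [phi_one, phi_two, phi_three]
  ext i j
  fin_cases i <;> fin_cases j <;> simp [Matrix.mul_apply, Fin.sum_univ_two]
  · linear_combination -C.s * hs C + 2 * C.s * C.s * C.sq_add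
  · linear_combination (-2 * C.s * C.ω) * hs C + 2 * C.s * C.s * C.sq_add
  · linear_combination (-C.s * C.ω ^ 2) * hs C + C.s * C.s * C.sq_add + 2 * C.s * C.s * C.cube
  · linear_combination C.s * hs C

theorem sq_one : (C.phi (S1 C) : M2) * C.phi (S1 C) = -1 := by
  rw [← Units.val_mul]
  exact (phi_gen_facts (C := C)).1

theorem sq_two : (C.phi (S2 C) : M2) * C.phi (S2 C) = -1 := by
  rw [← Units.val_mul, ← map_mul, show S2 C * S2 C = Y C * (S1 C * S1 C) * (Y C)⁻¹ by rw [S2]; group,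
    map_mul, map_mul, Units.val_mul, Units.val_mul, map_mul, Units.val_mul, sq_one, map_inv, Matrix.mul_neg,
    mul_one, Matrix.neg_mul, Units.mul_inv]

theorem sq_three : (C.phi (S3 C) : M2) * C.phi (S3 C) = -1 := by
  rw [← Units.val_mul, ← map_mul, show S3 C * S3 C = Y C * (S2 C * S2 C) * (Y C)⁻¹ by rw [S3]; group,
    map_mul, map_mul, Units.val_mul, Units.val_mul, map_mul, Units.val_mul, sq_two, map_inv, Matrix.mul_neg,
    mul_one, Matrix.neg_mul, Units.mul_inv]

theorem det_one : (C.phi (S1 C) : M2).det = 1 := by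
  rw [phi_one, Matrix.det_smul, Matrix.det_fin_two]
  simp
  linear_combination -C.s_sq

theorem det_conj (g x : C.Hgrp) : (C.phi (g * x * g⁻¹) : M2).det = (C.phi x : M2).det := by
  rw [map_mul, map_mul, map_inv, Units.val_mul, Units.val_mul, Matrix.det_units_conj]

theorem det_two : (C.phi (S2 C) : M2).det = 1 := by rw [S2, det_conj, det_one]

theorem det_three : (C.phi (S3 C) : M2).det = 1 := by rw [S3, det_conj, det_two]

theorem three_eq (h2 : (2 : F) ≠ 0) : S3 C = S1 C * S2 C := by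
  refine C.ext_H h2 ?_ ?_
  · rw [map_mul, Units.val_mul, one_two]
  · rw [map_mul, Units.val_mul, mu_one, mu_two, mu_three, one_mul]

theorem scalar_of_comm (h2 : (2 : F) ≠ 0) {X : M2} (h1 : X * (C.phi (S1 C) : M2) = (C.phi (S1 C) : M2) * X)
    (h1' : X * (C.phi (S2 C) : M2) = (C.phi (S2 C) : M2) * X) : X = X 0 0 • (1 : M2) := by
  have hs0 : C.s ≠ 0 := inv_ne_zero C.root_ne_zero
  rw [phi_one, Matrix.mul_smul, Matrix.smul_mul] at h1
  rw [phi_two, Matrix.mul_smul, Matrix.smul_mul] at h1'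
  have k1 := smul_right_injective _ hs0 h1
  have k2 := smul_right_injective _ hs0 h1'
  rw [← Matrix.ext_iff] at k1 k2
  have a := k1 0 0
  have b := k1 0 1
  have c := k2 0 0
  simp [Matrix.mul_apply, Fin.sum_univ_two] at a b c
  have h01 : X 0 1 = 2 * X 1 0 := by linear_combination a
  have h10 : X 1 0 = 0 := by
    have hne : C.ω - C.ω ^ 2 ≠ 0 := fun e => C.ne_one (mul_left_cancel₀ C.ne_zero (by linear_combination -e))
    refine (mul_eq_zero.1 (show X 1 0 * (2 * (C.ω - C.ω ^ 2)) = 0 by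
      linear_combination c - C.ω * h01)).resolve_right (mul_ne_zero h2 hne)
  have h01' : X 0 1 = 0 := by rw [h01, h10, mul_zero]
  have h11 : X 1 1 = X 0 0 := mul_left_cancel₀ h2 (by linear_combination -b - 2 * h01')
  ext i j
  fin_cases i <;> fin_cases j <;> simp [h01', h10, h11]

/-- A matrix commuting up to sign with the quaternion generators is a multiple of one of them. -/
theorem v4_cases (h2 : (2 : F) ≠ 0) {X : M2} {a b : F} (ha : a = 1 ∨ a = -1) (hb : b = 1 ∨ b = -1)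
    (hX : X * (C.phi (S1 C) : M2) = a • ((C.phi (S1 C) : M2) * X))
    (hX' : X * (C.phi (S2 C) : M2) = b • ((C.phi (S2 C) : M2) * X)) :
    ∃ q, (q = 1 ∨ q = S1 C ∨ q = S2 C ∨ q = S3 C) ∧ ∃ c : F, X = c • (C.phi q : M2) := by
  have e12 := one_two C
  have e21 := two_one C
  have e11 := sq_one C
  have e22 := sq_two C
  have e33 := sq_three C
  generalize hP : (C.phi (S1 C) : M2) = P at hX e12 e21 e11
  generalize hQ : (C.phi (S2 C) : M2) = Q at hX' e12 e21 e22
  generalize hR : (C.phi (S3 C) : M2) = R at e12 e21 e33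
  have fin : ∀ Z : M2, X * Z * P = P * (X * Z) → X * Z * Q = Q * (X * Z) → Z * Z = -1 →
      ∃ c : F, X = c • Z := by
    intro Z h h' hZ
    have h0 := scalar_of_comm C h2 (X := X * Z) (by rw [hP]; exact h) (by rw [hQ]; exact h')
    refine ⟨-(X * Z) 0 0, ?_⟩
    calc X = -(X * Z * Z) := by rw [mul_assoc, hZ, mul_neg, mul_one, neg_neg]
      _ = _ := by rw [h0, Matrix.smul_mul, one_mul, neg_smul]; simp
  have e31 : R * P = -(P * R) := by rw [← e12, mul_assoc, e21, e12, mul_neg]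
  have e32 : R * Q = -P := by rw [← e12, mul_assoc, e22, mul_neg, mul_one]
  have e23 : Q * R = P := by rw [← e12, ← mul_assoc, e21, neg_mul, e32, neg_neg]
  rcases ha with rfl | rfl <;> rcases hb with rfl | rfl <;>
    simp only [one_smul, neg_smul] at hX hX'
  · refine ⟨1, Or.inl rfl, X 0 0, ?_⟩
    rw [map_one, Units.val_one]
    exact scalar_of_comm C h2 (by rw [hP]; exact hX) (by rw [hQ]; exact hX')
  · obtain ⟨c, hc⟩ := fin P (by rw [← mul_assoc, ← hX])
      (by rw [mul_assoc, e12, ← mul_assoc, ← neg_eq_iff_eq_neg.2 hX', neg_mul, mul_assoc, e21, mul_neg,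
        neg_neg]) e11
    exact ⟨S1 C, Or.inr (Or.inl rfl), c, by rw [hP]; exact hc⟩
  · obtain ⟨c, hc⟩ := fin Q
      (by rw [mul_assoc, e21, ← mul_assoc P, ← neg_eq_iff_eq_neg.2 hX, neg_mul, mul_assoc, e12, mul_neg])
      (by rw [← mul_assoc, ← hX']) e22
    exact ⟨S2 C, Or.inr (Or.inr (Or.inl rfl)), c, by rw [hQ]; exact hc⟩
  · obtain ⟨c, hc⟩ := fin R
      (by rw [mul_assoc, e31, ← mul_assoc P, ← neg_eq_iff_eq_neg.2 hX, neg_mul, mul_assoc, mul_neg])
      (by rw [mul_assoc, e32, ← mul_assoc Q, ← neg_eq_iff_eq_neg.2 hX', neg_mul, mul_assoc, e23, mul_neg]) e33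
    exact ⟨S3 C, Or.inr (Or.inr (Or.inr rfl)), c, by rw [hR]; exact hc⟩

theorem pm_of_scalar {a b : C.Hgrp} {c : F} (h : (C.phi (a * b⁻¹) : M2) = c • 1)
    (hd : (C.phi a : M2).det = (C.phi b : M2).det) :
    ∃ e : F, (e = 1 ∨ e = -1) ∧ (C.phi a : M2) = e • (C.phi b : M2) := by
  have h' : (C.phi a : M2) = c • (C.phi b : M2) := by
    rw [← one_mul (C.phi b : M2), ← Matrix.smul_mul, ← h, ← Units.val_mul, ← map_mul, inv_mul_cancel_right]
  have hb : (C.phi b : M2).det ≠ 0 := (Matrix.isUnits_det_units _).ne_zero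
  rw [h', Matrix.det_smul, Fintype.card_fin] at hd
  refine ⟨c, mul_self_eq_one_iff.1 (mul_right_cancel₀ hb ?_), h'⟩
  rw [one_mul, ← pow_two, hd]

section Main

variable [Fintype F] {C}

theorem y_cube : C.y * C.y * C.y = 1 := congrArg Subtype.val (Y_cube C)

theorem mem_facts (h2 : (2 : F) ≠ 0) {M : Subgroup G3} (hM : ContainsQ C M) :
    ((S1 C : C.Hgrp) : G3) ∈ M ∧ ((S2 C : C.Hgrp) : G3) ∈ M ∧ ((S3 C : C.Hgrp) : G3) ∈ M := by
  refine ⟨hM.S, hM.S', ?_⟩
  rw [three_eq C h2, Subgroup.coe_mul]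
  exact mul_mem hM.S hM.S'

theorem scalar_mu (hp : p.Prime) (hF : Fintype.card F = p) (hp2 : p ≠ 2) {M : Subgroup G3}
    (hM : ContainsQ C M) (hno : ¬ ∀ g : G3, (g : M3).det = 1 → g ∈ M) {k : C.Hgrp} (hk : (k : G3) ∈ M) {c : F}
    (hc : (C.phi k : M2) = c • 1) : c * c = (C.mu k : F) * C.mu k := by
  by_contra h
  exact hno (sl_mem_of_block hp hF hp2 hM hk (by simp [hc]) (by simp [hc]) (by simp [hc]; exact h))

theorem no_y (hp : p.Prime) (hF : Fintype.card F = p) (hp2 : p ≠ 2) {M : Subgroup G3}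
    (hM : ContainsQ C M) (hy : C.y ∉ M) (hno : ¬ ∀ g : G3, (g : M3).det = 1 → g ∈ M) {k : C.Hgrp}
    (hk : (k : G3) ∈ M) {c : F} (hc : (C.phi k : M2) = c • (C.phi (Y C) : M2)) : False := by
  have := Fact.mk hp
  have := charP_of_card hp hF
  have h2 : (2 : F) ≠ 0 := two_ne_zero_of hp2 hp
  rw [phi_Y] at hc
  have hc0 : c ≠ 0 := fun h => (C.phi k).ne_zero (by rw [hc, h, zero_smul])
  have hm : (C.mu k : F) * C.mu k = (c * C.ω) * (c * C.ω) := by
    by_contra h
    exact hno (sl_mem_of_block hp hF hp2 hM hk (by simp [hc]) (by simp [hc])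
      (by simp [hc]; exact fun e => h e.symm))
  set cu := Units.mk0 c hc0
  have hYM : ∀ z : C.Hgrp, (z : G3) ∈ M → z * Y C = k → False := fun z hz h => hy (by
    have hY : ((Y C : C.Hgrp) : G3) = (z : G3)⁻¹ * k := by rw [← h, Subgroup.coe_mul, inv_mul_cancel_left]
    show ((Y C : C.Hgrp) : G3) ∈ M
    rw [hY]
    exact mul_mem (inv_mem hz) hk)
  rcases mul_self_eq_mul_self_iff.1 hm with h | h
  · refine hYM ⟨_, C.sc_mem cu⟩ (hM.sc _) (C.ext_H h2 ?_ ?_)
    · rw [map_mul, Units.val_mul, C.phi_sc, phi_Y, hc]; simp [cu]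
    · rw [map_mul, Units.val_mul, C.mu_sc, h, show (C.mu (Y C) : F) = C.ω from C.mu_y]; rfl
  · refine hYM (⟨_, C.sc_mem (-cu)⟩ * ⟨_, C.flip_mem⟩) (mul_mem (hM.sc _) hM.flip) (C.ext_H h2 ?_ ?_)
    · rw [map_mul, map_mul, Units.val_mul, Units.val_mul, C.phi_sc, C.phi_flip, phi_Y, hc]; simp [cu]
    · rw [map_mul, map_mul, Units.val_mul, Units.val_mul, C.mu_sc, C.mu_flip, h,
        show (C.mu (Y C) : F) = C.ω from C.mu_y]
      simp [cu]

/-- A central square root of the first quaternion generator is absurd. -/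
theorem no_root (hp : p.Prime) (hF : Fintype.card F = p) (hp3 : p % 3 = 1) (hp9 : p % 9 ≠ 1) {M : Subgroup G3}
    (hM : ContainsQ C M) (hno : ¬ ∀ g : G3, (g : M3).det = 1 → g ∈ M) {b : C.Hgrp} (hb : (b : G3) ∈ M) {e : F}
    (hbb : (C.phi b : M2) * C.phi b = e • (C.phi (S1 C) : M2))
    (hcen : ∀ x : C.Hgrp, (x : G3) ∈ M → ∃ a : F, (a = 1 ∨ a = -1) ∧
      (C.phi x : M2) * C.phi (S1 C) = a • ((C.phi (S1 C) : M2) * C.phi x)) : False := by
  have := Fact.mk hp
  have := charP_of_card hp hF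
  have h2 : (2 : F) ≠ 0 := two_ne_zero_of (by omega) hp
  have he : e ≠ 0 := fun h => ((C.phi b) * C.phi b).ne_zero (by rw [Units.val_mul, hbb, h, zero_smul])
  have hs0 : C.s ≠ 0 := inv_ne_zero C.root_ne_zero
  set P := (C.phi (S1 C) : M2) with hPdef
  set X := (C.phi b : M2) with hXdef
  have hcomm : X * P = P * X := by
    have h : X * (e • P) = (e • P) * X := by rw [← hbb, mul_assoc]
    rw [Matrix.mul_smul, Matrix.smul_mul] at h
    exact smul_right_injective _ he h
  have hP := phi_one C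
  rw [← hPdef] at hP
  obtain ⟨α, β, hX⟩ : ∃ α β : F, X = α • 1 + β • P := by
    rw [hP, Matrix.mul_smul, Matrix.smul_mul] at hcomm
    have k := smul_right_injective _ hs0 hcomm
    rw [← Matrix.ext_iff] at k
    have a := k 0 0
    have b' := k 0 1
    simp [Matrix.mul_apply, Fin.sum_univ_two] at a b'
    refine ⟨X 0 0 - X 1 0, X 1 0 / C.s, ?_⟩
    rw [hP, smul_smul, div_mul_cancel₀ _ hs0]
    ext i j
    fin_cases i <;> fin_cases j <;> simp
    · linear_combination a
    · exact mul_left_cancel₀ h2 (by linear_combination -b' - 2 * a)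
  have hPP : P * P = -1 := sq_one C
  have hsq : (α * α - β * β) • (1 : M2) + (2 * α * β - e) • P = 0 := by
    have h : X * X - e • P = 0 := sub_eq_zero.2 hbb
    rw [hX] at h
    simp only [add_mul, mul_add, Matrix.smul_mul, Matrix.mul_smul, one_mul, mul_one, hPP, smul_smul,
      smul_neg] at h
    rw [← h]
    module
  have h10 := congrArg (fun A : M2 => A 1 0) hsq
  simp [hP, hs0] at h10
  have h00 := congrArg (fun A : M2 => A 0 0) hsq
  simp [hP, h10] at h00
  have hαβ : α = β ∨ α = -β := mul_self_eq_mul_self_iff.1 (by linear_combination h00)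
  have hα : α ≠ 0 := fun h => he (by rw [h] at h10; linear_combination -h10)
  obtain ⟨b₁, hb₁M, hb₁⟩ : ∃ b₁ : C.Hgrp, (b₁ : G3) ∈ M ∧ (C.phi b₁ : M2) = 1 + P := by
    rcases hαβ with h | h
    · refine ⟨⟨_, C.sc_mem (Units.mk0 α hα)⁻¹⟩ * b, mul_mem (hM.sc _) hb, ?_⟩
      rw [map_mul, Units.val_mul, C.phi_sc, ← hXdef, hX, ← h, ← smul_add, Matrix.smul_mul, one_mul, smul_smul]
      simp [hα]
    · refine ⟨⟨_, C.sc_mem (Units.mk0 (2 * α) (mul_ne_zero h2 hα))⟩ * b⁻¹, mul_mem (hM.sc _) (inv_mem hb), ?_⟩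
      have h' : X * (1 + P) = (2 * α) • 1 := by
        rw [hX, show β = -α by rw [h, neg_neg]]
        simp only [add_mul, mul_add, Matrix.smul_mul, one_mul, mul_one, hPP]
        module
      rw [map_mul, map_inv, Units.val_mul, C.phi_sc, Matrix.smul_mul, one_mul]
      calc ((Units.mk0 (2 * α) (mul_ne_zero h2 hα) : Fˣ) : F) • ((C.phi b)⁻¹ : G2).val
          = ((C.phi b)⁻¹ : G2).val * ((2 * α) • 1) := by rw [Matrix.mul_smul, mul_one, Units.val_mk0]
        _ = 1 + P := by rw [← h', ← mul_assoc, hXdef, Units.inv_mul, one_mul]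
  obtain ⟨hS1, -, -⟩ := mem_facts h2 hM
  have hmu : (C.mu b₁ : F) * C.mu b₁ = 2 ∨ (C.mu b₁ : F) * C.mu b₁ = -2 := by
    have hk : (C.phi (b₁ * b₁ * (S1 C)⁻¹) : M2) = (2 : F) • 1 := by
      have h' : (C.phi b₁ : M2) * C.phi b₁ = (2 : F) • P := by
        rw [hb₁]
        simp only [add_mul, mul_add, one_mul, mul_one, hPP]
        module
      rw [map_mul, map_mul, map_inv, Units.val_mul, Units.val_mul, h', Matrix.smul_mul, hPdef, Units.mul_inv]
    have h := scalar_mu hp hF (by omega) hM hno (mul_mem (mul_mem hb₁M hb₁M) (inv_mem hS1)) hk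
    rw [map_mul, map_mul, map_inv, Units.val_mul, Units.val_mul, Units.val_inv_eq_inv_val, mu_one, inv_one,
      mul_one] at h
    exact mul_self_eq_mul_self_iff.1 h.symm
  set b₂ : C.Hgrp := ⟨_, C.sc_mem (-1)⟩ * ⟨_, C.flip_mem⟩ * b₁
  refine HeisExceptional.no_exceptional C hp hF hp3 hp9 hM.W hM.flip ?_ hb₁M
    (b' := b₂) (mul_mem (mul_mem (hM.sc _) hM.flip) hb₁M) hb₁ ?_ hmu ?_
  · intro x hx hxf
    set x' : C.Hgrp := ⟨x, Subgroup.mem_centralizer_singleton_iff.2 hxf⟩
    obtain ⟨a, ha | ha, hxS⟩ := hcen x' hx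
    · left
      refine congrArg Subtype.val (C.ext_H h2 (g := x' * S1 C) (h := S1 C * x') ?_ ?_)
      · rw [map_mul, map_mul, Units.val_mul, Units.val_mul, hxS, ha, one_smul]
      · rw [map_mul, map_mul, mul_comm]
    · right
      refine congrArg Subtype.val (C.ext_H h2 (g := x' * S1 C) (h := ⟨_, C.flip_mem⟩ * S1 C * x') ?_ ?_)
      · rw [map_mul, map_mul, map_mul, Units.val_mul, Units.val_mul, Units.val_mul, hxS, ha, C.phi_flip,
          neg_one_smul, Matrix.neg_mul, one_mul, Matrix.neg_mul]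
      · rw [map_mul, map_mul, map_mul, Units.val_mul, Units.val_mul, Units.val_mul, C.mu_flip, one_mul,
          mul_comm]
  · rw [map_mul, map_mul, Units.val_mul, Units.val_mul, C.phi_sc, C.phi_flip, hb₁]
    simp [hPdef, S1]
  · rw [map_mul, map_mul, Units.val_mul, Units.val_mul, C.mu_sc, C.mu_flip]
    simp

/-- Conjugating by the diagonal element keeps the quaternion data. -/
theorem conj_data (h2 : (2 : F) ≠ 0) {M : Subgroup G3} (hM : ContainsQ C M) (hy : C.y ∉ M)
    (hno : ¬ ∀ g : G3, (g : M3).det = 1 → g ∈ M) :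
    ContainsQ C (M.comap (MulAut.conj C.y).toMonoidHom) ∧ C.y ∉ M.comap (MulAut.conj C.y).toMonoidHom ∧
      ¬ ∀ g : G3, (g : M3).det = 1 → g ∈ M.comap (MulAut.conj C.y).toMonoidHom := by
  have hmem : ∀ g : G3, g ∈ M.comap (MulAut.conj C.y).toMonoidHom ↔ C.y * g * C.y⁻¹ ∈ M := fun g => Iff.rfl
  refine ⟨⟨fun c => ?_, fun v => ?_, ?_, ?_⟩, ?_, fun h => hno fun g hg => ?_⟩
  · rw [hmem, ← sc_comm, mul_inv_cancel_right]; exact hM.sc c
  · rw [hmem, C.y_W, mul_inv_cancel_right]; exact mul_mem (hM.sc _) (hM.W _)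
  · rw [hmem]; exact hM.S'
  · rw [hmem]; exact (mem_facts h2 hM).2.2
  · rw [hmem, mul_inv_cancel_right]; exact hy
  · have h' := h (C.y⁻¹ * g * C.y) (by
      rw [Units.val_mul, Units.val_mul, Matrix.det_units_conj', hg])
    rw [hmem, show C.y * (C.y⁻¹ * g * C.y) * C.y⁻¹ = g by group] at h'
    exact h'

set_option maxHeartbeats 800000 in
/-- The involution is isolated. -/
theorem isolated (hp : p.Prime) (hF : Fintype.card F = p) (hp3 : p % 3 = 1) (hp9 : p % 9 ≠ 1) {M : Subgroup G3}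
    (hM : ContainsQ C M) (hy : C.y ∉ M) (hno : ¬ ∀ g : G3, (g : M3).det = 1 → g ∈ M) {x : C.Hgrp}
    (hx : (x : G3) ∈ M) (hxx : x * x = 1) (htr : ((x : G3) : M3).trace = -1) : (x : G3) = C.flip := by
  classical
  have := Fact.mk hp
  have := charP_of_card hp hF
  have hp2 : p ≠ 2 := by omega
  have h2 : (2 : F) ≠ 0 := two_ne_zero_of hp2 hp
  obtain ⟨hS1, hS2, hS3⟩ := mem_facts h2 hM
  by_contra hxne
  -- the eigenvalues of the involution
  have hX2 : (C.phi x : M2) * C.phi x = 1 := by rw [← Units.val_mul, ← map_mul, hxx, map_one, Units.val_one]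
  have hm2 : (C.mu x : F) * C.mu x = 1 := by rw [← Units.val_mul, ← map_mul, hxx, map_one, Units.val_one]
  rw [C.trace_eq] at htr
  have hdet : (C.phi x : M2).det = -1 := by
    have k := hX2
    rw [← Matrix.ext_iff] at k
    have a := k 0 0
    have b := k 0 1
    have c := k 1 0
    have d := k 1 1
    simp [Matrix.mul_apply, Fin.sum_univ_two] at a b c d
    rw [Matrix.trace_fin_two] at htr
    set A := (C.phi x : M2) 0 0
    set B := (C.phi x : M2) 0 1
    set C' := (C.phi x : M2) 1 0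
    set D := (C.phi x : M2) 1 1
    rw [Matrix.det_fin_two]
    by_cases hAD : A + D = 0
    · linear_combination -a + A * hAD
    exfalso
    have hB : B = 0 := (mul_eq_zero.1 (show B * (A + D) = 0 by linear_combination b)).resolve_right hAD
    have hC : C' = 0 := (mul_eq_zero.1 (show C' * (A + D) = 0 by linear_combination c)).resolve_right hAD
    have hA : A * A = 1 := by linear_combination a - C' * hB
    have hD : D = A := by
      have : (D - A) * (D + A) = 0 := by linear_combination d - a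
      exact sub_eq_zero.1 ((mul_eq_zero.1 this).resolve_right (by rwa [add_comm]))
    rcases mul_self_eq_one_iff.1 hA with h1 | h1
    · have hm : (C.mu x : F) = -3 := by linear_combination htr - hD - 2 * h1
      rw [hm] at hm2
      exact pow_ne_zero 3 h2 (by linear_combination hm2)
    · apply hxne
      refine congrArg Subtype.val (C.ext_H h2 (g := x) (h := ⟨_, C.flip_mem⟩) ?_ ?_)
      · rw [C.phi_flip]
        ext i j
        fin_cases i <;> fin_cases j <;> simp [hB, hC, hD, h1, A, B, C', D] at *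
      · rw [C.mu_flip]; linear_combination htr - hD - 2 * h1
  -- the projective image
  obtain ⟨ψ, hψ⟩ := exists_proj (F := F) (p := p) hF hp2
  let _ : Fintype (GaloisField p 2) := Fintype.ofFinite _
  let A : Subgroup C.Hgrp := M.comap C.Hgrp.subtype
  let f : A →* _ := (ψ.comp C.phi).comp A.subtype
  have lift1 : ∀ z : A, f.rangeRestrict z = 1 ↔ ∃ c : F, (C.phi z.1 : M2) = c • 1 := fun z =>
    Iff.trans ⟨fun h => congrArg Subtype.val h, fun h => Subtype.ext h⟩ (hψ (C.phi z.1))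
  have eqf : ∀ a b : A, f.rangeRestrict a = f.rangeRestrict b → ∃ c : F, (C.phi (a.1 * b.1⁻¹) : M2) = c • 1 :=
    fun a b h => (lift1 (a * b⁻¹)).1 (by rw [map_mul, map_inv, h, mul_inv_cancel])
  let T₁ : A := ⟨S1 C, hS1⟩
  let T₂ : A := ⟨S2 C, hS2⟩
  let T₃ : A := ⟨S3 C, hS3⟩
  let X₀ : A := ⟨x, hx⟩
  by_cases hdvd : p ∣ Nat.card f.range
  · obtain ⟨g, hgp, hg1⟩ := exists_order_p_of_dvd f hp hdvd
    refine hno (sl_mem_of_p_element hp hF hp2 hM hS1 hS2 (by rw [one_two, two_one, neg_neg]) g.2 ?_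
      (fun h => hg1 ((hψ _).2 h)))
    have := (hψ _).1 hgp
    simpa [map_pow] using this
  have hsmall := small_of_not_dvd p f.range hdvd
  have sq1 : ∀ z : A, (C.phi z.1 : M2) * C.phi z.1 = -1 →
      f.rangeRestrict z * f.rangeRestrict z = 1 ∧ f.rangeRestrict z ≠ 1 ∨ ∃ c : F, (C.phi z.1 : M2) = c • 1 := by
    intro z hz
    by_cases h : f.rangeRestrict z = 1
    · exact Or.inr ((lift1 z).1 h)
    · refine Or.inl ⟨?_, h⟩
      rw [← map_mul, lift1]
      exact ⟨-1, by rw [Subgroup.coe_mul, map_mul, Units.val_mul, hz, neg_one_smul]⟩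
  have hs0 : C.s ≠ 0 := inv_ne_zero C.root_ne_zero
  have nsc : ∀ {q : C.Hgrp} {u v : F}, (C.phi q : M2) = C.s • !![1, u; v, -1] →
      ¬ ∃ c : F, (C.phi q : M2) = c • 1 := by
    rintro q u v hq ⟨c, hc⟩
    rw [hq, ← Matrix.ext_iff] at hc
    have a := hc 0 0
    have d := hc 1 1
    simp at a d
    exact mul_ne_zero h2 hs0 (by linear_combination a - d)
  obtain ⟨ht, ht1⟩ := (sq1 T₁ (sq_one C)).resolve_right (nsc (phi_one C))
  obtain ⟨hu, hu1⟩ := (sq1 T₂ (sq_two C)).resolve_right (nsc (phi_two C))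
  set t := f.rangeRestrict T₁
  set u := f.rangeRestrict T₂
  have htu : f.rangeRestrict T₃ = t * u := by
    rw [show T₃ = T₁ * T₂ from Subtype.ext (three_eq C h2), map_mul]
  have hne : u ≠ t := fun h => by
    have h' : f.rangeRestrict T₃ = 1 := by rw [htu, h, ht]
    exact nsc (phi_three C) ((lift1 T₃).1 h')
  have hcomm : t * u = u * t := by
    have h : u * t = f.rangeRestrict T₃ := by
      rw [← map_mul, ← mul_inv_eq_one, ← map_inv, ← map_mul, lift1]
      refine ⟨-1, ?_⟩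
      simp only [Subgroup.coe_mul, Subgroup.coe_inv, map_mul, map_inv, Units.val_mul, T₁, T₂, T₃, two_one,
        Matrix.neg_mul, Units.mul_inv, neg_one_smul]
    rw [h, htu]
  have sgn : ∀ a b c : A, (C.phi b.1 : M2).det = (C.phi c.1 : M2).det →
      f.rangeRestrict a * f.rangeRestrict b = f.rangeRestrict c * f.rangeRestrict a →
      ∃ e : F, (e = 1 ∨ e = -1) ∧ (C.phi a.1 : M2) * C.phi b.1 = e • ((C.phi c.1 : M2) * C.phi a.1) := by
    intro a b c hd h
    rw [← map_mul, ← map_mul] at h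
    obtain ⟨d, hd'⟩ := eqf _ _ h
    obtain ⟨e, he, heq⟩ := pm_of_scalar C hd' (by
      simp only [Subgroup.coe_mul, map_mul, Units.val_mul, Matrix.det_mul, hd]; ring)
    refine ⟨e, he, ?_⟩
    simpa [Units.val_mul] using heq
  have hC : ∀ g : f.range, g * t = t * g → g * u = u * g → g = 1 ∨ g = t ∨ g = u ∨ g = t * u := by
    intro g h h'
    obtain ⟨a, rfl⟩ := f.rangeRestrict_surjective g
    obtain ⟨e₁, he₁, h₁⟩ := sgn a T₁ T₁ rfl h
    obtain ⟨e₂, he₂, h₂⟩ := sgn a T₂ T₂ rfl h'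
    obtain ⟨q, hq, c, hc⟩ := v4_cases C h2 he₁ he₂ h₁ h₂
    have fin : ∀ Q : A, (Q : C.Hgrp) = q → f.rangeRestrict a = f.rangeRestrict Q := fun Q hQ => by
      rw [← mul_inv_eq_one, ← map_inv, ← map_mul, lift1]
      exact ⟨c, by rw [Subgroup.coe_mul, Subgroup.coe_inv, map_mul, map_inv, Units.val_mul, hc, hQ,
        Matrix.smul_mul, Units.mul_inv]⟩
    rcases hq with rfl | rfl | rfl | rfl
    · exact Or.inl (by rw [fin 1 rfl, map_one])
    · exact Or.inr (Or.inl (fin T₁ rfl))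
    · exact Or.inr (Or.inr (Or.inl (fin T₂ rfl)))
    · exact Or.inr (Or.inr (Or.inr ((fin T₃ rfl).trans htu)))
  have hxf : f.rangeRestrict X₀ * f.rangeRestrict X₀ = 1 := by
    rw [← map_mul, show X₀ * X₀ = 1 from Subtype.ext hxx, map_one]
  rcases HeisKlein.klein_cases hsmall ht ht1 hu hu1 hne hcomm hC hxf with
    ⟨g, q, hq, hxq⟩ | ⟨r, hr, hr'⟩ | ⟨s, b, hs, hbs, hcen⟩
  · obtain ⟨G, rfl⟩ := f.rangeRestrict_surjective g
    obtain ⟨Q, hQ, hQd, hQm⟩ : ∃ Q : A, f.rangeRestrict Q = q ∧ (C.phi Q.1 : M2).det = 1 ∧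
        (C.mu Q.1 : F) = 1 := by
      rcases hq with rfl | rfl | rfl | rfl
      · exact ⟨1, map_one _, by simp, by simp⟩
      · exact ⟨T₁, rfl, det_one C, mu_one C⟩
      · exact ⟨T₂, rfl, det_two C, mu_two C⟩
      · exact ⟨T₃, htu, det_three C, mu_three C⟩
    rw [← hQ, ← map_inv, ← map_mul, ← map_mul] at hxq
    obtain ⟨c, hc⟩ := eqf _ _ hxq
    have hmu := scalar_mu hp hF hp2 hM hno (k := (X₀ * (G * Q * G⁻¹)⁻¹).1) (X₀ * (G * Q * G⁻¹)⁻¹).2 hc
    have hd := congrArg Matrix.det hc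
    simp only [Subgroup.coe_mul, Subgroup.coe_inv, X₀] at hd hmu
    rw [map_mul, map_inv, Units.val_mul, Matrix.det_mul, Matrix.coe_units_inv, Matrix.det_nonsing_inv,
      det_conj, hQd, hdet, Matrix.det_smul, Matrix.det_one, Fintype.card_fin] at hd
    rw [map_mul, map_inv, Units.val_mul, Units.val_inv_eq_inv_val, mu_conj, hQm, inv_one, mul_one, hm2] at hmu
    simp at hd
    exact h2 (by linear_combination -hd - hmu)
  · obtain ⟨R, rfl⟩ := f.rangeRestrict_surjective r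
    rw [← htu] at hr'
    obtain ⟨e₁, he₁, h₁⟩ := sgn R T₁ T₂ (by rw [show (T₁ : C.Hgrp) = S1 C from rfl,
      show (T₂ : C.Hgrp) = S2 C from rfl, det_one, det_two]) hr
    obtain ⟨e₂, he₂, h₂⟩ := sgn R T₂ T₃ (by rw [show (T₂ : C.Hgrp) = S2 C from rfl,
      show (T₃ : C.Hgrp) = S3 C from rfl, det_two, det_three]) hr'
    set D := C.phi (Y C)
    have hD2 : (↑D⁻¹ : M2) * C.phi (S2 C) = (C.phi (S1 C) : M2) * (↑D⁻¹ : M2) := by
      rw [S2, map_mul, map_mul, map_inv, Units.val_mul, Units.val_mul, ← mul_assoc, ← mul_assoc, Units.inv_mul,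
        one_mul]
    have hD3 : (↑D⁻¹ : M2) * C.phi (S3 C) = (C.phi (S2 C) : M2) * (↑D⁻¹ : M2) := by
      rw [S3, map_mul, map_mul, map_inv, Units.val_mul, Units.val_mul, ← mul_assoc, ← mul_assoc, Units.inv_mul,
        one_mul]
    obtain ⟨q, hq, c, hc⟩ := v4_cases C h2 (X := (↑D⁻¹ : M2) * C.phi R.1) he₁ he₂
      (by rw [mul_assoc, h₁, Matrix.mul_smul, ← mul_assoc, hD2, mul_assoc])
      (by rw [mul_assoc, h₂, Matrix.mul_smul, ← mul_assoc, hD3, mul_assoc])
    have hqM : (q : G3) ∈ M := by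
      rcases hq with rfl | rfl | rfl | rfl
      exacts [one_mem M, hS1, hS2, hS3]
    refine no_y hp hF hp2 hM hy hno (k := R.1 * q⁻¹) (mul_mem R.2 (inv_mem hqM)) (c := c) ?_
    have hR : (C.phi R.1 : M2) = c • ((D : M2) * C.phi q) := by
      rw [← Matrix.mul_smul, ← hc, ← mul_assoc, Units.mul_inv, one_mul]
    rw [map_mul, map_inv, Units.val_mul, hR, Matrix.smul_mul, mul_assoc, Units.mul_inv, mul_one]
  · obtain ⟨B, rfl⟩ := f.rangeRestrict_surjective b
    obtain ⟨Q, hQ, hQe⟩ : ∃ Q : A, f.rangeRestrict Q = s ∧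
        (Q.1 = S1 C ∨ Q.1 = S2 C ∨ Q.1 = S3 C) := by
      rcases hs with rfl | rfl | rfl
      · exact ⟨T₁, rfl, Or.inl rfl⟩
      · exact ⟨T₂, rfl, Or.inr (Or.inl rfl)⟩
      · exact ⟨T₃, htu, Or.inr (Or.inr rfl)⟩
    subst hQ
    rw [← map_mul] at hbs
    obtain ⟨e, he⟩ := eqf _ _ hbs
    have hbb : (C.phi B.1 : M2) * C.phi B.1 = e • (C.phi Q.1 : M2) := by
      rw [← Units.val_mul, ← map_mul, show B.1 * B.1 = (B * B).1 * Q.1⁻¹ * Q.1 by
        rw [inv_mul_cancel_right, Subgroup.coe_mul], map_mul, Units.val_mul, he, Matrix.smul_mul, one_mul]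
    have hcen' : ∀ a : C.Hgrp, (a : G3) ∈ M → ∃ a' : F, (a' = 1 ∨ a' = -1) ∧
        (C.phi a : M2) * C.phi Q.1 = a' • ((C.phi Q.1 : M2) * C.phi a) := fun a ha =>
      sgn ⟨a, ha⟩ Q Q rfl (hcen _)
    -- move the central root to the first generator
    have step : ∀ (M : Subgroup G3), ContainsQ C M → C.y ∉ M →
        (¬ ∀ g : G3, (g : M3).det = 1 → g ∈ M) → ∀ Q b : C.Hgrp, (b : G3) ∈ M →
        ((C.phi b : M2) * C.phi b = e • (C.phi (Y C * Q * (Y C)⁻¹) : M2)) →
        (∀ a : C.Hgrp, (a : G3) ∈ M → ∃ a' : F, (a' = 1 ∨ a' = -1) ∧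
          (C.phi a : M2) * C.phi (Y C * Q * (Y C)⁻¹) = a' • ((C.phi (Y C * Q * (Y C)⁻¹) : M2) * C.phi a)) →
        ∃ M' : Subgroup G3, ContainsQ C M' ∧ C.y ∉ M' ∧ (¬ ∀ g : G3, (g : M3).det = 1 → g ∈ M') ∧
          ∃ b' : C.Hgrp, (b' : G3) ∈ M' ∧ (C.phi b' : M2) * C.phi b' = e • (C.phi Q : M2) ∧
            ∀ a : C.Hgrp, (a : G3) ∈ M' → ∃ a' : F, (a' = 1 ∨ a' = -1) ∧
              (C.phi a : M2) * C.phi Q = a' • ((C.phi Q : M2) * C.phi a) := by
      intro M hM hy hno Q b hb hbb hcen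
      obtain ⟨h1, h1', h1''⟩ := conj_data h2 hM hy hno
      refine ⟨_, h1, h1', h1'', (Y C)⁻¹ * b * Y C, ?_, ?_, fun a ha => ?_⟩
      · show C.y * ((((Y C)⁻¹ * b * Y C : C.Hgrp)) : G3) * C.y⁻¹ ∈ M
        simpa [Y, mul_assoc] using hb
      · have := congrArg (fun Z : M2 => (↑(C.phi (Y C))⁻¹ : M2) * Z * (C.phi (Y C) : M2)) hbb
        simp only [map_mul, map_inv, Units.val_mul, Matrix.mul_smul, Matrix.smul_mul, mul_assoc,
          Units.inv_mul, mul_one, Units.inv_mul_cancel_left] at this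
        simp only [map_mul, map_inv, Units.val_mul, mul_assoc, Units.mul_inv_cancel_left]
        exact this
      · obtain ⟨a', ha', h⟩ := hcen (Y C * a * (Y C)⁻¹) (by simpa [Y] using ha)
        refine ⟨a', ha', ?_⟩
        have := congrArg (fun Z : M2 => (↑(C.phi (Y C))⁻¹ : M2) * Z * (C.phi (Y C) : M2)) h
        simpa only [map_mul, map_inv, Units.val_mul, Matrix.mul_smul, Matrix.smul_mul, mul_assoc,
          Units.inv_mul, mul_one, Units.inv_mul_cancel_left] using this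
    rcases hQe with h | h | h <;> rw [h] at hbb hcen'
    · exact no_root hp hF hp3 hp9 hM hno B.2 hbb hcen'
    · obtain ⟨M', h1, -, h3, b', hb', hbb', hcen''⟩ := step M hM hy hno (S1 C) B.1 B.2 hbb hcen'
      exact no_root hp hF hp3 hp9 h1 h3 hb' hbb' hcen''
    · obtain ⟨M', h1, h1', h3, b', hb', hbb', hcen''⟩ := step M hM hy hno (S2 C) B.1 B.2 hbb hcen'
      obtain ⟨M'', k1, -, k3, b'', kb, kbb, kcen⟩ := step M' h1 h1' h3 (S1 C) b' hb' hbb' hcen''
      exact no_root hp hF hp3 hp9 k1 k3 kb kbb kcen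

/-- A subgroup with the quaternion part of the Heisenberg normaliser lies in it or contains `SL₃`. -/
theorem csix (hp : p.Prime) (hF : Fintype.card F = p) (hp3 : p % 3 = 1) (hp9 : p % 9 ≠ 1) {M : Subgroup G3}
    (hM : ContainsQ C M) (hy : C.y ∉ M) : M ≤ C.NZ ∨ ∀ g : G3, (g : M3).det = 1 → g ∈ M := by
  refine or_iff_not_imp_right.2 fun hno => ?_
  have := Fact.mk hp
  have := charP_of_card hp hF
  have h2 : (2 : F) ≠ 0 := two_ne_zero_of (by omega) hp
  have hne : C.flip ≠ 1 := fun h => by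
    have := congrArg (fun u : G3 => (u : M3) 0 0) h
    simp [Cube.coe_flip] at this
    exact h2 (by linear_combination -this)
  let u : M := ⟨C.flip, hM.flip⟩
  have hord : orderOf u = 2 :=
    orderOf_eq_prime (Subtype.ext (show C.flip ^ 2 = 1 by rw [pow_two, C.flip_mul_flip]))
      (fun h => hne (congrArg Subtype.val h))
  have hiso : Cfsg.IsIsolatedInvolution u := by
    refine ⟨hord, fun g hg => Subtype.ext ?_⟩
    set x : G3 := (g : G3) * C.flip * (g : G3)⁻¹ with hx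
    have hxH : x ∈ C.Hgrp :=
      Subgroup.mem_centralizer_singleton_iff.2 (congrArg Subtype.val hg.eq).symm
    refine isolated hp hF hp3 hp9 hM hy hno (x := ⟨x, hxH⟩) (mul_mem (mul_mem g.2 hM.flip) (inv_mem g.2))
      (Subtype.ext ?_) (by show (x : M3).trace = -1; rw [hx, Cfsg.Agent.H1.HeisThree.trace_conj, trace_flip])
    show x * x = 1
    rw [hx, show (g : G3) * C.flip * (g : G3)⁻¹ * ((g : G3) * C.flip * (g : G3)⁻¹)
      = (g : G3) * (C.flip * C.flip) * (g : G3)⁻¹ by group, C.flip_mul_flip, mul_one, mul_inv_cancel]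
  have hz := Cores.zStarProp (Cores.uniqueInvolutionCase Cores.quaternionCase) M u hiso
  haveI : Group.IsSolvable (Cfsg.oddCore M) := S0205.result Cores.odd_card_oddCore
  refine HeisSolvable.le_NZ_of_solvable C hM.W hM.S (Cfsg.oddCore M) fun hO => ?_
  obtain ⟨c, hc⟩ := hO ⟨_, hz ⟨C.W (1, 0), hM.W _⟩, rfl⟩
  have hc' : sc c * C.W (1, 0) = sc 1 * C.W (-(1, 0)) := by
    rw [sc_one, one_mul, show sc c = C.flip * C.W (1, 0) * C.flip⁻¹ * (C.W (1, 0))⁻¹ from hc,
      inv_mul_cancel_right, C.flip_W, mul_inv_cancel_right]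
  exact absurd (C.sc_W_inj hc').2 (by decide)

end Main

end Cfsg.Agent.H55.SLThree.HeisCsix
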