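import Cfsg.Prelude.Def_GeometricClasses
import Cfsg.Agent.H1.HeisThree.Centre
import Cfsg.Agent.H55.SLThree.HeisCsix

/-!
The symplectic type clause in three dimensions.
-/

set_option autoImplicit false

namespace Cfsg.Agent.H55.SLThree.HeisClause

open Matrix Cfsg.Agent.H1.HeisThree
open scoped commutatorElement

variable {F : Type*} [Field F]

local notation "T3" => ZMod 3
local notation "V" => ZMod 3 × ZMod 3
local notation "M3" => Matrix (ZMod 3) (ZMod 3) F
local notation "G3" => GL (ZMod 3) F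

section Model

variable (C : Cube F)

/-- The Heisenberg group of order 27. -/
def RH : Subgroup G3 where
  carrier := {g | g ^ 3 = 1 ∧ C.InR g}
  one_mem' := ⟨one_pow 3, 1, 0, by rw [sc_one, C.W_zero, one_mul]⟩
  mul_mem' := by
    rintro g h ⟨hg3, c, u, rfl⟩ ⟨hh3, d, v, rfl⟩
    have cube : ∀ (c : Fˣ) (u : V), (sc c * C.W u) ^ 3 = 1 → c ^ 3 = 1 := fun c u h => by
      rw [(show Commute (sc c) (C.W u) from sc_comm _ _).mul_pow, C.W_cube, mul_one, sc_pow, ← sc_one] at h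
      exact sc_inj h
    refine ⟨?_, c * d * Units.mk0 _ (C.ch_ne_zero (u.2 * v.1)), u + v, ?_⟩
    · have e : sc c * C.W u * (sc d * C.W v) =
          sc (c * d * Units.mk0 _ (C.ch_ne_zero (u.2 * v.1))) * C.W (u + v) := by
        rw [mul_assoc, ← mul_assoc (C.W u), ← sc_comm, mul_assoc, C.W_mul, sc_mul, sc_mul]
        simp only [mul_assoc]
      rw [e, (show Commute (sc _) (C.W (u + v)) from sc_comm _ _).mul_pow, C.W_cube, mul_one, sc_pow, mul_pow,
        mul_pow, cube c u hg3, cube d v hh3, one_mul, one_mul, ← sc_one]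
      refine congrArg sc (Units.ext ?_)
      rw [Units.val_pow_eq_pow_val, Units.val_mk0, Units.val_one, Cube.ch, ← pow_mul, mul_comm, pow_mul,
        C.cube, one_pow]
    · rw [mul_assoc, ← mul_assoc (C.W u), ← sc_comm, mul_assoc, C.W_mul, sc_mul, sc_mul]
      simp only [mul_assoc]
  inv_mem' := by
    rintro g ⟨hg3, c, u, rfl⟩
    refine ⟨by rw [inv_pow, hg3, inv_one], c⁻¹ * (Units.mk0 _ (C.ch_ne_zero (u.2 * (-u).1)))⁻¹, -u, ?_⟩
    rw [inv_eq_iff_mul_eq_one]
    rw [mul_assoc, ← mul_assoc (C.W u), ← sc_comm, mul_assoc, C.W_mul, add_neg_cancel, C.W_zero, mul_one,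
      ← sc_mul, ← sc_mul, ← sc_one]
    congr 1
    rw [mul_assoc (c⁻¹), inv_mul_cancel, mul_one, mul_inv_cancel]

theorem W_mem_RH (v : V) : C.W v ∈ RH C := ⟨C.W_cube v, 1, v, by rw [sc_one, one_mul]⟩

theorem conj_mem_RH {g x : G3} (hg : g ∈ C.NZ) (hx : x ∈ RH C) : g * x * g⁻¹ ∈ RH C := by
  obtain ⟨hx3, c, v, rfl⟩ := hx
  refine ⟨by rw [conj_pow, hx3, mul_one, mul_inv_cancel], ?_⟩
  obtain ⟨σ, hσ⟩ := hg
  obtain ⟨d, hd⟩ := hσ v
  exact ⟨c * d, σ v, by rw [conj_sc_mul, hd, ← mul_assoc, ← sc_mul]⟩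

theorem mem_NZ_iff (g : G3) : g ∈ C.NZ ↔ ∀ x, x ∈ RH C ↔ g * x * g⁻¹ ∈ RH C := by
  constructor
  · intro hg x
    refine ⟨conj_mem_RH C hg, fun h => ?_⟩
    have := conj_mem_RH C (inv_mem hg) h
    rwa [show g⁻¹ * (g * x * g⁻¹) * g⁻¹⁻¹ = x by group] at this
  · intro h
    exact C.mem_NZ_of_conj fun v => ((h _).1 (W_mem_RH C v)).2

theorem det_W_diag (b : T3) : (C.W (0, b) : M3).det = 1 := by
  have e : (C.W (0, b) : M3) = Matrix.diagonal fun i => C.ch (b * i) := by
    ext i j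
    by_cases h : i = j <;> simp [Cube.coe_W, Cube.wMat_apply, h]
  rw [e, Matrix.det_diagonal, show (Finset.univ : Finset T3) = {0, 1, 2} by decide,
    Finset.prod_insert (by decide), Finset.prod_insert (by decide), Finset.prod_singleton, ← C.ch_add, ← C.ch_add,
    (by decide : ∀ b : T3, b * 0 + (b * 1 + b * 2) = 0) b, C.ch_zero]

theorem det_W (v : V) : (C.W v : M3).det = 1 := by
  have h : ∀ a : T3, (C.W (a, 0) : M3).det = 1 := by
    intro a
    have e := congrArg (fun g : G3 => (g : M3).det) (C.S_W (0, -a))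
    simp only [Units.val_mul, Matrix.det_mul, det_W_diag, neg_neg, coe_sc, Matrix.det_smul, Matrix.det_one,
      mul_one, zero_mul, neg_zero, C.ch_zero, Units.val_mk0, one_pow, one_mul] at e
    have hS : (C.S : M3).det ≠ 0 := (Matrix.isUnits_det_units C.S).ne_zero
    exact mul_right_cancel₀ hS (by rw [one_mul]; exact e.symm)
  have e := congrArg (fun g : G3 => (g : M3).det) (C.W_mul (v.1, 0) (0, v.2))
  simp only [Units.val_mul, Matrix.det_mul, h, det_W_diag, coe_sc, Matrix.det_smul, Matrix.det_one, mul_one,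
    Units.val_mk0, one_mul, zero_mul, C.ch_zero, one_pow, Prod.mk_add_mk, add_zero, zero_add] at e
  exact e.symm

theorem det_S_cube : ((C.S : M3).det ^ 3) ^ 3 = (C.S : M3).det := by
  have h : (C.S : M3).det ^ 4 = 1 := by
    rw [← Matrix.det_pow, ← Units.val_pow_eq_pow_val, show C.S ^ 4 = (C.S * C.S) * (C.S * C.S) by simp only [pow_succ, pow_zero, one_mul, mul_assoc],
      C.S_mul_S, C.flip_mul_flip, Units.val_one, Matrix.det_one]
  rw [← pow_mul, show 3 * 3 = 4 * 2 + 1 from rfl, pow_succ, pow_mul, h, one_pow, one_mul]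

theorem det_y : (C.y : M3).det = C.ω ^ 2 := by
  rw [show (C.y : M3) = Matrix.diagonal fun i => C.ch (i * i) from rfl, Matrix.det_diagonal,
    show (Finset.univ : Finset T3) = {0, 1, 2} by decide, Finset.prod_insert (by decide),
    Finset.prod_insert (by decide), Finset.prod_singleton, ← C.ch_add, ← C.ch_add,
    show (0 : T3) * 0 + (1 * 1 + 2 * 2) = 2 by decide, C.ch_two]

/-- A shear with determinant one outside the normaliser. -/
theorem exists_not_mem_NZ : ∃ g : G3, (g : M3).det = 1 ∧ g ∉ C.NZ := by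
  have hxy : (0 : T3) ≠ 1 := by decide
  have hdet : (Matrix.transvection (0 : T3) 1 (1 : F)).det = 1 := Matrix.det_transvection_of_ne _ _ hxy _
  obtain ⟨T, hT⟩ : ∃ T : G3, (T : M3) = Matrix.transvection (0 : T3) 1 (1 : F) :=
    ⟨Matrix.GeneralLinearGroup.mkOfDetNeZero _ (ne_of_eq_of_ne hdet one_ne_zero), rfl⟩
  refine ⟨T, by rw [hT]; exact hdet, fun h => ?_⟩
  obtain ⟨σ, hσ⟩ := h
  obtain ⟨c, hc⟩ := hσ (0, 1)
  rw [mul_inv_eq_iff_eq_mul] at hc
  have key : ∀ x y : T3, ((Matrix.transvection (0 : T3) 1 (1 : F)) * (C.W (0, 1) : M3)) x y =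
      ((c : F) • ((C.W (σ (0, 1)) : M3) * Matrix.transvection (0 : T3) 1 (1 : F))) x y := by
    intro x y
    have := congrArg (fun g : G3 => (g : M3) x y) hc
    simpa [hT, coe_sc, mul_assoc] using this
  have k1 := key 0 0
  have k2 := key 0 1
  have k3 := key 1 1
  generalize σ (0, 1) = w at k1 k2 k3
  obtain ⟨a, b⟩ := w
  simp [Matrix.transvection, Cube.coe_W, Cube.wMat_apply, Matrix.mul_apply, sum3, Matrix.add_apply,
    Matrix.one_apply, Matrix.single_apply, C.ch_zero, C.ch_one, one_ne_two_T3, two_ne_one_T3, zero_ne_two_T3,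
    two_ne_zero_T3] at k1 k2 k3
  obtain rfl | rfl | rfl : a = 0 ∨ a = 1 ∨ a = 2 := (by decide : ∀ a : T3, a = 0 ∨ a = 1 ∨ a = 2) a
  · simp [C.ch_zero] at k1 k2
    exact C.ne_one (by rw [k2, ← k1])
  · simp [one_ne_two_T3, zero_ne_two_T3, two_ne_zero_T3, show (1 : T3) + 1 = 2 from rfl] at k1
  · simp [one_ne_two_T3, zero_ne_two_T3, two_ne_zero_T3, show (1 : T3) + 2 = 0 from rfl] at k1

end Model

variable [Fintype F]

/-- Standardisation of the data. -/
theorem exists_standard {R : Subgroup (GL (Fin 3) F)} (hR : Cfsg.Geo.IsLinearSymplecticTypeData 3 R) :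
    ∃ (C : Cube F) (ψ : GL (Fin 3) F ≃* G3), (∀ g, g ∈ R ↔ ψ g ∈ RH C) ∧
      (∀ g, ((ψ g : G3) : M3).det = (g : Matrix (Fin 3) (Fin 3) F).det) ∧ ∀ c : Fˣ, ψ (sc c) = sc c := by
  classical
  have hs := hR.symplecticType
  have hexp : ∀ x : R, x ^ 3 = 1 := fun x => by
    have := Monoid.pow_exponent_eq_one x
    rwa [hs.exponent_eq, show 3 * Nat.gcd 2 3 = 3 by decide] at this
  have hcomm2 := commutator_le_center hs.pGroup hexp hs.cyclic_of_characteristic
  have hscal : ∀ g : GL (Fin 3) F, (∀ x ∈ R, g * x = x * g) → ∃ c : Fˣ, g = sc c := by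
    intro g hx
    obtain ⟨c, hc⟩ := hR.absIrred.2 (g : Matrix (Fin 3) (Fin 3) F) (by
      rintro _ ⟨y, hy, rfl⟩
      exact congrArg Units.val (hx y hy))
    have hc0 : c ≠ 0 := by
      rintro rfl
      exact g.ne_zero (by rw [hc, zero_smul])
    exact ⟨Units.mk0 c hc0, Units.ext (by rw [coe_sc, hc, Units.val_mk0])⟩
  obtain ⟨x₀, hx₀, y₀, hy₀, hne⟩ : ∃ x ∈ R, ∃ y ∈ R, x * y ≠ y * x := by
    by_contra h
    push Not at h
    obtain ⟨c, hc⟩ := hR.absIrred.2 (Matrix.single 0 1 (1 : F)) (by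
      rintro _ ⟨y, hy, rfl⟩
      obtain ⟨d, rfl⟩ := hscal y fun x hx => h y hy x hx
      beta_reduce
      rw [coe_sc, Matrix.smul_mul, one_mul, Matrix.mul_smul, mul_one])
    have := congrFun (congrFun hc 0) 1
    simp at this
  obtain ⟨d, hd⟩ : ∃ d : Fˣ, x₀ * y₀ = sc d * (y₀ * x₀) := by
    have hw := hcomm2 (Subgroup.commutator_mem_commutator (Subgroup.mem_top (⟨x₀, hx₀⟩ : R))
      (Subgroup.mem_top (⟨y₀, hy₀⟩ : R)))
    obtain ⟨d, hd⟩ := hscal _ fun u hu =>
      (congrArg Subtype.val (Subgroup.mem_center_iff.1 hw ⟨u, hu⟩)).symm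
    refine ⟨d, ?_⟩
    rw [← hd, commutatorElement_def]
    simp only [Subgroup.coe_mul, Subgroup.coe_inv]
    group
  have hx3 : x₀ ^ 3 = 1 := congrArg Subtype.val (hexp ⟨x₀, hx₀⟩)
  have hy3 : y₀ ^ 3 = 1 := congrArg Subtype.val (hexp ⟨y₀, hy₀⟩)
  have hd1 : d ≠ 1 := fun h => hne (by rw [hd, h, sc_one, one_mul])
  have hxy : ∀ n : ℕ, x₀ * y₀ ^ n = sc (d ^ n) * (y₀ ^ n * x₀) := by
    intro n
    induction n with
    | zero => simp [sc_one]
    | succ n ih =>
      calc x₀ * y₀ ^ (n + 1) = sc (d ^ n) * (y₀ ^ n * (x₀ * y₀)) := by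
            rw [pow_succ, ← mul_assoc, ih]; simp only [mul_assoc]
        _ = sc (d ^ n) * sc d * (y₀ ^ (n + 1) * x₀) := by
            rw [hd, ← mul_assoc (y₀ ^ n), ← sc_comm, pow_succ y₀]; simp only [mul_assoc]
        _ = sc (d ^ (n + 1)) * (y₀ ^ (n + 1) * x₀) := by rw [← sc_mul, ← pow_succ]
  have hd3 : d ^ 3 = 1 := by
    have h := hxy 3
    rw [hy3, mul_one, one_mul] at h
    exact sc_inj (κ := Fin 3) (by rw [sc_one]; exact mul_eq_right.1 h.symm)
  let C : Cube F := ⟨(d : F), IsPrimitiveRoot.coe_units_iff.2 (IsPrimitiveRoot.iff_orderOf.2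
    (orderOf_eq_prime (hp := ⟨Nat.prime_three⟩) hd3 hd1))⟩
  let φ : GL (Fin 3) F ≃* G3 :=
    Cfsg.Geo.glReindex ((Fintype.equivFinOfCardEq (by simp : Fintype.card T3 = 3)).symm)
  have φsc : ∀ c : Fˣ, φ (sc c) = sc c := by
    intro c
    apply Units.ext
    show Matrix.reindexAlgEquiv F F _ ((sc c : GL (Fin 3) F) : Matrix (Fin 3) (Fin 3) F) = _
    rw [coe_sc, map_smul, map_one, coe_sc]
  set x := φ x₀ with hxdef
  set y := φ y₀ with hydef
  have hxyi : ∀ i : T3, (x : M3) * ((y ^ i.val : G3) : M3) = C.ch i • (((y ^ i.val : G3) : M3) * (x : M3)) := by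
    intro i
    have h := congrArg (fun g => ((φ g : G3) : M3)) (hxy i.val)
    simp only [map_mul, map_pow, φsc, Units.val_mul, coe_sc, Matrix.smul_mul, one_mul, ← hxdef, ← hydef] at h
    rw [h, Cube.ch]
    simp [C]
  have hX3 : ((x : M3) * x) * x = 1 := by
    rw [← Units.val_mul, ← Units.val_mul, ← pow_two, ← pow_succ, hxdef, ← map_pow, hx3, map_one, Units.val_one]
  have hY3 : y ^ 3 = 1 := by rw [hydef, ← map_pow, hy3, map_one]
  have hyadd : ∀ i j : T3, y ^ (i + j).val = y ^ i.val * y ^ j.val := fun i j => by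
    rw [ZMod.val_add, ← pow_eq_pow_mod _ hY3, pow_add]
  -- an eigenvector with eigenvalue one
  obtain ⟨v, hv0, hv⟩ : ∃ v : T3 → F, v ≠ 0 ∧ (x : M3) *ᵥ v = v := by
    let P : T3 → M3 := fun k => 1 + C.ch k • (x : M3) + C.ch (2 * k) • ((x : M3) * x)
    have hP : ∀ k, (x : M3) * P k = C.ch (-k) • P k := by
      intro k
      simp only [P, mul_add, mul_one, Matrix.mul_smul, smul_add, smul_smul, ← C.ch_add]
      rw [show -k + k = 0 from neg_add_cancel k, show -k + 2 * k = k by ring, C.ch_zero, one_smul,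
        ← mul_assoc (x : M3), hX3, show C.ch (2 * k) = C.ch (-k) by congr 1; revert k; decide]
      abel
    obtain ⟨k, hk⟩ : ∃ k, P k ≠ 0 := by
      by_contra h
      push Not at h
      have h0 : (3 : F) • (1 : M3) = P 0 + P 1 + P 2 := by
        simp only [P, show (2 : T3) * 0 = 0 from rfl, show (2 : T3) * 1 = 2 from rfl,
          show (2 : T3) * 2 = 1 from rfl, C.ch_zero, C.ch_one, C.ch_two]
        match_scalars <;> first | ring1 | linear_combination C.sq_add | linear_combination -C.sq_add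
      rw [h, h, h, add_zero, add_zero, smul_eq_zero] at h0
      rcases h0 with h0 | h0
      · exact C.three_ne_zero h0
      · exact one_ne_zero h0
    obtain ⟨v, hv⟩ : ∃ v, P k *ᵥ v ≠ 0 := by
      by_contra h
      push Not at h
      exact hk (Matrix.ext_iff_mulVec.2 fun v => by rw [h v, Matrix.zero_mulVec])
    refine ⟨((y ^ k.val : G3) : M3) *ᵥ (P k *ᵥ v), fun h => hv ?_, ?_⟩
    · have := congrArg (fun w => (((y ^ k.val)⁻¹ : G3) : M3) *ᵥ w) h
      simpa [Matrix.mulVec_mulVec, ← Matrix.mul_assoc] using this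
    · rw [Matrix.mulVec_mulVec, hxyi, Matrix.smul_mulVec, ← Matrix.mulVec_mulVec, Matrix.mulVec_mulVec v _ (P k),
        hP, Matrix.smul_mulVec, Matrix.mulVec_smul, smul_smul, C.ch_mul_neg, one_smul]
  -- the basis
  set e : T3 → T3 → F := fun i => ((y ^ i.val : G3) : M3) *ᵥ v
  have hex : ∀ i, (x : M3) *ᵥ e i = C.ch i • e i := fun i => by
    rw [Matrix.mulVec_mulVec, hxyi, Matrix.smul_mulVec, ← Matrix.mulVec_mulVec, hv]
  have hey : ∀ i, (y : M3) *ᵥ e i = e (i + 1) := fun i => by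
    show (y : M3) *ᵥ (((y ^ i.val : G3) : M3) *ᵥ v) = ((y ^ (i + 1).val : G3) : M3) *ᵥ v
    rw [Matrix.mulVec_mulVec, ← Units.val_mul, ← pow_succ', add_comm i 1, hyadd, ZMod.val_one, pow_one,
      ← pow_succ']
  let B : M3 := Matrix.of fun r i => e i r
  have hBmul : ∀ u : T3 → F, B *ᵥ u = ∑ i, u i • e i := fun u => by
    funext r
    simp [B, Matrix.mulVec, dotProduct, Finset.sum_apply, mul_comm]
  have hB : IsUnit B := by
    refine Matrix.mulVec_injective_iff_isUnit.1 fun a b h => sub_eq_zero.1 ?_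
    have hu : ∑ i, (a - b) i • e i = 0 := by rw [← hBmul, Matrix.mulVec_sub, h, sub_self]
    generalize a - b = u at hu
    have hpow : ∀ k : ℕ, ∑ i, (u i * C.ch i ^ k) • e i = 0 := by
      intro k
      induction k with
      | zero => simpa using hu
      | succ k ih =>
        have h' := congrArg ((x : M3) *ᵥ ·) ih
        simp only [Matrix.mulVec_sum, Matrix.mulVec_smul, hex, smul_smul, Matrix.mulVec_zero] at h'
        simpa [pow_succ, mul_assoc] using h'
    funext j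
    have hchn : ∀ k i : T3, C.ch (k * i) = C.ch i ^ k.val := fun k i => by
      rw [Cube.ch, Cube.ch, ← pow_mul, ZMod.val_mul, mul_comm i.val, ← pow_eq_pow_mod _ C.cube]
    have h3 : (3 * u j) • e j = 0 := by
      calc (3 * u j) • e j = ∑ i, (u i * ∑ k : T3, C.ch (k * (i - j))) • e i := by
            rw [Finset.sum_eq_single j (fun i _ hi => by
              rw [C.sum_ch_mul, if_neg (sub_ne_zero.2 hi), mul_zero, zero_smul]) (by simp),
              C.sum_ch_mul, if_pos (sub_self j), mul_comm]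
        _ = ∑ k : T3, C.ch (-(k * j)) • ∑ i, (u i * C.ch i ^ k.val) • e i := by
            simp only [Finset.smul_sum, smul_smul, Finset.mul_sum, Finset.sum_smul]
            rw [Finset.sum_comm]
            refine Finset.sum_congr rfl fun k _ => Finset.sum_congr rfl fun i _ => ?_
            rw [← hchn, show k * (i - j) = -(k * j) + k * i by ring, C.ch_add]
            congr 1
            ring
        _ = 0 := by simp [hpow]
    rcases smul_eq_zero.1 h3 with h | h
    · exact (mul_eq_zero.1 h).resolve_left C.three_ne_zero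
    · refine absurd ?_ hv0
      have := congrArg (fun w => (((y ^ j.val)⁻¹ : G3) : M3) *ᵥ w) h
      simpa [e, Matrix.mulVec_mulVec] using this
  obtain ⟨Q, hQ⟩ := hB
  have hQe : ∀ i, (Q : M3) *ᵥ Pi.single i (1 : F) = e i := fun i => by
    rw [hQ, hBmul, Finset.sum_eq_single i (fun j _ hj => by simp [hj]) (by simp)]
    simp
  let ψ : GL (Fin 3) F ≃* G3 := φ.trans (MulAut.conj Q⁻¹)
  have hψ : ∀ g, ψ g = Q⁻¹ * φ g * Q := fun g => by simp [ψ, MulAut.conj_apply]
  have hψsc : ∀ c : Fˣ, ψ (sc c) = sc c := fun c => by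
    rw [hψ, φsc, mul_assoc, sc_comm, inv_mul_cancel_left]
  have pull : ∀ (g : GL (Fin 3) F) (w : G3),
      (∀ i, ((φ g : G3) : M3) *ᵥ e i = (Q : M3) *ᵥ ((w : M3) *ᵥ Pi.single i (1 : F))) → ψ g = w := by
    intro g w h
    rw [hψ, mul_assoc, inv_mul_eq_iff_eq_mul]
    refine Units.ext ?_
    ext r i
    have := congrFun (h i) r
    rw [← hQe, Matrix.mulVec_mulVec, Matrix.mulVec_mulVec, Matrix.mulVec_single_one,
      Matrix.mulVec_single_one] at this
    simpa using this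
  have wcol : ∀ (a b i : T3), (C.W (a, b) : M3) *ᵥ Pi.single i (1 : F) = C.ch (b * i) • Pi.single (i + a) (1 : F) := by
    intro a b i
    funext r
    rw [Matrix.mulVec_single_one]
    by_cases h : r = i + a <;> simp [Cube.coe_W, Cube.wMat_apply, h]
  set R' := R.map ψ.toMonoidHom
  have hmem : ∀ g, g ∈ R → ψ g ∈ R' := fun g hg => ⟨g, hg, rfl⟩
  have hZ : C.W (0, 1) ∈ R' := by
    rw [← pull x₀ (C.W (0, 1)) fun i => by
      rw [← hxdef, hex, wcol, Matrix.mulVec_smul, one_mul, add_zero, hQe]]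
    exact hmem _ hx₀
  have hX : C.W (1, 0) ∈ R' := by
    rw [← pull y₀ (C.W (1, 0)) fun i => by
      rw [← hydef, hey, wcol, zero_mul, C.ch_zero, one_smul, hQe]]
    exact hmem _ hy₀
  have hW : ∀ w, C.W w ∈ R' := by
    have hnat : ∀ n : ℕ, C.W ((n : T3), 0) ∈ R' ∧ C.W (0, (n : T3)) ∈ R' := by
      intro n
      induction n with
      | zero => simp [C.W_zero, show ((0 : T3), (0 : T3)) = (0 : V) from rfl, one_mem]
      | succ n ih =>
        have e1 := C.W_mul (((n : ℕ) : T3), 0) (1, 0)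
        have e2 := C.W_mul (0, ((n : ℕ) : T3)) (0, 1)
        simp only [zero_mul, mul_zero, C.ch_zero, Units.mk0_one, sc_one, one_mul, Prod.mk_add_mk, add_zero,
          zero_add] at e1 e2
        constructor
        · rw [Nat.cast_succ, ← e1]; exact mul_mem ih.1 hX
        · rw [Nat.cast_succ, ← e2]; exact mul_mem ih.2 hZ
    rintro ⟨a, b⟩
    have e := C.W_mul (a, 0) (0, b)
    simp only [zero_mul, C.ch_zero, Units.mk0_one, sc_one, one_mul, Prod.mk_add_mk, add_zero, zero_add] at e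
    rw [← e]
    exact mul_mem (by simpa using (hnat a.val).1) (by simpa using (hnat b.val).2)
  have hsc : ∀ c : Fˣ, c ^ 3 = 1 → sc c ∈ R' := by
    intro c hc
    obtain ⟨i, hi, hci⟩ := C.prim.eq_pow_of_pow_eq_one (ξ := (c : F)) (by
      rw [← Units.val_pow_eq_pow_val, hc, Units.val_one])
    have hcd : c = d ^ i := Units.ext (by rw [Units.val_pow_eq_pow_val, ← hci])
    have hscd : sc d ∈ R := by
      rw [show sc d = x₀ * y₀ * (y₀ * x₀)⁻¹ by rw [hd, mul_inv_cancel_right]]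
      exact mul_mem (mul_mem hx₀ hy₀) (inv_mem (mul_mem hy₀ hx₀))
    rw [hcd, ← sc_pow, ← hψsc]
    exact pow_mem (hmem _ hscd) _
  refine ⟨C, ψ, fun g => ⟨fun hg => ?_, fun hg => ?_⟩, fun g => ?_, hψsc⟩
  · refine ⟨by rw [← map_pow, show g ^ 3 = 1 from congrArg Subtype.val (hexp ⟨g, hg⟩), map_one],
      C.inR_of_fix fun w => ?_⟩
    obtain ⟨g', hg', e'⟩ := hW w
    have hw := hcomm2 (Subgroup.commutator_mem_commutator (Subgroup.mem_top (⟨g, hg⟩ : R))
      (Subgroup.mem_top (⟨g', hg'⟩ : R)))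
    obtain ⟨c, hc⟩ := hscal _ fun u hu =>
      (congrArg Subtype.val (Subgroup.mem_center_iff.1 hw ⟨u, hu⟩)).symm
    refine ⟨c, ?_⟩
    have := congrArg ψ hc
    rw [hψsc, commutatorElement_def] at this
    simp only [Subgroup.coe_mul, Subgroup.coe_inv, map_mul, map_inv, show ψ g' = C.W w from e'] at this
    show ψ g * C.W w * (ψ g)⁻¹ = sc c * C.W w
    rw [← this, inv_mul_cancel_right]
  · obtain ⟨h3, c, w, hw⟩ := hg
    have hc : c ^ 3 = 1 := by
      rw [hw, (show Commute (sc c) (C.W w) from sc_comm _ _).mul_pow, C.W_cube, mul_one, sc_pow, ← sc_one] at h3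
      exact sc_inj h3
    obtain ⟨g', hg', e'⟩ : ψ g ∈ R' := by rw [hw]; exact mul_mem (hsc c hc) (hW w)
    exact ψ.injective e' ▸ hg'
  · rw [hψ, Units.val_mul, Units.val_mul, Matrix.det_units_conj']
    exact Matrix.det_reindexAlgEquiv F F _ _

/-- A cube root of unity is a cube when nine divides the order of the multiplicative group. -/
theorem exists_cube_root {p : ℕ} (hp : p.Prime) (hF : Fintype.card F = p) (h9 : p % 9 = 1) {x : Fˣ}
    (hx : x ^ 3 = 1) : ∃ c : Fˣ, c ^ 3 = x := by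
  classical
  obtain ⟨g, hg⟩ := IsCyclic.exists_generator (α := Fˣ)
  obtain ⟨n, hn⟩ := hg x
  have hx' : g ^ (n * 3) = 1 := by
    rw [_root_.zpow_mul, show g ^ n = x from hn, ← hx]
    exact zpow_natCast x 3
  have hord : orderOf g = p - 1 := by
    rw [orderOf_eq_card_of_forall_mem_zpowers hg, Nat.card_eq_fintype_card, Fintype.card_units, hF]
  have hdiv := orderOf_dvd_iff_zpow_eq_one.2 hx'
  rw [hord] at hdiv
  have h9' : (9 : ℤ) ∣ ((p - 1 : ℕ) : ℤ) := Int.natCast_dvd_natCast.2 (by omega : 9 ∣ p - 1)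
  obtain ⟨m, hm⟩ : (3 : ℤ) ∣ n := by have := h9'.trans hdiv; omega
  refine ⟨g ^ m, ?_⟩
  rw [← show g ^ n = x from hn, hm, mul_comm (3 : ℤ), _root_.zpow_mul]
  exact (zpow_natCast (g ^ m) 3).symm

theorem det_sc3 (c : Fˣ) : ((sc c : G3) : M3).det = (c : F) ^ 3 := by
  rw [coe_sc, Matrix.det_smul, Matrix.det_one, mul_one, ZMod.card]

/-- The symplectic type clause. -/
theorem symp_clause {p : ℕ} (hp : p.Prime) (hF : Fintype.card F = p) (hp3 : p % 3 = 1)
    {R : Subgroup (GL (Fin 3) F)} (hR : Cfsg.Geo.IsLinearSymplecticTypeData 3 R) :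
    Cfsg.Geo.IsMaximalIn (Cfsg.Geo.specialLinear (Fin 3) F)
      (Cfsg.Geo.subgroupNormalizer R ⊓ Cfsg.Geo.specialLinear (Fin 3) F) := by
  have hp2 : p ≠ 2 := fun e => by rw [e] at hp3; norm_num at hp3
  obtain ⟨C, ψ, hψR, hψdet, hψsc⟩ := exists_standard hR
  set N := Cfsg.Geo.subgroupNormalizer R
  set SL := Cfsg.Geo.specialLinear (Fin 3) F
  have hSL : ∀ g, g ∈ SL ↔ ((ψ g : G3) : M3).det = 1 := fun g => by
    rw [hψdet]
    show Matrix.GeneralLinearGroup.det g = 1 ↔ _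
    rw [Units.ext_iff, Matrix.GeneralLinearGroup.val_det_apply, Units.val_one]
  have hN : ∀ g, g ∈ N ↔ ψ g ∈ C.NZ := fun g => by
    rw [mem_NZ_iff C]
    show g ∈ Subgroup.normalizer (R : Set _) ↔ _
    rw [Subgroup.mem_normalizer_iff]
    constructor
    · intro h x
      have := h (ψ.symm x)
      rwa [hψR, hψR, map_mul, map_mul, map_inv, ψ.apply_symm_apply] at this
    · intro h x
      rw [hψR, hψR, map_mul, map_mul, map_inv]
      exact h _
  refine ⟨lt_of_le_of_ne inf_le_right fun e => ?_, fun M hM1 hM2 => ?_⟩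
  · obtain ⟨g, hg, hgN⟩ := exists_not_mem_NZ C
    have h : ψ.symm g ∈ N ⊓ SL := by rw [e, hSL, ψ.apply_symm_apply]; exact hg
    exact hgN (by simpa using (hN _).1 h.1)
  let M' : Subgroup G3 :=
    { carrier := {g | ∃ c : Fˣ, ψ.symm (sc c * g) ∈ M}
      one_mem' := ⟨1, by rw [sc_one, one_mul, map_one]; exact one_mem _⟩
      mul_mem' := by
        rintro g h ⟨c, hc⟩ ⟨d, hd⟩
        refine ⟨c * d, ?_⟩
        rw [show sc (c * d) * (g * h) = (sc c * g) * (sc d * h) by
          rw [sc_mul, mul_assoc (sc c) g, ← mul_assoc g (sc d), ← sc_comm d g]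
          simp only [mul_assoc], map_mul]
        exact mul_mem hc hd
      inv_mem' := by
        rintro g ⟨c, hc⟩
        refine ⟨c⁻¹, ?_⟩
        rw [sc_comm, sc_inv, ← _root_.mul_inv_rev, map_inv]
        exact inv_mem hc }
  have gen : ∀ g ∈ C.NZ, (∃ c : F, c ^ 3 = (g : M3).det) → g ∈ M' := by
    rintro g hg ⟨c, hc⟩
    have hc0 : c ≠ 0 := fun h => (Matrix.isUnits_det_units g).ne_zero (by rw [← hc, h]; simp)
    refine ⟨(Units.mk0 c hc0)⁻¹, hM1 ⟨(hN _).2 ?_, (hSL _).2 ?_⟩⟩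
    · rw [ψ.apply_symm_apply]; exact mul_mem (C.sc_mem_NZ _) hg
    · rw [ψ.apply_symm_apply, Units.val_mul, Matrix.det_mul, det_sc3, Units.val_inv_eq_inv_val, Units.val_mk0,
        inv_pow, hc, inv_mul_cancel₀ (Matrix.isUnits_det_units g).ne_zero]
  have hC : HeisSeeds.ContainsQ C M' :=
    { sc := fun c => ⟨c⁻¹, by rw [← sc_mul, inv_mul_cancel, sc_one, map_one]; exact one_mem _⟩
      W := fun v => gen _ (C.W_mem_NZ v) ⟨1, by rw [det_W C, one_pow]⟩
      S := gen _ C.S_mem_NZ ⟨_, det_S_cube C⟩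
      S' := gen _ (mul_mem (mul_mem C.y_mem_NZ C.S_mem_NZ) (inv_mem C.y_mem_NZ))
        ⟨_, by rw [Units.val_mul, Units.val_mul, Matrix.det_units_conj]; exact det_S_cube C⟩ }
  have main : M' ≤ C.NZ ∨ ∀ g : G3, (g : M3).det = 1 → g ∈ M' := by
    by_cases hy : C.y ∈ M'
    · exact base hp hF hp2 ⟨hC.sc, hC.W, hC.S, hy⟩
    · refine HeisCsix.csix hp hF hp3 (fun h9 => hy (gen _ C.y_mem_NZ ?_)) hC hy
      obtain ⟨c, hc⟩ := exists_cube_root hp hF h9 (x := (Units.mk0 C.ω C.ne_zero) ^ 2) (Units.ext (by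
        rw [Units.val_pow_eq_pow_val, Units.val_pow_eq_pow_val, Units.val_mk0, ← pow_mul, mul_comm, pow_mul,
          C.cube, one_pow, Units.val_one]))
      refine ⟨(c : F), ?_⟩
      rw [det_y C, ← Units.val_pow_eq_pow_val, hc, Units.val_pow_eq_pow_val, Units.val_mk0]
  rcases main with h | h
  · left
    refine le_antisymm (le_inf (fun m hm => (hN m).2 (h ⟨1, ?_⟩)) hM2) hM1
    rwa [sc_one, one_mul, ψ.symm_apply_apply]
  · right
    refine le_antisymm hM2 fun g hg => ?_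
    obtain ⟨c, hc⟩ := h (ψ g) ((hSL g).1 hg)
    have e := (hSL _).1 (hM2 hc)
    rw [ψ.apply_symm_apply, Units.val_mul, Matrix.det_mul, det_sc3, (hSL g).1 hg, mul_one] at e
    have hs : ψ.symm (sc c) ∈ M := hM1 ⟨(hN _).2 (by rw [ψ.apply_symm_apply]; exact C.sc_mem_NZ c),
      (hSL _).2 (by rw [ψ.apply_symm_apply, det_sc3, e])⟩
    have := mul_mem (inv_mem hs) hc
    rwa [map_mul, inv_mul_cancel_left, ψ.symm_apply_apply] at this

end Cfsg.Agent.H55.SLThree.HeisClause
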