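import Cfsg.Agent.H55.SLThree.Torus

/-!
A subgroup of `SL₃(q)`, `q ≠ 4`, that contains the norm-one torus and an involution contains an elation.
-/

set_option autoImplicit false
set_option linter.style.haveILetI false

namespace Cfsg.Agent.H55.SLThree

open Module Matrix Cfsg.Agent.H95

open scoped MatrixGroups

variable {F : Type*} [Field F]

theorem exists_eq_vecMulVec (X : Matrix (Fin 3) (Fin 3) F)
    (h : finrank F (LinearMap.range (toLin' X)) ≤ 1) :
    ∃ a φ : Fin 3 → F, X = vecMulVec a φ := by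
  obtain ⟨w, hw⟩ := finrank_le_one_iff.1 h
  choose c hc using fun j => hw ⟨toLin' X (Pi.single j 1), LinearMap.mem_range_self _ _⟩
  refine ⟨(w : Fin 3 → F), c, Matrix.ext fun i j => ?_⟩
  have h1 := congrFun (congrArg Subtype.val (hc j)) i
  simp at h1
  simp [vecMulVec_apply, ← h1, mul_comm]

theorem det_one_sub_two (a φ : Fin 3 → F) :
    (1 - (2 : F) • vecMulVec a φ).det = 1 - 2 * (φ ⬝ᵥ a) := by
  rw [sub_eq_add_neg, ← neg_smul, ← smul_vecMulVec, vecMulVec_eq Unit,
    det_one_add_replicateCol_mul_replicateRow, dotProduct_smul, smul_eq_mul]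
  ring

theorem rank_add_le {P Q : Matrix (Fin 3) (Fin 3) F} (h : P * Q = 0) :
    finrank F (LinearMap.range (toLin' P)) + finrank F (LinearMap.range (toLin' Q)) ≤ 3 := by
  have h1 : LinearMap.range (toLin' Q) ≤ LinearMap.ker (toLin' P) := by
    rw [LinearMap.range_le_ker_iff, ← toLin'_mul, h, map_zero]
  have h2 := LinearMap.finrank_range_add_finrank_ker (toLin' P)
  have h3 := Submodule.finrank_mono h1
  rw [finrank_fin_fun] at h2
  omega

variable {E : Type*} [Field E] [Algebra F E] (ι : E →ₐ[F] Matrix (Fin 3) (Fin 3) F)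
  (M : Subgroup (GL (Fin 3) F))

/-- The homology with centre `x` and axis `b` lies in `M`. -/
def Hom' (x b : E) : Prop :=
  tau ι (b * x) = 1 ∧ ∃ g ∈ M, ((g : GL (Fin 3) F) : Matrix (Fin 3) (Fin 3) F) =
    -1 + (2 : F) • vecMulVec (ev ι x) (row ι b)

theorem hom_mul (a a' φ ψ : Fin 3 → F) (x : Fin 3 → F) :
    ((-1 + (2 : F) • vecMulVec a φ) * (-1 + (2 : F) • vecMulVec a' ψ)) *ᵥ x =
      x - (2 : F) • (ψ ⬝ᵥ x) • a' - (2 : F) • (φ ⬝ᵥ x) • a + (4 * (φ ⬝ᵥ a') * (ψ ⬝ᵥ x)) • a := by
  have hv : ∀ b χ y : Fin 3 → F, (-1 + (2 : F) • vecMulVec b χ) *ᵥ y = -y + (2 : F) • (χ ⬝ᵥ y) • b := by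
    intro b χ y
    rw [add_mulVec, neg_mulVec, one_mulVec, smul_mulVec, vecMulVec_mulVec]
    congr 1
    ext i
    simp [mul_comm]
  rw [← mulVec_mulVec, hv, hv, dotProduct_add, dotProduct_neg, dotProduct_smul, dotProduct_smul,
    smul_eq_mul, smul_eq_mul]
  module

variable [Fintype F] [Fintype E]

/-- `M` contains an elation. -/
def HasElation : Prop := ∃ a φ : Fin 3 → F, a ≠ 0 ∧ φ ≠ 0 ∧ InTv M a φ

variable {ι M}

theorem hom_eq_axis (h2 : (2 : F) ≠ 0) (hno : ¬ HasElation M) {x x' b : E} (h : Hom' ι M x b)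
    (h' : Hom' ι M x' b) : x = x' := by
  obtain ⟨hn, g, hg, he⟩ := h
  obtain ⟨hn', g', hg', he'⟩ := h'
  rw [← row_dot] at hn hn'
  by_contra hne
  refine hno ⟨(2 : F) • ev ι (x - x'), row ι b, smul_ne_zero h2 ?_, ?_, ?_, ?_⟩
  · exact fun h0 => hne (sub_eq_zero.1 (ev_injective ι (by rw [h0, map_zero])))
  · exact fun h0 => by rw [h0, zero_dotProduct] at hn; exact zero_ne_one hn
  · rw [map_sub, dotProduct_smul, dotProduct_sub, hn, hn', sub_self, smul_zero]
  · convert M.mul_mem hg hg' using 1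
    refine Units.ext (mat_ext fun v => ?_)
    rw [tv_mulVec, Units.val_mul, he, he', hom_mul, hn', map_sub]
    module

theorem hom_eq_centre (h2 : (2 : F) ≠ 0) (hno : ¬ HasElation M) {x b b' : E} (h : Hom' ι M x b)
    (h' : Hom' ι M x b') : b = b' := by
  obtain ⟨hn, g, hg, he⟩ := h
  obtain ⟨hn', g', hg', he'⟩ := h'
  rw [← row_dot] at hn hn'
  by_contra hne
  refine hno ⟨(2 : F) • ev ι x, row ι (b' - b), smul_ne_zero h2 ?_, ?_, ?_, ?_⟩
  · exact fun h0 => by rw [h0, dotProduct_zero] at hn; exact zero_ne_one hn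
  · exact fun h0 => hne (sub_eq_zero.1 (row_injective ι (by rw [h0, map_zero]))).symm
  · rw [map_sub, dotProduct_smul, sub_dotProduct, hn, hn', sub_self, smul_zero]
  · convert M.mul_mem hg hg' using 1
    refine Units.ext (mat_ext fun v => ?_)
    rw [tv_mulVec, Units.val_mul, he, he', hom_mul, hn, map_sub, sub_dotProduct]
    module

theorem hom_torus (hT : ∀ x : Eˣ, Algebra.norm F (x : E) = 1 → tor ι x ∈ M) {x b k : E}
    (hk : Algebra.norm F k = 1) (h : Hom' ι M x b) : Hom' ι M (k * x) (b * k⁻¹) := by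
  haveI : Finite E := inferInstance
  have hk0 : k ≠ 0 := fun h0 => by rw [h0, Algebra.norm_zero] at hk; exact zero_ne_one hk
  obtain ⟨hn, g, hg, he⟩ := h
  refine ⟨by rw [show b * k⁻¹ * (k * x) = b * x by field_simp]; exact hn,
    _, M.mul_mem (M.mul_mem (hT (Units.mk0 k hk0) hk) hg) (M.inv_mem (hT (Units.mk0 k hk0) hk)), ?_⟩
  rw [Units.val_mul, Units.val_mul, tor_val, ← map_inv, tor_val, he, Units.val_mk0,
    Units.val_inv_eq_inv_val, Units.val_mk0, mul_add, add_mul, mul_smul_comm, mul_vecMulVec, ev_mul,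
    smul_mul_assoc, vecMulVec_mul, row_mul, mul_neg, mul_one, neg_mul, ← map_mul, mul_inv_cancel₀ hk0,
    map_one]

theorem hom_fix (h2 : (2 : F) ≠ 0) (hno : ¬ HasElation M) {x b y c : E} (h : Hom' ι M x b)
    (h' : Hom' ι M y c) (hy : tau ι (b * y) = 0) : tau ι (c * x) = 0 := by
  obtain ⟨hn, g, hg, he⟩ := h
  have hgg : (g : Matrix (Fin 3) (Fin 3) F) * g = 1 := mat_ext fun v => by
    rw [← row_dot] at hn
    rw [he, hom_mul, hn, one_mulVec]
    module
  obtain ⟨hn', g', hg', he'⟩ := id h'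
  have key : Hom' ι M y (c - (2 * tau ι (c * x)) • b) := by
    refine ⟨by rw [sub_mul, smul_mul_assoc, map_sub, map_smul, hy, smul_zero, sub_zero, hn'],
      g * g' * g, M.mul_mem (M.mul_mem hg hg') hg, ?_⟩
    have e1 : (g : Matrix (Fin 3) (Fin 3) F) *ᵥ ev ι y = -ev ι y := by
      rw [he, add_mulVec, neg_mulVec, one_mulVec, smul_mulVec, vecMulVec_mulVec, row_dot, hy]
      simp
    have e2 : row ι c ᵥ* (g : Matrix (Fin 3) (Fin 3) F) = -row ι c + (2 * tau ι (c * x)) • row ι b := by
      rw [he, vecMul_add, vecMul_neg, vecMul_one, vecMul_smul, vecMul_vecMulVec, row_dot, smul_smul]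
    rw [Units.val_mul, Units.val_mul, he', mul_add, add_mul, mul_smul_comm, mul_vecMulVec, e1,
      smul_mul_assoc, vecMulVec_mul, e2, mul_neg, mul_one, neg_mul, hgg, map_sub, map_smul,
      neg_vecMulVec, ← vecMulVec_neg, neg_add, neg_neg, ← sub_eq_add_neg]
  have h1 := hom_eq_centre h2 hno h' key
  rw [eq_comm, sub_eq_self, smul_eq_zero] at h1
  have hb : b ≠ 0 := fun h0 => by rw [h0, zero_mul, map_zero] at hn; exact zero_ne_one hn
  exact (mul_eq_zero.1 (h1.resolve_right hb)).resolve_left h2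

/-- In odd characteristic a homology forces an elation. -/
theorem elation_of_hom (hE : finrank F E = 3) (hq4 : Fintype.card F ≠ 4) (h2 : (2 : F) ≠ 0)
    (hT : ∀ x : Eˣ, Algebra.norm F (x : E) = 1 → tor ι x ∈ M) {x b : E} (h : Hom' ι M x b) :
    HasElation M := by
  classical
  by_contra hno
  have hτ := tau_ne_zero ι
  set τ := tau ι
  have hn : τ (b * x) = 1 := h.1
  set a := b * x
  have ha : a ≠ 0 := fun h0 => by rw [h0, map_zero] at hn; exact zero_ne_one hn
  have hsym : ∀ z : E, z ≠ 0 → cls F z = 1 → τ (a * z) = 0 → τ (a * z⁻¹) = 0 := by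
    intro z hz hc h0
    have hc1 : cls F (1 : E) = 1 := by
      rw [← map_one (algebraMap F E)]; exact cls_algebraMap hE one_ne_zero
    obtain ⟨k, r, hr, hk, hzk⟩ := exists_norm_one hE one_ne_zero hz (hc1.trans hc.symm)
    rw [mul_one] at hzk
    subst hzk
    have h1 : τ (b * (k * x)) = 0 := by
      rw [mul_smul_comm, map_smul, smul_eq_zero] at h0
      rw [← h0.resolve_left hr]
      congr 1
      simp only [a]; ring
    have h3 := hom_fix h2 hno h (hom_torus hT hk h) h1
    have e : a * (r • k)⁻¹ = r⁻¹ • (b * k⁻¹ * x) := by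
      simp only [a, Algebra.smul_def, map_inv₀, mul_inv]; ring
    rw [e, map_smul, h3, smul_zero]
  obtain ⟨u, v, hbase⟩ := exists_line_pair (τ := τ) hE hτ ha
  have hcard := card_pt_eq hE hτ ha hbase (1 : Cls F)
  rw [mul_one] at hcard
  obtain ⟨hne0, hne2, -⟩ := nu_facts (τ := τ) hE hτ hq4 (cls F a)
  rw [← hcard] at hne0 hne2
  have hinv : ∀ o : Option F, cls F (pt u v o) = 1 → τ (a * (pt u v o)⁻¹) = 0 := fun o ho =>
    hsym _ (hbase.pt_ne_zero o) ho (hbase.pt_mem o)
  set S := Finset.univ.filter fun o : Option F => cls F (pt u v o) = 1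
  by_cases h3 : 3 ≤ S.card
  · obtain ⟨o₁, ho₁, o₂, ho₂, o₃, ho₃, h12, h13, h23⟩ := Finset.two_lt_card.1 h3
    simp only [S, Finset.mem_filter, Finset.mem_univ, true_and] at ho₁ ho₂ ho₃
    set p := pt u v o₁
    set p' := pt u v o₂
    have hp : p ≠ 0 := hbase.pt_ne_zero _
    have hp' : p' ≠ 0 := hbase.pt_ne_zero _
    have hind : ∀ o o' : Option F, o ≠ o' → ∀ t : F, pt u v o ≠ t • pt u v o' := fun o o' hoo t ht =>
      hoo ((hbase.smul_pt_inj (r := 1) (r' := t) one_ne_zero (by rw [one_smul]; exact ht)).2)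
    have hb2 : IsBase τ a p p' := ⟨hbase.pt_mem _, hbase.pt_mem _, hp, hind _ _ h12.symm⟩
    obtain ⟨r, hr, o, ho⟩ := hb2.exists_smul_pt hE hτ ha (hbase.pt_mem o₃) (hbase.pt_ne_zero _)
    cases o with
    | none => exact hind _ _ h13.symm r ho
    | some t =>
      have ht : t ≠ 0 := fun ht => hind _ _ h23.symm r (by rw [ho, pt, ht, zero_smul, add_zero])
      have htp : t • p ≠ 0 := smul_ne_zero ht hp
      have hq : t • p + p' = r⁻¹ • pt u v o₃ := by
        rw [ho, inv_smul_smul₀ hr]
        exact add_comm _ _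
      have hbi : IsBase τ a (t • p)⁻¹ p'⁻¹ := by
        refine ⟨?_, hinv _ ho₂, inv_ne_zero htp, fun w hw => ?_⟩
        · rw [Algebra.smul_def, mul_inv, ← map_inv₀, ← Algebra.smul_def, mul_smul_comm, map_smul,
            hinv _ ho₁, smul_zero]
        · have h4 := congrArg (fun z : E => z * (t • p * p')) hw
          simp only [Algebra.smul_def] at h4
          have hA : algebraMap F E t ≠ 0 := by simpa using ht
          field_simp at h4
          refine hind _ _ h12.symm (t / w) ?_
          have hw0 : w ≠ 0 := fun h0 => by rw [h0, map_zero] at h4; simp [ht, hp] at h4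
          show p' = (t / w) • p
          rw [Algebra.smul_def, map_div₀]
          have hW : algebraMap F E w ≠ 0 := by simpa using hw0
          field_simp
          linear_combination -h4
      have hsum : (t • p + p')⁻¹ ≠ 0 := inv_ne_zero (by rw [hq]; exact smul_ne_zero (inv_ne_zero hr) (hbase.pt_ne_zero _))
      have hsum' : τ (a * (t • p + p')⁻¹) = 0 := by
        rw [hq, Algebra.smul_def, mul_inv, ← map_inv₀, ← Algebra.smul_def, mul_smul_comm, map_smul,
          hinv _ ho₃, smul_zero]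
      obtain ⟨r', -, o', ho'⟩ := hbi.exists_smul_pt hE hτ ha hsum' hsum
      have hratio : t • p / p' ∉ Set.range (algebraMap F E) := by
        rintro ⟨w, hw⟩
        refine hind _ _ h12.symm (t / w) ?_
        rw [eq_div_iff hp'] at hw
        have hw0 : w ≠ 0 := fun h0 => by rw [h0, map_zero, zero_mul] at hw; exact htp hw.symm
        show p' = (t / w) • p
        rw [← Algebra.smul_def] at hw
        rw [div_eq_inv_mul, ← smul_smul, ← hw, inv_smul_smul₀ hw0]
      cases o' with
      | none => exact no_three_inverse hE htp hp' hratio r' 0 (by rw [ho', zero_smul, add_zero]; rfl)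
      | some s =>
        exact no_three_inverse hE htp hp' hratio (r' * s) r' (by rw [ho', pt, smul_add, smul_smul, add_comm])
  · have h1 : S.card = 1 := by omega
    obtain ⟨o, hS⟩ := Finset.card_eq_one.1 h1
    have ho : cls F (pt u v o) = 1 := by
      have : o ∈ S := hS ▸ Finset.mem_singleton_self o
      simpa [S] using this
    set z := pt u v o
    have hz : z ≠ 0 := hbase.pt_ne_zero o
    obtain ⟨r, hr, o', ho'⟩ := hbase.exists_smul_pt hE hτ ha (hinv o ho) (inv_ne_zero hz)
    have hc' : cls F (z⁻¹) = 1 := by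
      have h4 := cls_mul (F := F) (inv_ne_zero hz) hz
      rw [inv_mul_cancel₀ hz, ho, mul_one] at h4
      rw [← h4, ← map_one (algebraMap F E)]
      exact cls_algebraMap hE one_ne_zero
    have : o' ∈ S := by
      simp only [S, Finset.mem_filter, Finset.mem_univ, true_and]
      rwa [ho', cls_smul hE hr (hbase.pt_ne_zero o')] at hc'
    rw [hS, Finset.mem_singleton] at this
    subst this
    have hz2 : z ^ 2 = algebraMap F E r⁻¹ := by
      have h5 : (1 : E) = r • z * z := by
        rw [show r • z = z⁻¹ from ho'.symm, inv_mul_cancel₀ hz]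
      rw [map_inv₀]
      refine eq_inv_of_mul_eq_one_left ?_
      rw [h5, Algebra.smul_def]
      ring
    obtain ⟨w, hw⟩ := mem_range_of_sq hE hz2
    have h6 := hbase.pt_mem o'
    rw [show pt u v o' = z from rfl, ← hw, ← Algebra.commutes, ← Algebra.smul_def, map_smul, hn, smul_eq_mul,
      mul_one] at h6
    exact hz (by rw [← hw, h6, map_zero])

/-- An involution forces an elation. -/
theorem elation_of_involution (hE : finrank F E = 3) (hq4 : Fintype.card F ≠ 4)
    (hT : ∀ x : Eˣ, Algebra.norm F (x : E) = 1 → tor ι x ∈ M)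
    (hM : M ≤ Geo.specialLinear (Fin 3) F) {g : GL (Fin 3) F} (hg : g ∈ M) (hg1 : g ≠ 1)
    (hg2 : g * g = 1) : HasElation M := by
  have hdet : (g : Matrix (Fin 3) (Fin 3) F).det = 1 := by
    have h := hM hg
    rw [Geo.specialLinear, MonoidHom.mem_ker] at h
    simpa using congrArg Units.val h
  have hne : (g : Matrix (Fin 3) (Fin 3) F) ≠ 1 := fun h => hg1 (Units.ext h)
  have hgg : (g : Matrix (Fin 3) (Fin 3) F) * g = 1 := by rw [← Units.val_mul, hg2, Units.val_one]
  by_cases h2 : (2 : F) = 0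
  · set X : Matrix (Fin 3) (Fin 3) F := g - 1 with hX
    have hXX : X * X = 0 := by
      have : X * X = (2 : F) • (1 - (g : Matrix (Fin 3) (Fin 3) F)) := by
        rw [hX, sub_mul, mul_sub, hgg, one_mul, mul_one, two_smul]; abel
      rw [this, h2, zero_smul]
    have hr := rank_add_le hXX
    obtain ⟨a, φ, he⟩ := exists_eq_vecMulVec X (by omega)
    have hX0 : X ≠ 0 := fun h => hne (sub_eq_zero.1 h)
    have ha : a ≠ 0 := fun h => hX0 (by rw [he, h, zero_vecMulVec])
    have hφ : φ ≠ 0 := fun h => hX0 (by rw [he, h, vecMulVec_zero])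
    have hdot : φ ⬝ᵥ a = 0 := by
      have h3 := hXX
      rw [he, mul_vecMulVec, vecMulVec_mulVec] at h3
      by_contra hd
      obtain ⟨i, hi⟩ := Function.ne_iff.1 ha
      obtain ⟨j, hj⟩ := Function.ne_iff.1 hφ
      have h4 := congrFun (congrFun h3 i) j
      simp [vecMulVec_apply] at h4
      rcases h4 with h4 | h4
      · rcases h4 with h4 | h4
        · exact hd h4
        · exact hi h4
      · exact hj h4
    refine ⟨a, φ, ha, hφ, hdot, ?_⟩
    convert hg using 1
    exact Units.ext (by rw [tv_val, tvMat, ← he, hX]; abel)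
  · set P : Matrix (Fin 3) (Fin 3) F := (2 : F)⁻¹ • (1 + g) with hP
    set Q : Matrix (Fin 3) (Fin 3) F := (2 : F)⁻¹ • (1 - g) with hQ
    have hgP : (g : Matrix (Fin 3) (Fin 3) F) = -1 + (2 : F) • P := by
      rw [hP, smul_smul, mul_inv_cancel₀ h2, one_smul]; abel
    have hgQ : (g : Matrix (Fin 3) (Fin 3) F) = 1 - (2 : F) • Q := by
      rw [hQ, smul_smul, mul_inv_cancel₀ h2, one_smul]; abel
    have hPQ : P * Q = 0 := by
      rw [hP, hQ, smul_mul_smul_comm, add_mul, mul_sub, mul_sub, hgg, one_mul, one_mul, mul_one]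
      rw [show (1 : Matrix (Fin 3) (Fin 3) F) - g + (g - 1) = 0 by abel, smul_zero]
    have hneg : ((-1 : F)) ≠ 1 := fun h => h2 (by linear_combination -h)
    have hdiag : ∀ {a φ : Fin 3 → F}, ((2 : F)⁻¹ • (1 + (g : Matrix (Fin 3) (Fin 3) F))) = vecMulVec a φ ∨
        ((2 : F)⁻¹ • (1 - (g : Matrix (Fin 3) (Fin 3) F))) = vecMulVec a φ →
        vecMulVec a φ * vecMulVec a φ = vecMulVec a φ := by
      intro a φ h
      rcases h with h | h <;>
      · rw [← h, smul_mul_smul_comm]
        simp only [add_mul, mul_add, sub_mul, mul_sub, hgg, one_mul, mul_one]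
        match_scalars <;> field_simp <;> ring
    have hidem : ∀ {a φ : Fin 3 → F}, vecMulVec a φ * vecMulVec a φ = vecMulVec a φ →
        vecMulVec a φ ≠ 0 → φ ⬝ᵥ a = 1 := by
      intro a φ h h0
      rw [mul_vecMulVec, vecMulVec_mulVec] at h
      by_contra hd
      apply h0
      ext i j
      have h4 := congrFun (congrFun h i) j
      simp [vecMulVec_apply] at h4 ⊢
      have h5 : (a i * φ j) * (φ ⬝ᵥ a - 1) = 0 := by
        rcases h4 with h4 | h4
        · linear_combination (φ j) * h4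
        · rw [h4, mul_zero, zero_mul]
      simpa using (mul_eq_zero.1 h5).resolve_right (sub_ne_zero.2 hd)
    have hr := rank_add_le hPQ
    rcases (show finrank F (LinearMap.range (toLin' P)) ≤ 1 ∨ finrank F (LinearMap.range (toLin' Q)) ≤ 1 by
      omega) with hP1 | hQ1
    · obtain ⟨a, φ, he⟩ := exists_eq_vecMulVec P hP1
      have h0 : vecMulVec a φ ≠ 0 := by
        intro h0
        rw [hgP, he, h0, smul_zero, add_zero, Matrix.det_neg, Fintype.card_fin, det_one, mul_one] at hdet
        exact hneg (by linear_combination hdet)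
      have hd := hidem (hdiag (Or.inl (hP ▸ he))) h0
      obtain ⟨x, rfl⟩ := ev_surjective ι hE a
      obtain ⟨b, rfl⟩ := row_surjective ι hE φ
      exact elation_of_hom hE hq4 h2 hT ⟨by rw [← row_dot]; exact hd, g, hg, by rw [hgP, he]⟩
    · obtain ⟨a, φ, he⟩ := exists_eq_vecMulVec Q hQ1
      have h0 : vecMulVec a φ ≠ 0 := fun h0 => hne (by rw [hgQ, he, h0, smul_zero, sub_zero])
      have hd := hidem (hdiag (Or.inr (hQ ▸ he))) h0
      rw [hgQ, he, det_one_sub_two, hd] at hdet
      exact absurd (show (2 : F) = 0 by linear_combination -hdet) h2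

end Cfsg.Agent.H55.SLThree
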