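import Cfsg.Agent.H55.SLThree.Abelian
import Cfsg.Agent.S0205

/-!
A subgroup of `SL₃(q)` of odd order containing the norm-one torus normalises the cubic field.
-/

set_option autoImplicit false
set_option linter.style.haveILetI false

namespace Cfsg.Agent.H55.SLThree

open Module Matrix Cfsg.Agent.H95

open scoped MatrixGroups commutatorElement

variable {F : Type*} [Field F] {E : Type*} [Field E] [Algebra F E]

variable [Fintype F] [Fintype E] (ι : E →ₐ[F] Matrix (Fin 3) (Fin 3) F)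

variable {M : Subgroup (GL (Fin 3) F)}

/-- In a normal subgroup that is commutative modulo scalars and not commutative, everything is in the field. -/
theorem mem_range_of_scalar_comm (hE : finrank F E = 3)
    (hT : ∀ x : Eˣ, Algebra.norm F (x : E) = 1 → tor ι x ∈ M) (hM : M ≤ Geo.specialLinear (Fin 3) F)
    {L' : Subgroup (GL (Fin 3) F)} (hL'n : ∀ g ∈ M, ∀ l ∈ L', g * l * g⁻¹ ∈ L') (hL'M : ∀ l ∈ L', l ∈ M)
    (hz : ∀ a ∈ L', ∀ b ∈ L', ∃ z : F,
      (a : Matrix (Fin 3) (Fin 3) F) * b = z • ((b : Matrix (Fin 3) (Fin 3) F) * a))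
    {a b : GL (Fin 3) F} (ha : a ∈ L') (hb : b ∈ L') {z : F} (hzq : 1 + z + z ^ 2 = 0) (h3 : (3 : F) ≠ 0)
    (hzab : (a : Matrix (Fin 3) (Fin 3) F) * b = z • ((b : Matrix (Fin 3) (Fin 3) F) * a))
    (hq7 : 7 ≤ Fintype.card F) {c : GL (Fin 3) F} (hc : c ∈ L') :
    ∃ y : E, ι y = (c : Matrix (Fin 3) (Fin 3) F) := by
  classical
  obtain ⟨x, hN, hpow⟩ := exists_torus_gen (F := F) (E := E) hE
  set X := tor ι x with hX
  have hXk : ∀ k, X ^ k ∈ M := fun k => M.pow_mem (hT x hN) k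
  let C : ℕ → GL (Fin 3) F := fun k => X ^ k * c * (X ^ k)⁻¹
  have hC : ∀ k, C k ∈ L' := fun k => hL'n _ (hXk k) c hc
  choose za hza using fun k => hz _ (hC k) a ha
  choose zb hzb using fun k => hz _ (hC k) b hb
  have hcube : ∀ k, za k ^ 3 = 1 ∧ zb k ^ 3 = 1 := fun k =>
    ⟨smul_pow_three (det_val_of_mem (hM (hL'M a ha))) (hza k),
      smul_pow_three (det_val_of_mem (hM (hL'M b hb))) (hzb k)⟩
  set μ := Finset.univ.filter fun u : F => u ^ 3 = 1
  have hμ : μ.card ≤ 3 := by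
    refine (Finset.card_le_card (t := (Polynomial.nthRoots 3 (1 : F)).toFinset) fun u hu => ?_).trans
      ((Multiset.toFinset_card_le _).trans (Polynomial.card_nthRoots 3 1))
    simp only [μ, Finset.mem_filter, Finset.mem_univ, true_and] at hu
    simp [Polynomial.mem_nthRoots, hu]
  obtain ⟨k, hk, k', hk', hkk, heq⟩ := Finset.exists_ne_map_eq_of_card_lt_of_maps_to
    (s := Finset.range 10) (t := μ ×ˢ μ) (f := fun k => (za k, zb k)) (by
      rw [Finset.card_product, Finset.card_range]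
      have := Nat.mul_le_mul hμ hμ
      omega) (fun k _ => by simp [μ, (hcube k).1, (hcube k).2])
  simp only [Finset.mem_range] at hk hk'
  wlog hlt : k < k' generalizing k k'
  · exact this k' k hkk.symm heq.symm hk' hk (lt_of_le_of_ne (not_lt.1 hlt) hkk.symm)
  obtain ⟨j, rfl⟩ : ∃ j, k' = k + (j + 1) := ⟨k' - k - 1, by omega⟩
  simp only [Prod.mk.injEq] at heq
  have hcom : ∀ {h : GL (Fin 3) F} {u : F}, (C k : Matrix (Fin 3) (Fin 3) F) * h = u • ((h : Matrix (Fin 3) (Fin 3) F) * C k) →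
      (C (k + (j + 1)) : Matrix (Fin 3) (Fin 3) F) * h = u • ((h : Matrix (Fin 3) (Fin 3) F) * C (k + (j + 1))) →
      (((C k)⁻¹ * C (k + (j + 1)) : GL (Fin 3) F) : Matrix (Fin 3) (Fin 3) F) * h =
        h * (((C k)⁻¹ * C (k + (j + 1)) : GL (Fin 3) F) : Matrix (Fin 3) (Fin 3) F) := by
    intro h u h1 h2
    rw [Units.val_mul, mul_assoc, h2, ← smul_mul_assoc, ← mul_assoc, ← mul_assoc]
    congr 1
    calc ((C k)⁻¹ : GL (Fin 3) F).1 * (u • (h : Matrix (Fin 3) (Fin 3) F))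
        = ((C k)⁻¹ : GL (Fin 3) F).1 * (u • ((h : Matrix (Fin 3) (Fin 3) F) * C k)) *
            ((C k)⁻¹ : GL (Fin 3) F).1 := by
          rw [mul_assoc, smul_mul_assoc, mul_assoc, Units.mul_inv, mul_one]
      _ = _ := by rw [← h1, ← mul_assoc, Units.inv_mul, one_mul]
  obtain ⟨w, hw⟩ := scalar_of_commute a b hzq h3 hzab (hcom (hza k) (heq.1 ▸ hza _))
    (hcom (hzb k) (heq.2 ▸ hzb _))
  have hfin : (C (k + (j + 1)) : Matrix (Fin 3) (Fin 3) F) = w • (C k : Matrix (Fin 3) (Fin 3) F) := by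
    have h1 := congrArg ((C k : Matrix (Fin 3) (Fin 3) F) * ·) hw
    simp only [Units.val_mul, ← mul_assoc, Units.mul_inv, one_mul, mul_smul_comm, mul_one] at h1
    exact h1
  set Y := X ^ (j + 1)
  have hY : (Y : Matrix (Fin 3) (Fin 3) F) * c = w • ((c : Matrix (Fin 3) (Fin 3) F) * Y) := by
    have e : C (k + (j + 1)) = X ^ k * (Y * c * Y⁻¹) * (X ^ k)⁻¹ := by
      simp only [C, Y, pow_add, _root_.mul_inv_rev, mul_assoc]
    rw [e] at hfin
    simp only [C, Units.val_mul] at hfin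
    rw [← smul_mul_assoc, ← mul_smul_comm] at hfin
    have h1 := (Units.mul_left_inj _).1 hfin
    have h2 := (Units.mul_right_inj _).1 h1
    have h3 := congrArg (· * (Y : Matrix (Fin 3) (Fin 3) F)) h2
    simp only [mul_assoc, Units.inv_mul, mul_one, smul_mul_assoc] at h3
    exact h3
  have hYd : ¬ Fintype.card F ^ 2 + Fintype.card F + 1 ∣ 3 * (j + 1) := by
    intro hd
    have := Nat.le_of_dvd (by omega) hd
    nlinarith
  have hYr : ((x : E) ^ (j + 1)) ∉ Set.range (algebraMap F E) := hpow _ hYd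
  have hw0 : w ≠ 0 := fun h0 => by
    rw [h0, zero_smul] at hY
    exact (Units.isUnit Y).mul_right_eq_zero.1 hY |> (Units.ne_zero c)
  refine mem_range_of_conj ι hE hYr (by rw [map_pow, hN, one_pow]) (z := w⁻¹) ?_
  have hYv : (Y : Matrix (Fin 3) (Fin 3) F) = ι ((x : E) ^ (j + 1)) := by
    simp [Y, X]
  rw [← hYv, hY, smul_smul, inv_mul_cancel₀ hw0, one_smul]

/-- A subgroup of odd order containing the torus normalises the field. -/
theorem normalises_of_odd (hE : finrank F E = 3) (hT : ∀ x : Eˣ, Algebra.norm F (x : E) = 1 → tor ι x ∈ M)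
    (hM : M ≤ Geo.specialLinear (Fin 3) F) (hodd : Odd (Nat.card M)) (hq4 : Fintype.card F ≠ 4) {g : GL (Fin 3) F} (hg : g ∈ M) (e : E) :
    ∃ e' : E, ι e' = (g : Matrix (Fin 3) (Fin 3) F) * ι e * ((g⁻¹ : GL (Fin 3) F) : Matrix (Fin 3) (Fin 3) F) := by
  classical
  haveI : Group.IsSolvable M := Cfsg.Agent.S0205.result hodd
  obtain ⟨x, hN, hpow⟩ := exists_torus_gen (F := F) (E := E) hE
  have hq1 : 1 < Fintype.card F := Fintype.one_lt_card
  have hx1 : (x : E) ∉ Set.range (algebraMap F E) := by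
    simpa using hpow 1 (fun hd => by have := Nat.le_of_dvd (by norm_num) hd; nlinarith)
  have hscal : ∀ {h : GL (Fin 3) F} {c : F}, (h : Matrix (Fin 3) (Fin 3) F) = c • 1 → h ∈ Geo.scalars (Fin 3) F :=
    fun {h c} he => (Geo.mem_scalars_iff h).2 ⟨Units.mk0 c (fun h0 => by
      exact h.ne_zero (by rw [he, h0, zero_smul])), he⟩
  let Z : Subgroup M := (Geo.scalars (Fin 3) F).subgroupOf M
  have htop : ¬ (⊤ : Subgroup M) ≤ Z := fun h => by
    obtain ⟨c, hc⟩ := (Geo.mem_scalars_iff _).1 (h (Subgroup.mem_top ⟨tor ι x, hT x hN⟩))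
    refine hx1 ⟨(c : F), ev_injective ι ?_⟩
    rw [← mul_one (algebraMap F E (c : F)), ← ev_mul, ← mul_one (x : E), ← ev_mul, AlgHom.commutes,
      Algebra.algebraMap_eq_smul_one, ← hc]
    rfl
  obtain ⟨L, ⟨hLn, hLZ⟩, hmin⟩ := WellFounded.has_min (wellFounded_lt (α := Subgroup M))
    {L | L.Normal ∧ ¬ L ≤ Z} ⟨⊤, inferInstance, htop⟩
  have hcomm : ⁅L, L⁆ ≤ Z := by
    by_contra hc
    haveI := hLn
    exact hmin ⁅L, L⁆ ⟨inferInstance, hc⟩
      (Group.IsSolvable.commutator_lt_of_ne_bot fun h => hLZ (h ▸ bot_le))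
  let L' : Subgroup (GL (Fin 3) F) := L.map M.subtype
  have hL'n : ∀ g ∈ M, ∀ l ∈ L', g * l * g⁻¹ ∈ L' := by
    rintro g hg _ ⟨l, hl, rfl⟩
    exact ⟨_, hLn.conj_mem l hl ⟨g, hg⟩, rfl⟩
  have hL'M : ∀ l ∈ L', l ∈ M := by rintro _ ⟨l, -, rfl⟩; exact l.2
  have hz : ∀ a ∈ L', ∀ b ∈ L', ∃ z : F, (a : Matrix (Fin 3) (Fin 3) F) * b = z • ((b : Matrix (Fin 3) (Fin 3) F) * a) := by
    rintro _ ⟨a, ha, rfl⟩ _ ⟨b, hb, rfl⟩
    obtain ⟨c, hc⟩ := (Geo.mem_scalars_iff _).1 (hcomm (Subgroup.commutator_mem_commutator ha hb))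
    refine ⟨c, ?_⟩
    have e : (a : GL (Fin 3) F) * b = (⁅a, b⁆ : M) * ((b : GL (Fin 3) F) * a) := by
      simp [commutatorElement_def, mul_assoc]
    have := congrArg (fun t : GL (Fin 3) F => (t : Matrix (Fin 3) (Fin 3) F)) e
    simp only [Units.val_mul] at this
    simp only [Subgroup.coe_subtype] at hc
    rw [hc, smul_mul_assoc, one_mul] at this
    exact this
  obtain ⟨l, hl, hlZ⟩ := SetLike.not_le_iff_exists.1 hLZ
  have hlne : ∀ y : E, ι y = ((l : GL (Fin 3) F) : Matrix (Fin 3) (Fin 3) F) → y ∉ Set.range (algebraMap F E) := by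
    rintro y hy ⟨c, rfl⟩
    rw [AlgHom.commutes, Algebra.algebraMap_eq_smul_one] at hy
    exact hlZ (hscal hy.symm)
  suffices hmain : ∀ a ∈ L', ∃ y : E, ι y = (a : Matrix (Fin 3) (Fin 3) F) by
    obtain ⟨y, hy⟩ := hmain _ ⟨l, hl, rfl⟩
    let S : Subalgebra F E :=
      { carrier := {e | ∃ e' : E, ι e' = (g : Matrix (Fin 3) (Fin 3) F) * ι e *
          ((g⁻¹ : GL (Fin 3) F) : Matrix (Fin 3) (Fin 3) F)}
        mul_mem' := by
          rintro a b ⟨a', ha⟩ ⟨b', hb⟩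
          refine ⟨a' * b', ?_⟩
          rw [map_mul, map_mul, ha, hb]
          simp only [mul_assoc]
          rw [← mul_assoc ((g⁻¹ : GL (Fin 3) F) : Matrix (Fin 3) (Fin 3) F), Units.inv_mul, one_mul]
        one_mem' := ⟨1, by rw [map_one, mul_one, Units.mul_inv]⟩
        add_mem' := by
          rintro a b ⟨a', ha⟩ ⟨b', hb⟩
          exact ⟨a' + b', by rw [map_add, map_add, ha, hb, mul_add, add_mul]⟩
        zero_mem' := ⟨0, by rw [map_zero, mul_zero, zero_mul]⟩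
        algebraMap_mem' := fun r => ⟨algebraMap F E r, by
          rw [AlgHom.commutes, (Algebra.commutes r _).symm, mul_assoc, Units.mul_inv, mul_one]⟩ }
    have hyS : y ∈ S := by
      obtain ⟨y', hy'⟩ := hmain _ (hL'n g hg _ ⟨l, hl, rfl⟩)
      refine ⟨y', ?_⟩
      rw [hy', hy, Units.val_mul, Units.val_mul]
    have he : e ∈ S := by rw [eq_top_of_mem hE (hlne y hy) S hyS]; exact Algebra.mem_top
    exact he
  by_cases hab : ∀ a ∈ L', ∀ b ∈ L', a * b = b * a
  · exact fun a ha => range_of_commutative ι hE hT hL'n hab ha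
  exfalso
  push Not at hab
  obtain ⟨a, ha, b, hb, hne⟩ := hab
  obtain ⟨z, hzab⟩ := hz a ha b hb
  have hz3 : z ^ 3 = 1 := smul_pow_three (det_val_of_mem (hM (hL'M b hb))) hzab
  have hz1 : z ≠ 1 := fun h => hne (Units.ext (by rw [Units.val_mul, Units.val_mul, hzab, h, one_smul]))
  have hzq : 1 + z + z ^ 2 = 0 := by
    refine mul_left_cancel₀ (sub_ne_zero.2 hz1) ?_
    linear_combination hz3
  have h3 : (3 : F) ≠ 0 := fun h => hz1 (by
    have h' : (z - 1) ^ 3 = 0 := by linear_combination hz3 + (z - z ^ 2) * h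
    exact sub_eq_zero.1 (pow_eq_zero_iff (by norm_num : (3 : ℕ) ≠ 0) |>.1 h'))
  have hq7 : 7 ≤ Fintype.card F := by
    have hd : 3 ∣ Fintype.card F - 1 := by
      have h1 : orderOf z = 3 := by
        haveI := Fact.mk Nat.prime_three
        exact orderOf_eq_prime hz3 hz1
      rw [← h1]
      refine orderOf_dvd_of_pow_eq_one (FiniteField.pow_card_sub_one_eq_one z fun h0 => ?_)
      rw [h0] at hz3; norm_num at hz3
    omega
  obtain ⟨ya, hya⟩ := mem_range_of_scalar_comm ι hE hT hM hL'n hL'M hz ha hb hzq h3 hzab hq7 ha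
  obtain ⟨yb, hyb⟩ := mem_range_of_scalar_comm ι hE hT hM hL'n hL'M hz ha hb hzq h3 hzab hq7 hb
  exact hne (Units.ext (by rw [Units.val_mul, Units.val_mul, ← hya, ← hyb, ← map_mul, ← map_mul, mul_comm]))

end Cfsg.Agent.H55.SLThree
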