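import Cfsg.Agent.H55.SLThree.Torus
import Cfsg.Agent.H55.SLThree.Cube

/-!
Commutation up to scalars in `GL₃`.
-/

set_option autoImplicit false
set_option linter.style.haveILetI false

namespace Cfsg.Agent.H55.SLThree

open Module Matrix Cfsg.Agent.H95

open scoped MatrixGroups

variable {F : Type*} [Field F] {E : Type*} [Field E] [Algebra F E]

theorem conj_step {g A B : Matrix (Fin 3) (Fin 3) F} {u w : F} (hA : g * A = u • (A * g))
    (hB : g * B = w • (B * g)) : g * (A * B) = (u * w) • (A * B * g) := by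
  rw [← mul_assoc, hA, smul_mul_assoc, mul_assoc, hB, mul_smul_comm, smul_smul, ← mul_assoc]

theorem det_val_of_mem {g : GL (Fin 3) F} (hg : g ∈ Geo.specialLinear (Fin 3) F) :
    (g : Matrix (Fin 3) (Fin 3) F).det = 1 := by
  rw [Geo.specialLinear, MonoidHom.mem_ker] at hg
  simpa using congrArg Units.val hg

theorem smul_pow_three {g h : GL (Fin 3) F} (hh : (h : Matrix (Fin 3) (Fin 3) F).det = 1) {z : F}
    (hc : (g : Matrix (Fin 3) (Fin 3) F) * h = z • ((h : Matrix (Fin 3) (Fin 3) F) * g)) : z ^ 3 = 1 := by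
  have hg : (g : Matrix (Fin 3) (Fin 3) F).det ≠ 0 := (Matrix.isUnits_det_units g).ne_zero
  have h1 := congrArg Matrix.det hc
  rw [det_smul, det_mul, det_mul, Fintype.card_fin, hh, mul_one, one_mul] at h1
  exact mul_right_cancel₀ hg (by rw [one_mul, ← h1])

/-- Commuting up to a scalar with a non-scalar torus element puts a matrix in the field. -/
theorem mem_range_of_conj [Fintype F] [Fintype E] (ι : E →ₐ[F] Matrix (Fin 3) (Fin 3) F)
    (hE : finrank F E = 3) {x : E} (hx : x ∉ Set.range (algebraMap F E)) (hN : Algebra.norm F x = 1)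
    {g : GL (Fin 3) F} {z : F}
    (hc : (g : Matrix (Fin 3) (Fin 3) F) * ι x = z • (ι x * (g : Matrix (Fin 3) (Fin 3) F))) :
    ∃ e : E, ι e = g := by
  have hz : z ^ 3 = 1 := by
    have hx0 : x ≠ 0 := fun h => hx ⟨0, by rw [map_zero, h]⟩
    exact smul_pow_three (h := tor ι (Units.mk0 x hx0)) (by rw [tor_val, det_eq_norm ι hE]; exact hN) hc
  refine mem_range_of_commute ι hE (not_cube hE hx hN) ?_
  have h := conj_step (conj_step hc hc) hc
  rw [show z * z * z = z ^ 3 by ring, hz, one_smul] at h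
  rw [map_pow, pow_three', h]

/-- Three equations with the cube roots of unity. -/
theorem vand {z : F} (hz : 1 + z + z ^ 2 = 0) (h3 : (3 : F) ≠ 0) (T₀ T₁ T₂ : Matrix (Fin 3) (Fin 3) F)
    (e₀ : T₀ + T₁ + T₂ = 0) (e₁ : T₀ + z • T₁ + z ^ 2 • T₂ = 0) (e₂ : T₀ + z ^ 2 • T₁ + z • T₂ = 0) :
    T₀ = 0 ∧ T₁ = 0 ∧ T₂ = 0 := by
  have hz3 : z ^ 3 = 1 := by linear_combination (z - 1) * hz
  have key : ∀ T : Matrix (Fin 3) (Fin 3) F, (3 : F) • T = 0 → T = 0 := fun T hT =>
    (smul_eq_zero.1 hT).resolve_left h3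
  refine ⟨key _ ?_, key _ ?_, key _ ?_⟩
  · have e : (3 : F) • T₀ = (T₀ + T₁ + T₂) + (T₀ + z • T₁ + z ^ 2 • T₂) + (T₀ + z ^ 2 • T₁ + z • T₂) := by
      match_scalars <;>
        first
        | ring1
        | linear_combination hz
        | linear_combination -hz
        | linear_combination 2 * hz3
        | linear_combination -2 * hz3
        | linear_combination hz + z * hz3
        | linear_combination -hz - z * hz3
    rw [e, e₀, e₁, e₂, add_zero, add_zero]
  · have e : (3 : F) • T₁ = (T₀ + T₁ + T₂) + z ^ 2 • (T₀ + z • T₁ + z ^ 2 • T₂) +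
        z • (T₀ + z ^ 2 • T₁ + z • T₂) := by
      match_scalars <;>
        first
        | ring1
        | linear_combination hz
        | linear_combination -hz
        | linear_combination 2 * hz3
        | linear_combination -2 * hz3
        | linear_combination hz + z * hz3
        | linear_combination -hz - z * hz3
    rw [e, e₀, e₁, e₂, smul_zero, smul_zero, add_zero, add_zero]
  · have e : (3 : F) • T₂ = (T₀ + T₁ + T₂) + z • (T₀ + z • T₁ + z ^ 2 • T₂) +
        z ^ 2 • (T₀ + z ^ 2 • T₁ + z • T₂) := by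
      match_scalars <;>
        first
        | ring1
        | linear_combination hz
        | linear_combination -hz
        | linear_combination 2 * hz3
        | linear_combination -2 * hz3
        | linear_combination hz + z * hz3
        | linear_combination -hz - z * hz3
    rw [e, e₀, e₁, e₂, smul_zero, smul_zero, add_zero, add_zero]

/-- Two elements commuting up to a primitive cube root of unity have only scalars commuting with both. -/
theorem scalar_of_commute (a b : GL (Fin 3) F) {z : F} (hz : 1 + z + z ^ 2 = 0) (h3 : (3 : F) ≠ 0)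
    (hab : (a : Matrix (Fin 3) (Fin 3) F) * b = z • ((b : Matrix (Fin 3) (Fin 3) F) * a))
    {m : Matrix (Fin 3) (Fin 3) F} (ha : m * a = a * m) (hb : m * b = b * m) :
    ∃ c : F, m = c • (1 : Matrix (Fin 3) (Fin 3) F) := by
  set A : Matrix (Fin 3) (Fin 3) F := (a : Matrix (Fin 3) (Fin 3) F) with hA
  set B : Matrix (Fin 3) (Fin 3) F := (b : Matrix (Fin 3) (Fin 3) F) with hB
  have hz3 : z ^ 3 = 1 := by linear_combination (z - 1) * hz
  have hz0 : z ≠ 0 := fun h => by rw [h] at hz3; norm_num at hz3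
  have hAA : A * A = (1 : F) • (A * A) := (one_smul F _).symm
  have hba : B * A = z ^ 2 • (A * B) := by
    rw [hab, smul_smul, ← pow_succ, hz3, one_smul]
  let cA : Matrix (Fin 3) (Fin 3) F →ₗ[F] Matrix (Fin 3) (Fin 3) F :=
    (LinearMap.mulRight F ((a⁻¹ : GL (Fin 3) F) : Matrix (Fin 3) (Fin 3) F)) ∘ₗ (LinearMap.mulLeft F A)
  let cB : Matrix (Fin 3) (Fin 3) F →ₗ[F] Matrix (Fin 3) (Fin 3) F :=
    (LinearMap.mulRight F ((b⁻¹ : GL (Fin 3) F) : Matrix (Fin 3) (Fin 3) F)) ∘ₗ (LinearMap.mulLeft F B)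
  have hcA : ∀ {X : Matrix (Fin 3) (Fin 3) F} {u : F}, A * X = u • (X * A) → cA X = u • X := by
    intro X u h
    show A * X * ((a⁻¹ : GL (Fin 3) F) : Matrix (Fin 3) (Fin 3) F) = u • X
    rw [h, smul_mul_assoc, mul_assoc, Units.mul_inv, mul_one]
  have hcB : ∀ {X : Matrix (Fin 3) (Fin 3) F} {u : F}, B * X = u • (X * B) → cB X = u • X := by
    intro X u h
    show B * X * ((b⁻¹ : GL (Fin 3) F) : Matrix (Fin 3) (Fin 3) F) = u • X
    rw [h, smul_mul_assoc, mul_assoc, Units.mul_inv, mul_one]
  have hA1 : A * (1 : Matrix (Fin 3) (Fin 3) F) = (1 : F) • (1 * A) := by rw [mul_one, one_mul, one_smul]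
  have hB1 : B * (1 : Matrix (Fin 3) (Fin 3) F) = (1 : F) • (1 * B) := by rw [mul_one, one_mul, one_smul]
  have hAi : ∀ i : ℕ, A * A ^ i = (1 : F) • (A ^ i * A) := fun i => by
    rw [one_smul]; exact (Commute.self_pow A i).eq
  have hABj : ∀ j : ℕ, A * B ^ j = z ^ j • (B ^ j * A) := fun j => by
    induction j with
    | zero => simpa using hA1
    | succ j ih => rw [pow_succ, pow_succ z]; exact conj_step ih hab
  have hBAi : ∀ i : ℕ, B * A ^ i = (z ^ 2) ^ i • (A ^ i * B) := fun i => by
    induction i with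
    | zero => simpa using hB1
    | succ i ih => rw [pow_succ, pow_succ (z ^ 2)]; exact conj_step ih hba
  have eA : ∀ i j : ℕ, cA (A ^ i * B ^ j) = z ^ j • (A ^ i * B ^ j) := fun i j => by
    have := conj_step (hAi i) (hABj j)
    rw [one_mul] at this
    exact hcA this
  have eB : ∀ i : ℕ, cB (A ^ i) = (z ^ 2) ^ i • (A ^ i) := fun i => hcB (hBAi i)
  have hli : LinearIndependent F (fun p : Fin 3 × Fin 3 => A ^ (p.1 : ℕ) * B ^ (p.2 : ℕ)) := by
    rw [Fintype.linearIndependent_iff]
    intro c hc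
    let T : Fin 3 → Matrix (Fin 3) (Fin 3) F := fun j => ∑ i : Fin 3, c (i, j) • (A ^ (i : ℕ) * B ^ (j : ℕ))
    have hT : ∀ j, cA (T j) = z ^ (j : ℕ) • T j := fun j => by
      simp only [T, map_sum, map_smul, eA, Finset.smul_sum]
      exact Finset.sum_congr rfl fun i _ => smul_comm _ _ _
    have e₀ : T 0 + T 1 + T 2 = 0 := by
      rw [← hc, Fintype.sum_prod_type_right, Fin.sum_univ_three]
    have e₁ := congrArg cA e₀
    simp only [map_add, map_zero, hT] at e₁
    have e₂ := congrArg cA e₁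
    simp only [map_add, map_zero, map_smul, hT, smul_smul] at e₂
    simp only [Fin.val_zero, Fin.val_one, Fin.val_two, pow_zero, pow_one, mul_one, one_smul] at e₁ e₂
    rw [show z * z = z ^ 2 by ring, show z ^ 2 * z ^ 2 = z by linear_combination z * hz3] at e₂
    obtain ⟨t₀, t₁, t₂⟩ := vand hz h3 _ _ _ e₀ e₁ e₂
    have hT0 : ∀ j, T j = 0 := fun j => by fin_cases j <;> assumption
    rintro ⟨i, j⟩
    let U : Fin 3 → Matrix (Fin 3) (Fin 3) F := fun k => c (k, j) • A ^ (k : ℕ)
    have hU : U 0 + U 1 + U 2 = 0 := by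
      have h := hT0 j
      simp only [T, Fin.sum_univ_three, ← smul_mul_assoc, ← add_mul] at h
      have hBu : IsUnit (B ^ (j : ℕ)) := (Units.isUnit b).pow _
      exact hBu.mul_left_eq_zero.1 h
    have hUc : ∀ k, cB (U k) = (z ^ 2) ^ (k : ℕ) • U k := fun k => by
      simp only [U, map_smul, eB]
      exact smul_comm _ _ _
    have f₁ := congrArg cB hU
    simp only [map_add, map_zero, hUc] at f₁
    have f₂ := congrArg cB f₁
    simp only [map_add, map_zero, map_smul, hUc, smul_smul] at f₂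
    simp only [Fin.val_zero, Fin.val_one, Fin.val_two, pow_zero, pow_one, mul_one, one_smul] at f₁ f₂
    have hw : (z ^ 2) ^ 2 = z := by linear_combination z * hz3
    rw [hw] at f₁ f₂
    rw [show z ^ 2 * z ^ 2 = z by linear_combination z * hz3, show z * z = z ^ 2 by ring] at f₂
    obtain ⟨u₀, u₁, u₂⟩ := vand hz h3 _ _ _ hU f₂ f₁
    have hU0 : ∀ k, U k = 0 := fun k => by fin_cases k <;> assumption
    refine (smul_eq_zero.1 (hU0 i)).resolve_right ?_
    exact ((Units.isUnit a).pow _).ne_zero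
  have hspan := hli.span_eq_top_of_card_eq_finrank (by
    rw [Module.finrank_matrix, Module.finrank_self, Fintype.card_prod, Fintype.card_fin])
  have hcomm : ∀ X : Matrix (Fin 3) (Fin 3) F, Commute X m := by
    intro X
    have hX : X ∈ Submodule.span F (Set.range fun p : Fin 3 × Fin 3 => A ^ (p.1 : ℕ) * B ^ (p.2 : ℕ)) :=
      hspan ▸ Submodule.mem_top
    induction hX using Submodule.span_induction with
    | mem x hx =>
      obtain ⟨p, rfl⟩ := hx
      exact (Commute.pow_left (Commute.symm ha) _).mul_left (Commute.pow_left (Commute.symm hb) _)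
    | zero => exact Commute.zero_left m
    | add x y _ _ h h' => exact h.add_left h'
    | smul c x _ h => exact h.smul_left c
  obtain ⟨c, hc⟩ := Matrix.mem_range_scalar_of_commute_single (M := m) fun i j _ => hcomm _
  exact ⟨c, by rw [← hc, Matrix.smul_one_eq_diagonal, Matrix.scalar_apply]⟩

end Cfsg.Agent.H55.SLThree
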