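import Cfsg.Agent.H55.SLThree.Invol
import Cfsg.Agent.H55.SLThree.Odd

/-!
The normaliser of a cubic field is maximal in `SL₃(q)` for `q ≠ 4` (clause (3) of S5774).
-/

set_option autoImplicit false
set_option linter.style.haveILetI false

namespace Cfsg.Agent.H55.SLThree

open Module Matrix Cfsg.Agent.H95

open scoped MatrixGroups

variable {F : Type*} [Field F] [Fintype F]

/-- A subgroup of `SL₃` containing the norm-one torus normalises the field or is everything. -/
theorem le_or_ge {E : Type*} [Field E] [Algebra F E] [Fintype E] (ι : E →ₐ[F] Matrix (Fin 3) (Fin 3) F)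
    (hE : finrank F E = 3) (hq4 : Fintype.card F ≠ 4) {M : Subgroup (GL (Fin 3) F)}
    (hT : ∀ x : Eˣ, Algebra.norm F (x : E) = 1 → tor ι x ∈ M) (hM : M ≤ Geo.specialLinear (Fin 3) F) :
    (∀ g ∈ M, ∀ e : E, ∃ e' : E,
      ι e' = (g : Matrix (Fin 3) (Fin 3) F) * ι e * ((g⁻¹ : GL (Fin 3) F) : Matrix (Fin 3) (Fin 3) F)) ∨
    Geo.specialLinear (Fin 3) F ≤ M := by
  rcases Nat.even_or_odd (Nat.card M) with hev | hodd
  · refine Or.inr ?_
    haveI := Fact.mk Nat.prime_two
    obtain ⟨t, ht⟩ := exists_prime_orderOf_dvd_card' (G := M) 2 (even_iff_two_dvd.1 hev)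
    obtain ⟨a, φ, ha, hφ, h⟩ := elation_of_involution (ι := ι) hE hq4 hT hM t.2
      (fun h1 => by
        rw [show t = 1 from Subtype.ext h1, orderOf_one] at ht
        omega)
      (by
        have h2 := pow_orderOf_eq_one t
        rw [ht, sq] at h2
        exact congrArg Subtype.val h2)
    exact specialLinear_le_of_elation ι hE hq4 M hT ha hφ h
  · exact Or.inl fun g hg e => normalises_of_odd ι hE hT hM hodd hq4 hg e

/-- Clause (3) of S5774: the normaliser of a cubic field is maximal in `SL₃(q)`, `q ≠ 4`. -/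
theorem singer_maximal (hq4 : Fintype.card F ≠ 4) (K : Subalgebra F (Matrix (Fin 3) (Fin 3) F))
    (hK : Geo.IsFieldSubalgebra 3 K) :
    Geo.IsMaximalIn (Geo.specialLinear (Fin 3) F)
      (Geo.subalgebraNormalizer K ⊓ Geo.specialLinear (Fin 3) F) := by
  classical
  have hfield : IsField K :=
    { exists_pair_ne := ⟨0, 1, fun h => zero_ne_one (congrArg Subtype.val h : (0 : Matrix (Fin 3) (Fin 3) F) = 1)⟩
      mul_comm := fun a b => Subtype.ext (hK.comm _ a.2 _ b.2)
      mul_inv_cancel := fun {a} ha => by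
        obtain ⟨y, hy, h⟩ := hK.inv a.1 a.2 (fun h => ha (Subtype.ext h))
        exact ⟨⟨y, hy⟩, Subtype.ext h⟩ }
  letI : Field K := hfield.toField
  haveI : Fintype K := Fintype.ofFinite _
  have hE : finrank F K = 3 := hK.finrank_eq
  let ι : K →ₐ[F] Matrix (Fin 3) (Fin 3) F := K.val
  set N := Geo.subalgebraNormalizer K
  set SL := Geo.specialLinear (Fin 3) F
  have hT : ∀ x : Kˣ, Algebra.norm F (x : K) = 1 → tor ι x ∈ N ⊓ SL := by
    intro x hx
    refine ⟨fun k => ?_, tor_mem_specialLinear ι hE hx⟩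
    have hmem : ∀ y : K, (ι y : Matrix (Fin 3) (Fin 3) F) ∈ K := fun y => y.2
    rw [tor_val, ← map_inv, tor_val]
    constructor
    · intro hk
      exact K.mul_mem (K.mul_mem (hmem _) hk) (hmem _)
    · intro hk
      have h := K.mul_mem (K.mul_mem (hmem (x⁻¹ : Kˣ)) hk) (hmem (x : K))
      rwa [← mul_assoc, ← mul_assoc, ← map_mul, Units.inv_mul, map_one, one_mul, mul_assoc, ← map_mul,
        Units.inv_mul, map_one, mul_one] at h
  refine ⟨lt_of_le_of_ne inf_le_right fun heq => ?_, fun M hNM hMS => ?_⟩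
  · -- a transvection does not normalise `K`
    let a : Fin 3 → F := Pi.single 0 1
    let φ : Fin 3 → F := Pi.single 1 1
    have h0 : φ ⬝ᵥ a = 0 := by simp [a, φ]
    have hne : tvMat a φ ≠ 1 := fun h => by
      have := congrFun (congrFun h 0) 1
      simp [tvMat, a, φ, vecMulVec_apply] at this
    have htN : tv a φ h0 ∈ N := (heq.ge (tv_mem_specialLinear a φ h0)).1
    obtain ⟨k, hk⟩ : ∃ k : K, k ∉ Set.range (algebraMap F K) := by
      by_contra hc
      push Not at hc
      have h1 : finrank F K ≤ finrank F F :=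
        LinearMap.finrank_le_finrank_of_surjective (f := Algebra.linearMap F K) fun y => hc y
      rw [hE, finrank_self] at h1
      omega
    let L : (Fin 3 → F) →ₗ[F] (Fin 2 → F) :=
      { toFun := fun v => ![φ ⬝ᵥ v, φ ⬝ᵥ (ι k *ᵥ v)]
        map_add' := fun u v => by ext i; fin_cases i <;> simp [dotProduct_add, mulVec_add]
        map_smul' := fun c v => by ext i; fin_cases i <;> simp [dotProduct_smul, mulVec_smul] }
    obtain ⟨v, hv, hv0⟩ := (LinearMap.ker L).exists_mem_ne_zero_of_ne_bot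
      (LinearMap.ker_ne_bot_of_finrank_lt (by simp))
    have e0 : φ ⬝ᵥ v = 0 := by simpa [L] using congrFun (LinearMap.mem_ker.1 hv) 0
    have e1 : φ ⬝ᵥ (ι k *ᵥ v) = 0 := by simpa [L] using congrFun (LinearMap.mem_ker.1 hv) 1
    have hk' := (htN (ι k)).1 k.2
    rw [tv_val, tv_inv_val] at hk'
    set k' : K := ⟨_, hk'⟩
    have hk'v : ι k' *ᵥ v = ι k *ᵥ v := by
      show (tvMat a φ * ι k * tvMat a (-φ)) *ᵥ v = _
      rw [← mulVec_mulVec, tvMat_mulVec, neg_dotProduct, e0, neg_zero, zero_smul, add_zero, ← mulVec_mulVec,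
        tvMat_mulVec, e1, zero_smul, add_zero]
    have hkk : k' = k := by
      by_contra hne'
      have hd : k' - k ≠ 0 := sub_ne_zero.2 hne'
      apply hv0
      rw [← one_mulVec v, ← map_one ι, ← inv_mul_cancel₀ hd, map_mul, ← mulVec_mulVec, map_sub, sub_mulVec,
        hk'v, sub_self, mulVec_zero]
    obtain ⟨e, he⟩ : ∃ e : K, ι e = tvMat a φ := by
      refine mem_range_of_commute ι hE hk ?_
      have h2 : (tvMat a φ * ι k * tvMat a (-φ)) * tvMat a φ = ι k * tvMat a φ := by
        rw [show tvMat a φ * ι k * tvMat a (-φ) = ι k' from rfl, hkk]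
      rwa [mul_assoc, tvMat_neg_mul a φ h0, mul_one] at h2
    have hsq : (e - 1) * (e - 1) = 0 := by
      apply Subtype.ext
      show ι ((e - 1) * (e - 1)) = 0
      rw [map_mul, map_sub, he, map_one, tvMat, add_sub_cancel_left, mul_vecMulVec, vecMulVec_mulVec, h0]
      ext i j
      simp [vecMulVec_apply]
    exact hne (by rw [← he, sub_eq_zero.1 (mul_self_eq_zero.1 hsq), map_one])
  · rcases le_or_ge ι hE hq4 (fun x hx => hNM (hT x hx)) hMS with h | h
    · refine Or.inl (le_antisymm (fun g hg => ⟨fun k => ⟨fun hk => ?_, fun hk => ?_⟩, hMS hg⟩) hNM)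
      · obtain ⟨e', he⟩ := h g hg ⟨k, hk⟩
        change (e' : Matrix (Fin 3) (Fin 3) F) = _ * k * _ at he
        exact he ▸ e'.2
      · obtain ⟨e', he⟩ := h g⁻¹ (M.inv_mem hg) ⟨_, hk⟩
        change (e' : Matrix (Fin 3) (Fin 3) F) = _ * (_ * k * _) * _ at he
        rw [inv_inv, ← mul_assoc, ← mul_assoc, Units.inv_mul, one_mul, mul_assoc, Units.inv_mul, mul_one] at he
        exact he ▸ e'.2
    · exact Or.inr (le_antisymm hMS h)

end Cfsg.Agent.H55.SLThree
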