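import Cfsg.Prelude.Def_GeometricClasses
import Cfsg.Agent.H95.Trans
import Cfsg.Agent.H55.SLThree.Config

/-!
An embedded cubic field `ι : E → M₃(F)`: vectors and covectors as elements of `E`, and the elation
configuration of a subgroup containing the norm-one torus.
-/

set_option autoImplicit false
set_option linter.style.haveILetI false

namespace Cfsg.Agent.H55.SLThree

open Module Matrix Cfsg.Agent.H95

open scoped MatrixGroups

variable {F : Type*} [Field F] {E : Type*} [Field E] [Algebra F E]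
  (ι : E →ₐ[F] Matrix (Fin 3) (Fin 3) F)

/-- The vector of an element of `E`. -/
def ev : E →ₗ[F] (Fin 3 → F) :=
  (LinearMap.applyₗ (Pi.single 0 1 : Fin 3 → F)) ∘ₗ Matrix.toLin'.toLinearMap ∘ₗ ι.toLinearMap

/-- The covector of an element of `E`. -/
def row : E →ₗ[F] (Fin 3 → F) := (LinearMap.proj (0 : Fin 3)) ∘ₗ ι.toLinearMap

/-- The functional pairing them. -/
def tau : E →ₗ[F] F := (LinearMap.proj (0 : Fin 3)) ∘ₗ ev ι

theorem ev_apply (x : E) : ev ι x = ι x *ᵥ Pi.single 0 1 := rfl

theorem row_apply (b : E) : row ι b = ι b 0 := rfl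

theorem tau_one : tau ι 1 = 1 := by
  show (ι 1 *ᵥ Pi.single 0 1) 0 = 1
  simp [map_one]

theorem tau_ne_zero : tau ι ≠ 0 := fun h => by
  simpa [h] using tau_one ι

theorem ev_mul (x y : E) : ι x *ᵥ ev ι y = ev ι (x * y) := by
  rw [ev_apply, ev_apply, mulVec_mulVec, map_mul]

theorem row_mul (b k : E) : row ι b ᵥ* ι k = row ι (b * k) := by
  rw [row_apply, row_apply, map_mul]
  rfl

theorem row_dot (b y : E) : row ι b ⬝ᵥ ev ι y = tau ι (b * y) := by
  show (ι b *ᵥ ev ι y) 0 = ev ι (b * y) 0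
  rw [ev_mul]

theorem ev_injective : Function.Injective (ev ι) := by
  rw [injective_iff_map_eq_zero]
  intro x hx
  by_contra h
  have h1 : ι x⁻¹ *ᵥ ev ι x = ev ι 1 := by rw [ev_mul, inv_mul_cancel₀ h]
  rw [hx, mulVec_zero] at h1
  have h2 := congrFun h1 0
  simp [ev_apply, map_one] at h2

theorem row_injective : Function.Injective (row ι) := by
  rw [injective_iff_map_eq_zero]
  intro x hx
  by_contra h
  have h1 : row ι x ᵥ* ι x⁻¹ = row ι 1 := by rw [row_mul, mul_inv_cancel₀ h]
  rw [hx, zero_vecMul] at h1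
  have h2 := congrFun h1 0
  simp [row_apply, map_one] at h2

include ι in
theorem finiteDimensional_of_emb : FiniteDimensional F E :=
  FiniteDimensional.of_injective (ev ι) (ev_injective ι)

theorem ev_surjective (hE : finrank F E = 3) : Function.Surjective (ev ι) := by
  haveI := finiteDimensional_of_emb ι
  exact (LinearMap.injective_iff_surjective_of_finrank_eq_finrank (by rw [hE, finrank_fin_fun])).1
    (ev_injective ι)

theorem row_surjective (hE : finrank F E = 3) : Function.Surjective (row ι) := by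
  haveI := finiteDimensional_of_emb ι
  exact (LinearMap.injective_iff_surjective_of_finrank_eq_finrank (by rw [hE, finrank_fin_fun])).1
    (row_injective ι)

/-- The linear bijection between `E` and `F³`. -/
noncomputable def evEquiv (hE : finrank F E = 3) : E ≃ₗ[F] (Fin 3 → F) :=
  LinearEquiv.ofBijective (ev ι) ⟨ev_injective ι, ev_surjective ι hE⟩

theorem det_eq_norm (hE : finrank F E = 3) (x : E) : (ι x).det = Algebra.norm F x := by
  rw [Algebra.norm_apply, ← LinearMap.det_conj (Algebra.lmul F E x) (evEquiv ι hE), ← LinearMap.det_toLin']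
  congr 1
  refine LinearMap.ext fun v => ?_
  obtain ⟨y, rfl⟩ := (evEquiv ι hE).surjective v
  simp only [LinearEquiv.conj_apply, LinearMap.comp_apply, LinearEquiv.coe_coe, LinearEquiv.symm_apply_apply,
    toLin'_apply]
  show ι x *ᵥ ev ι y = ev ι (x * y)
  rw [ev_mul]

/-- An element commuting with a non-scalar element of the field lies in the field. -/
theorem mem_range_of_commute (hE : finrank F E = 3) {x : E} (hx : x ∉ Set.range (algebraMap F E))
    {m : Matrix (Fin 3) (Fin 3) F} (h : m * ι x = ι x * m) : ∃ e : E, ι e = m := by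
  let A : Subalgebra F E := (Subalgebra.centralizer F {m}).comap ι
  have hmem : ∀ e, e ∈ A ↔ m * ι e = ι e * m := fun e => by simp [A, Subalgebra.mem_centralizer_iff]
  have htop := eq_top_of_mem hE hx A ((hmem x).2 h)
  obtain ⟨e, he⟩ := ev_surjective ι hE (m *ᵥ ev ι 1)
  refine ⟨e, mat_ext fun v => ?_⟩
  obtain ⟨y, rfl⟩ := ev_surjective ι hE v
  have hy : m * ι y = ι y * m := (hmem y).1 (htop ▸ Algebra.mem_top)
  rw [ev_mul, mul_comm, ← ev_mul, he, mulVec_mulVec, ← hy, ← mulVec_mulVec, ev_mul, mul_one]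

/-- The units of the field as matrices. -/
def tor : Eˣ →* GL (Fin 3) F := Units.map (ι : E →* Matrix (Fin 3) (Fin 3) F)

@[simp] theorem tor_val (x : Eˣ) : (tor ι x : Matrix (Fin 3) (Fin 3) F) = ι x := rfl

theorem tor_mem_specialLinear (hE : finrank F E = 3) {x : Eˣ} (hx : Algebra.norm F (x : E) = 1) :
    tor ι x ∈ Geo.specialLinear (Fin 3) F := by
  rw [Geo.specialLinear, MonoidHom.mem_ker]
  exact Units.ext (by rw [Matrix.GeneralLinearGroup.val_det_apply, tor_val, det_eq_norm ι hE, hx]; rfl)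

theorem norm_of_det (hE : finrank F E = 3) {g : GL (Fin 3) F} (hg : g ∈ Geo.specialLinear (Fin 3) F)
    {x : E} (hx : ι x = g) : Algebra.norm F x = 1 := by
  rw [← det_eq_norm ι hE, hx]
  rw [Geo.specialLinear, MonoidHom.mem_ker] at hg
  simpa using congrArg Units.val hg

section InTv

variable {H : Subgroup (GL (Fin 3) F)} {a b φ ψ : Fin 3 → F}

theorem InTv.neg_right (h : InTv H a φ) : InTv H a (-φ) := by
  refine ⟨by simp [h.1], ?_⟩
  convert H.inv_mem h.2 using 1
  exact Units.ext rfl

theorem InTv.neg_left (h : InTv H a φ) : InTv H (-a) φ := by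
  have h' := InTv.neg_right h
  rw [← neg_one_smul F φ] at h'
  have := inTv_smul_left h' h.1
  rwa [neg_one_smul] at this

theorem inTv_scal (t : F) (h : φ ⬝ᵥ a = 0) : InTv H (t • a) φ ↔ InTv H a (t • φ) := by
  refine ⟨fun h' => ⟨by simp [h], ?_⟩, fun h' => inTv_smul_left h' h⟩
  convert h'.2 using 1
  exact Units.ext (tvMat_smul_left t a φ).symm

theorem tv_inv_val (h : φ ⬝ᵥ a = 0) :
    (((tv a φ h)⁻¹ : GL (Fin 3) F) : Matrix (Fin 3) (Fin 3) F) = tvMat a (-φ) := rfl

theorem vecMul_tvMat (χ : Fin 3 → F) : χ ᵥ* tvMat a φ = χ + (χ ⬝ᵥ a) • φ := by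
  rw [tvMat, vecMul_add, vecMul_one, vecMul_vecMulVec]

theorem InTv.conj_tv (h : InTv H a φ) (h' : InTv H b ψ) :
    InTv H (a + (ψ ⬝ᵥ a) • b) (φ - (φ ⬝ᵥ b) • ψ) := by
  have h1 := h.conj h'.2
  rw [tv_val, tv_inv_val h'.1, tvMat_mulVec, vecMul_tvMat, smul_neg, ← sub_eq_add_neg] at h1
  exact h1

theorem InTv.comm (h : InTv H a φ) (h' : InTv H b ψ) (h0 : ψ ⬝ᵥ a = 0) :
    InTv H a ((φ ⬝ᵥ b) • ψ) := by
  have h1 := (InTv.conj_tv h' h).add_left (?_ : InTv H (-b) (ψ - (ψ ⬝ᵥ a) • φ))
  · rw [h0, zero_smul, sub_zero, show b + (φ ⬝ᵥ b) • a + -b = (φ ⬝ᵥ b) • a by abel] at h1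
    exact (inTv_scal _ h0).1 h1
  · rw [h0, zero_smul, sub_zero]
    exact InTv.neg_left h'

end InTv

variable [Fintype F] [Fintype E]

/-- The elation configuration of a subgroup containing the norm-one torus. -/
def cfg (hE : finrank F E = 3) (M : Subgroup (GL (Fin 3) F))
    (hT : ∀ x : Eˣ, Algebra.norm F (x : E) = 1 → tor ι x ∈ M) : Cfg (tau ι) where
  D := fun x b => InTv M (ev ι x) (row ι b)
  incid := fun h => by rw [← row_dot]; exact h.1
  zero_left := fun a => by rw [map_zero]; exact inTv_zero_left _ _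
  zero_right := fun x => by rw [map_zero]; exact inTv_zero_right _ _
  add_left := fun h h' => by rw [map_add]; exact h.add_left h'
  add_right := fun h h' => by rw [map_add]; exact h.add_right h'
  scal := fun t h => by rw [map_smul, map_smul]; exact inTv_scal t (by rw [row_dot]; exact h)
  smul_norm := fun {x a k} hk h => by
    have hk0 : k ≠ 0 := fun h0 => by rw [h0, Algebra.norm_zero] at hk; exact zero_ne_one hk
    have h1 := h.conj (hT (Units.mk0 k hk0) hk)
    rw [tor_val, ← map_inv, tor_val, Units.val_mk0, Units.val_inv_eq_inv_val, Units.val_mk0, ev_mul, row_mul,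
      mul_comm a] at h1
    exact h1
  comm := fun {x a y b} h h' hb => by
    rw [map_smul, ← row_dot]
    exact InTv.comm h h' (by rw [row_dot]; exact hb)
  conj := fun {x a y b} h h' => by
    rw [map_add, map_sub, map_smul, map_smul, ← row_dot, ← row_dot]
    exact InTv.conj_tv h h'

/-- With one elation a subgroup containing the torus contains the special linear group (`q ≠ 4`). -/
theorem specialLinear_le_of_elation (hE : finrank F E = 3) (hq4 : Fintype.card F ≠ 4)
    (M : Subgroup (GL (Fin 3) F)) (hT : ∀ x : Eˣ, Algebra.norm F (x : E) = 1 → tor ι x ∈ M)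
    {a φ : Fin 3 → F} (ha : a ≠ 0) (hφ : φ ≠ 0) (h : InTv M a φ) : Geo.specialLinear (Fin 3) F ≤ M := by
  obtain ⟨c, rfl⟩ := ev_surjective ι hE a
  obtain ⟨b, rfl⟩ := row_surjective ι hE φ
  have hc : c ≠ 0 := fun h0 => ha (by rw [h0, map_zero])
  have hb : b ≠ 0 := fun h0 => hφ (by rw [h0, map_zero])
  refine specialLinear_le fun a' φ' h' => ?_
  obtain ⟨x, rfl⟩ := ev_surjective ι hE a'
  obtain ⟨e, rfl⟩ := row_surjective ι hE φ'
  exact (cfg ι hE M hT).full hE (tau_ne_zero ι) hq4 hc hb h x e (by rw [← row_dot]; exact h')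

end Cfsg.Agent.H55.SLThree
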